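import Cfsg.Agent.HalfPrime.Coord
import Cfsg.Agent.Perm.BurnsidePrime

/-!
# Prime degree with a large Sylow normaliser: first consequences
-/

set_option autoImplicit false
set_option linter.style.haveILetI false

namespace CfsgLib.HalfPrime

open MulAction CfsgLib.Perm

variable {G Ω : Type*} [Group G] [Finite G] [MulAction G Ω] [FaithfulSMul G Ω] {p : ℕ}

omit [Finite G] in
/-- The standing facts in an insoluble group of prime degree. -/
theorem setup [Fact p.Prime] (hΩ : Nat.card Ω = p) [IsPretransitive G Ω]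
    (hns : ¬ Group.IsSolvable G) : 3 < p ∧ IsMultiplyPretransitive G Ω 2 := by
  classical
  have hp : p.Prime := Fact.out
  haveI : Finite Ω := Nat.finite_of_card_ne_zero (by rw [hΩ]; exact hp.ne_zero)
  haveI := Fintype.ofFinite Ω
  have hΩ' : Fintype.card Ω = p := by rw [← Nat.card_eq_fintype_card]; exact hΩ
  let R := (toPermHom G Ω).range
  haveI : IsPretransitive R Ω := ⟨fun x y => by
    obtain ⟨g, hg⟩ := exists_smul_eq G x y
    exact ⟨⟨_, g, rfl⟩, hg⟩⟩
  have hR : ¬ Group.IsSolvable R := fun h => hns <|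
    Group.isSolvable_of_isSolvable_injective
      (MonoidHom.rangeRestrict_injective_iff.2 toPerm_injective :
        Function.Injective (toPermHom G Ω).rangeRestrict)
  refine ⟨not_le.1 fun h => hR (PrimeDegree.isSolvable_of_card_le_three hΩ' h R),
    is_two_pretransitive_iff.2 fun {a b c d} hab hcd => ?_⟩
  haveI := (PrimeDegree.burnside hΩ' R).resolve_left hR
  obtain ⟨⟨_, g, rfl⟩, h1, h2⟩ := is_two_pretransitive_iff.1 (inferInstance :
    IsMultiplyPretransitive R Ω 2) hab hcd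
  exact ⟨g, h1, h2⟩

omit [Finite G] [FaithfulSMul G Ω] in
/-- Triple transitivity from transitivity of two point stabilisers. -/
theorem three_of_related [IsMultiplyPretransitive G Ω 2]
    (h : ∀ a b x y : Ω, a ≠ b → x ≠ a → x ≠ b → y ≠ a → y ≠ b →
      ∃ g : G, g • a = a ∧ g • b = b ∧ g • x = y) : IsMultiplyPretransitive G Ω 3 := by
  refine isMultiplyPretransitive_iff.2 fun s t => ?_
  obtain ⟨g, h0, h1⟩ := exists_smul_pair (G := G)
    (s.injective.ne (show (0 : Fin 3) ≠ 1 by decide)) (t.injective.ne (show (0 : Fin 3) ≠ 1 by decide))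
  obtain ⟨k, k0, k1, k2⟩ := h (t 0) (t 1) (g • s 2) (t 2)
    (t.injective.ne (by decide))
    (h0 ▸ (MulAction.injective g).ne (s.injective.ne (show (2 : Fin 3) ≠ 0 by decide)))
    (h1 ▸ (MulAction.injective g).ne (s.injective.ne (show (2 : Fin 3) ≠ 1 by decide)))
    (t.injective.ne (show (2 : Fin 3) ≠ 0 by decide))
    (t.injective.ne (show (2 : Fin 3) ≠ 1 by decide))
  refine ⟨k * g, Function.Embedding.ext fun i => ?_⟩
  rw [Function.Embedding.smul_apply, mul_smul]
  fin_cases i <;> simp_all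

omit [Finite G] [FaithfulSMul G Ω] in
/-- If some two point stabiliser moves a given point of the rest to every other, all do. -/
theorem related_of_pair [IsMultiplyPretransitive G Ω 2] {a b : Ω} (hab : a ≠ b)
    (h : ∀ x y : Ω, x ≠ a → x ≠ b → y ≠ a → y ≠ b → ∃ g : G, g • a = a ∧ g • b = b ∧ g • x = y)
    (c d x y : Ω) (hcd : c ≠ d) (hxc : x ≠ c) (hxd : x ≠ d) (hyc : y ≠ c) (hyd : y ≠ d) :
    ∃ g : G, g • c = c ∧ g • d = d ∧ g • x = y := by
  obtain ⟨k, hka, hkb⟩ := exists_smul_pair (G := G) hab hcd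
  have hne : ∀ z w : Ω, z ≠ k • w → k⁻¹ • z ≠ w := fun z w hz e => hz (by rw [← e, smul_inv_smul])
  obtain ⟨g, ga, gb, gx⟩ := h (k⁻¹ • x) (k⁻¹ • y) (hne _ _ (hka.symm ▸ hxc))
    (hne _ _ (hkb.symm ▸ hxd)) (hne _ _ (hka.symm ▸ hyc)) (hne _ _ (hkb.symm ▸ hyd))
  refine ⟨k * g * k⁻¹, ?_, ?_, ?_⟩
  · rw [← hka, mul_smul, mul_smul, inv_smul_smul, ga]
  · rw [← hkb, mul_smul, mul_smul, inv_smul_smul, gb]
  · rw [mul_smul, mul_smul, gx, smul_inv_smul]

end CfsgLib.HalfPrime
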