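import Mathlib

/-!
# Steiner triple systems with a group transitive on triangles

If the number of points `n` has `3 ∤ n - 3`, then such a system is a projective space over the field
with two elements: the third point operation is associative on triangles.  The two point
stabiliser of the subsystem generated by a triangle acts regularly outside the line, and so
contains exactly three involutions, which commute.
-/

set_option autoImplicit false
set_option linter.style.haveILetI false

namespace CfsgLib.HalfPrime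

/-- A Steiner triple system given by its third point operation (idempotent on the diagonal). -/
structure Steiner (Ω : Type*) where
  /-- The third point. -/
  op : Ω → Ω → Ω
  idem : ∀ x, op x x = x
  comm : ∀ x y, op x y = op y x
  inv : ∀ x y, op x (op x y) = y

namespace Steiner

variable {Ω : Type*} (S : Steiner Ω)

/-- The operation is cancellative. -/
theorem cancel {x y z : Ω} (h : S.op x y = S.op x z) : y = z := by
  rw [← S.inv x y, h, S.inv]

/-- Right cancellation. -/
theorem cancel_right {x y z : Ω} (h : S.op y x = S.op z x) : y = z :=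
  S.cancel (x := x) (by rwa [S.comm x, S.comm x])

/-- A triangle. -/
def Tri (a b z : Ω) : Prop := a ≠ b ∧ z ≠ a ∧ z ≠ b ∧ z ≠ S.op a b

/-- A subsystem. -/
def Closed (X : Set Ω) : Prop := ∀ x ∈ X, ∀ y ∈ X, S.op x y ∈ X

/-- The subsystem generated by three points. -/
def span (a b z : Ω) : Set Ω := {u | ∀ X, S.Closed X → a ∈ X → b ∈ X → z ∈ X → u ∈ X}

theorem span_closed (a b z : Ω) : S.Closed (S.span a b z) :=
  fun x hx y hy X hX ha hb hz => hX x (hx X hX ha hb hz) y (hy X hX ha hb hz)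

theorem span_le {a b z : Ω} {X : Set Ω} (hX : S.Closed X) (ha : a ∈ X) (hb : b ∈ X) (hz : z ∈ X) :
    S.span a b z ⊆ X := fun _ hu => hu X hX ha hb hz

theorem mem_fst (a b z : Ω) : a ∈ S.span a b z := fun _ _ h _ _ => h
theorem mem_snd (a b z : Ω) : b ∈ S.span a b z := fun _ _ _ h _ => h
theorem mem_trd (a b z : Ω) : z ∈ S.span a b z := fun _ _ _ _ h => h

variable {G : Type*} [Group G] [MulAction G Ω]
  (heq : ∀ (g : G) (x y : Ω), g • S.op x y = S.op (g • x) (g • y))

include heq in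
theorem smul_mem_span {a b z u : Ω} (g : G) (hu : u ∈ S.span a b z) :
    g • u ∈ S.span (g • a) (g • b) (g • z) := by
  intro X hX ha hb hz
  exact hu {w | g • w ∈ X} (fun x hx y hy => by
    show g • S.op x y ∈ X
    rw [heq]
    exact hX _ hx _ hy) ha hb hz

include heq in
theorem image_span (g : G) (a b z : Ω) :
    (fun u => g • u) '' S.span a b z = S.span (g • a) (g • b) (g • z) := by
  refine Set.Subset.antisymm (Set.image_subset_iff.2 fun u hu => S.smul_mem_span heq g hu)
    fun u hu => ⟨g⁻¹ • u, ?_, smul_inv_smul g u⟩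
  have h := S.smul_mem_span heq g⁻¹ hu
  simpa only [inv_smul_smul] using h

variable [Finite Ω]
  (htri : ∀ {a b z a' b' z' : Ω}, S.Tri a b z → S.Tri a' b' z' →
    ∃ g : G, g • a = a' ∧ g • b = b' ∧ g • z = z')

include heq htri in
/-- Every triangle of a generated subsystem generates it. -/
theorem span_eq {a b z x y u : Ω} (h : S.Tri a b z) (h' : S.Tri x y u) (hx : x ∈ S.span a b z)
    (hy : y ∈ S.span a b z) (hu : u ∈ S.span a b z) : S.span x y u = S.span a b z := by
  obtain ⟨g, ga, gb, gz⟩ := htri h h'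
  refine Set.eq_of_subset_of_ncard_le (S.span_le (S.span_closed a b z) hx hy hu) ?_ (Set.toFinite _)
  rw [← ga, ← gb, ← gz, ← S.image_span heq g a b z,
    Set.ncard_image_of_injective _ (MulAction.injective g)]

include heq htri in
/-- In a triangle transitive system with `3 ∤ n - 3` the operation is associative on triangles. -/
theorem assoc_of_triangleTransitive (h3 : ¬ 3 ∣ Nat.card Ω - 3) {a b z : Ω} (h : S.Tri a b z) :
    S.op (S.op a b) z = S.op a (S.op b z) := by
  classical
  obtain ⟨hab, hza, hzb, hzc⟩ := id h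
  set c := S.op a b with hc
  let ℓ : Set Ω := {a, b, c}
  have hca : c ≠ a := fun e => hab (S.cancel (x := a) (by rw [← hc, e, S.idem])).symm
  have hcb : c ≠ b := fun e => hab (S.cancel (x := b) (by rw [S.comm, ← hc, e, S.idem]))
  have hℓclosed : S.Closed ℓ := by
    have h1 : S.op a c = b := S.inv a b
    have h2 : S.op b c = a := by rw [hc, S.comm a b, S.inv]
    rintro x (rfl | rfl | rfl) y (rfl | rfl | rfl)
    · exact Or.inl (S.idem _)
    · exact Or.inr (Or.inr rfl)
    · exact Or.inr (Or.inl h1)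
    · exact Or.inr (Or.inr (S.comm _ _))
    · exact Or.inr (Or.inl (S.idem _))
    · exact Or.inl h2
    · exact Or.inr (Or.inl ((S.comm _ _).trans h1))
    · exact Or.inl ((S.comm _ _).trans h2)
    · exact Or.inr (Or.inr (S.idem _))
  have hout : ∀ e ∈ ℓ, ∀ u ∉ ℓ, S.op e u ∉ ℓ := fun e he u hu h' => hu (by
    rw [← S.inv e u]
    exact hℓclosed e he _ h')
  have htriℓ : ∀ u, u ∉ ℓ → S.Tri a b u := fun u hu =>
    ⟨hab, fun e => hu (Or.inl e), fun e => hu (Or.inr (Or.inl e)),
      fun e => hu (Or.inr (Or.inr e))⟩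
  have hzℓ : z ∉ ℓ := by
    rintro (e | e | e)
    exacts [hza e, hzb e, hzc e]
  set W := S.span a b z with hW
  have hℓW : ℓ ⊆ W := by
    rintro x (rfl | rfl | rfl)
    exacts [S.mem_fst _ _ _, S.mem_snd _ _ _,
      S.span_closed a b z a (S.mem_fst _ _ _) b (S.mem_snd _ _ _)]
  have hWu : ∀ u ∈ W, u ∉ ℓ → S.span a b u = W := fun u hu hu' =>
    S.span_eq heq htri h (htriℓ u hu') (S.mem_fst _ _ _) (S.mem_snd _ _ _) hu
  -- three does not divide the number of points of `W` outside the line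
  have h3W : ¬ 3 ∣ (W \ ℓ).ncard := by
    intro hdvd
    apply h3
    haveI := Fintype.ofFinite Ω
    let U : Finset Ω := Finset.univ.filter (· ∉ ℓ)
    have hcardU : U.card = Nat.card Ω - 3 := by
      have hℓ3 : ℓ.ncard = 3 := Set.ncard_eq_three.2 ⟨a, b, c, hab, hca.symm, hcb.symm, rfl⟩
      have : U = Finset.univ \ ℓ.toFinset := by ext; simp [U]
      rw [this, Finset.card_sdiff_of_subset (Finset.subset_univ _), Finset.card_univ,
        ← Nat.card_eq_fintype_card, Set.ncard_eq_toFinset_card' ℓ] at *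
      rw [hℓ3]
    rw [← hcardU, Finset.card_eq_sum_card_image (fun u => S.span a b u) U]
    refine Finset.dvd_sum fun X hX => ?_
    obtain ⟨v, hv, rfl⟩ := Finset.mem_image.1 hX
    have hvℓ : v ∉ ℓ := (Finset.mem_filter.1 hv).2
    have hfib : ((U.filter fun u => S.span a b u = S.span a b v) : Set Ω) = S.span a b v \ ℓ := by
      ext u
      simp only [Finset.coe_filter, Set.mem_ofPred_eq, U, Finset.mem_filter, Finset.mem_univ,
        true_and, Set.mem_sdiff]
      refine ⟨fun ⟨hu, he⟩ => ⟨he ▸ S.mem_trd _ _ _, hu⟩, fun ⟨hu, hu'⟩ => ⟨hu', ?_⟩⟩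
      exact S.span_eq heq htri (htriℓ v hvℓ) (htriℓ u hu') (S.mem_fst _ _ _) (S.mem_snd _ _ _) hu
    obtain ⟨g, ga, gb, gz⟩ := htri h (htriℓ v hvℓ)
    have himg : (fun u => g • u) '' (W \ ℓ) = S.span a b v \ ℓ := by
      rw [Set.image_sdiff (MulAction.injective g), hW, S.image_span heq, ga, gb, gz,
        show (fun u => g • u) '' ℓ = ℓ by
          simp only [ℓ, Set.image_insert_eq, Set.image_singleton, hc, heq, ga, gb]]
    rw [← Set.ncard_coe_finset, hfib, ← himg,
      Set.ncard_image_of_injective _ (MulAction.injective g)]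
    exact hdvd
  -- the group induced on `W`
  let K : Subgroup (Equiv.Perm W) :=
    { carrier := {σ | ∃ g : G, g • a = a ∧ g • b = b ∧ ∀ w : W, g • (w : Ω) = σ w}
      one_mem' := ⟨1, one_smul _ _, one_smul _ _, fun w => one_smul _ _⟩
      mul_mem' := fun {σ τ} ⟨g, ga, gb, gw⟩ ⟨k, ka, kb, kw⟩ =>
        ⟨g * k, by rw [mul_smul, ka, ga], by rw [mul_smul, kb, gb],
          fun w => by rw [mul_smul, kw, gw]; rfl⟩
      inv_mem' := fun {σ} ⟨g, ga, gb, gw⟩ => ⟨g⁻¹, inv_smul_eq_iff.2 ga.symm,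
        inv_smul_eq_iff.2 gb.symm, fun w => by rw [inv_smul_eq_iff, gw, ← Equiv.Perm.mul_apply,
          mul_inv_cancel, Equiv.Perm.one_apply]⟩ }
  have hKc : ∀ σ ∈ K, ∀ e ∈ ℓ, ∀ he : e ∈ W, (σ ⟨e, he⟩ : Ω) = e := by
    rintro σ ⟨g, ga, gb, gw⟩ e he' he
    rw [← gw]
    rcases he' with rfl | rfl | rfl
    · exact ga
    · exact gb
    · show g • S.op a b = S.op a b
      rw [heq, ga, gb]
  have hKout : ∀ σ ∈ K, ∀ w : W, (w : Ω) ∉ ℓ → (σ w : Ω) ∉ ℓ := by
    intro σ hσ w hw hw'
    have := hKc σ hσ _ hw' (σ w).2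
    exact hw (Subtype.ext_iff.1 (σ.injective (Subtype.ext this)) ▸ hw')
  -- agreement at one point outside the line
  have hKfree : ∀ σ ∈ K, ∀ τ ∈ K, ∀ w : W, (w : Ω) ∉ ℓ → σ w = τ w → σ = τ := by
    intro σ hσ τ hτ w hw hst
    obtain ⟨g, ga, gb, gw⟩ := hσ
    obtain ⟨k, ka, kb, kw⟩ := hτ
    have hX : S.Closed {x | g • x = k • x} := fun x hx y hy => by
      show g • S.op x y = k • S.op x y
      rw [heq, heq, show g • x = k • x from hx, show g • y = k • y from hy]
    refine Equiv.ext fun x => Subtype.ext ?_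
    rw [← gw, ← kw]
    exact S.span_le hX (ga.trans ka.symm) (gb.trans kb.symm)
      (show g • (w : Ω) = k • (w : Ω) by rw [gw, kw, hst]) (by rw [hWu w w.2 hw]; exact x.2)
  have hKex : ∀ (g : G), g • a = a → g • b = b → ∀ w : W, (w : Ω) ∉ ℓ → g • (w : Ω) ∈ W →
      ∃ σ ∈ K, ∀ x : W, g • (x : Ω) = σ x := by
    intro g ga gb w hw hgw
    have hgℓ : g • (w : Ω) ∉ ℓ := by
      intro hmem
      have hfix : ∀ e ∈ ℓ, g • e = e := by
        rintro e (rfl | rfl | rfl)
        exacts [ga, gb, by rw [hc, heq, ga, gb]]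
      exact hw (MulAction.injective g (hfix _ hmem).symm ▸ hmem)
    have himg : (fun u => g • u) '' W = W := by
      rw [← hWu w w.2 hw, S.image_span heq, ga, gb, hWu _ hgw hgℓ, hWu w w.2 hw]
    let σ : Equiv.Perm W := (MulAction.toPerm g : Equiv.Perm Ω).subtypePerm fun x => by
      show g • x ∈ W ↔ x ∈ W
      constructor
      · intro hx
        obtain ⟨y, hy, hye⟩ := himg.symm ▸ hx
        exact MulAction.injective g hye ▸ hy
      · intro hx
        rw [← himg]
        exact ⟨x, hx, rfl⟩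
    exact ⟨σ, ⟨g, ga, gb, fun _ => rfl⟩, fun _ => rfl⟩
  let z₀ : W := ⟨z, S.mem_trd _ _ _⟩
  have hKcard : Nat.card K = (W \ ℓ).ncard := by
    rw [← Nat.card_coe_set_eq]
    refine Nat.card_eq_of_bijective (fun σ => ⟨(σ.1 z₀ : Ω), (σ.1 z₀).2, hKout _ σ.2 z₀ hzℓ⟩)
      ⟨fun σ τ hστ => Subtype.ext (hKfree _ σ.2 _ τ.2 z₀ hzℓ (Subtype.ext (congrArg Subtype.val hστ :))),
        fun u => ?_⟩
    obtain ⟨g, ga, gb, gz⟩ := htri h (htriℓ u.1 u.2.2)
    obtain ⟨σ, hσ, hσg⟩ := hKex g ga gb z₀ hzℓ (by rw [gz]; exact u.2.1)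
    exact ⟨⟨σ, hσ⟩, Subtype.ext ((hσg z₀).symm.trans gz)⟩
  -- involutions of the group
  have hinvol : ∀ σ ∈ K, σ ≠ 1 → σ * σ = 1 → ∀ w : W, (w : Ω) ∉ ℓ →
      ∃ e ∈ ℓ, (σ w : Ω) = S.op e w := by
    intro σ hσ hσ1 hσ2 w hw
    refine ⟨S.op w (σ w), ?_, by rw [S.comm (S.op _ _) _, S.inv]⟩
    by_contra hne
    apply hσ1
    refine hKfree σ hσ 1 K.one_mem ⟨_, S.span_closed a b z _ w.2 _ (σ w).2⟩ hne ?_
    obtain ⟨g, ga, gb, gw⟩ := hσ
    refine Subtype.ext ?_
    rw [← gw]
    show g • S.op w (σ w) = S.op w (σ w)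
    rw [heq, gw, gw, ← Equiv.Perm.mul_apply, hσ2, Equiv.Perm.one_apply, S.comm]
  have hexists : ∀ e ∈ ℓ, ∃ σ ∈ K, σ ≠ 1 ∧ σ * σ = 1 ∧ (σ z₀ : Ω) = S.op e z := by
    intro e he
    obtain ⟨e', he', hee⟩ : ∃ e' ∈ ℓ, e' ≠ e := by
      by_cases hea : e = a
      · exact ⟨b, Or.inr (Or.inl rfl), fun h' => hab (hea.symm.trans h'.symm)⟩
      · exact ⟨a, Or.inl rfl, fun h' => hea h'.symm⟩
    have hze : z ≠ S.op e z := fun h' => hzℓ (by
      rw [show z = e from S.cancel_right (x := z) ((S.idem z).trans h')]; exact he)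
    have hez : S.op z (S.op e z) = e := by rw [S.comm e z, S.inv]
    have ht : S.Tri z (S.op e z) e' :=
      ⟨hze, fun h' => hzℓ (h' ▸ he'), fun h' => hout e he z hzℓ (h' ▸ he'), fun h' => hee (h'.trans hez)⟩
    have ht' : S.Tri (S.op e z) z e' := ⟨hze.symm, ht.2.2.1, ht.2.1, fun h' => hee
      (h'.trans ((S.comm _ _).trans hez))⟩
    obtain ⟨g, g1, g2, g3⟩ := htri ht ht'
    have ge : g • e = e := by rw [← hez, heq, g1, g2, S.comm]
    have gline : ∀ x ∈ ℓ, g • x = x := by
      intro x hx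
      have hpair : x = e ∨ x = e' ∨ x = S.op e e' := by
        have h1 : S.op a b = c := rfl
        have h2 : S.op a c = b := S.inv a b
        have h3 : S.op b c = a := by rw [hc, S.comm a b, S.inv]
        simp only [ℓ, Set.mem_insert_iff, Set.mem_singleton_iff] at he he' hx
        rcases he with he | he | he <;> rcases he' with he' | he' | he' <;>
          rcases hx with hx | hx | hx <;> rw [he, he', hx] <;>
          first
            | exact absurd (he'.trans he.symm) hee
            | exact Or.inl rfl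
            | exact Or.inr (Or.inl rfl)
            | exact Or.inr (Or.inr (by simp only [h1, h2, h3, S.comm b a, S.comm c a, S.comm c b]))
      rcases hpair with rfl | rfl | rfl
      exacts [ge, g3, by rw [heq, ge, g3]]
    have ga := gline a (Or.inl rfl)
    have gb := gline b (Or.inr (Or.inl rfl))
    obtain ⟨σ, hσ, hσg⟩ := hKex g ga gb z₀ hzℓ (by
      rw [g1]
      exact S.span_closed a b z e (hℓW he) z (S.mem_trd _ _ _))
    have hv : (σ z₀ : Ω) = S.op e z := (hσg z₀).symm.trans g1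
    refine ⟨σ, hσ, fun h1 => ?_, hKfree _ (K.mul_mem hσ hσ) _ K.one_mem z₀ hzℓ (Subtype.ext ?_), hv⟩
    · rw [h1] at hv
      exact hze hv
    · rw [Equiv.Perm.mul_apply, ← hσg, hv, g2]; rfl
  obtain ⟨A, hA, hA1, hA2, hAz⟩ := hexists a (Or.inl rfl)
  obtain ⟨B, hB, hB1, hB2, hBz⟩ := hexists b (Or.inr (Or.inl rfl))
  obtain ⟨D, hD, hD1, hD2, hDz⟩ := hexists c (Or.inr (Or.inr rfl))
  have hAB : A ≠ B := fun e => hab (S.cancel_right (x := z) (by rw [← hAz, ← hBz, e]))
  have hthree : ∀ σ ∈ K, σ ≠ 1 → σ * σ = 1 → σ = A ∨ σ = B ∨ σ = D := by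
    intro σ hσ h1 h2
    obtain ⟨e, he, hev⟩ := hinvol σ hσ h1 h2 z₀ hzℓ
    rcases he with rfl | rfl | rfl
    · exact Or.inl (hKfree _ hσ _ hA z₀ hzℓ (Subtype.ext (hev.trans hAz.symm)))
    · exact Or.inr (Or.inl (hKfree _ hσ _ hB z₀ hzℓ (Subtype.ext (hev.trans hBz.symm))))
    · exact Or.inr (Or.inr (hKfree _ hσ _ hD z₀ hzℓ (Subtype.ext (hev.trans hDz.symm))))
  -- they commute, otherwise they give an element of order three
  have hcomm : A * B = B * A := by
    by_contra hne
    have hAi : A⁻¹ = A := inv_eq_of_mul_eq_one_right hA2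
    have hBi : B⁻¹ = B := inv_eq_of_mul_eq_one_right hB2
    have key : ∀ X Y : Equiv.Perm W, X ∈ K → Y ∈ K → X * X = 1 → Y * Y = 1 → Y ≠ 1 →
        X * Y ≠ Y * X → X * Y * X ∈ K ∧ X * Y * X ≠ 1 ∧ X * Y * X * (X * Y * X) = 1 ∧
          X * Y * X ≠ X ∧ X * Y * X ≠ Y := by
      intro X Y hX hY hX2 hY2 hY1 hne'
      refine ⟨K.mul_mem (K.mul_mem hX hY) hX, fun e => hY1 ?_, ?_, fun e => hne' ?_, fun e => hne' ?_⟩
      · calc Y = X * X * Y * (X * X) := by rw [hX2, one_mul, mul_one]
          _ = X * (X * Y * X) * X := by simp only [mul_assoc]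
          _ = 1 := by rw [e, mul_one, hX2]
      · calc X * Y * X * (X * Y * X) = X * Y * (X * X) * Y * X := by simp only [mul_assoc]
          _ = 1 := by rw [hX2, mul_one, mul_assoc X Y Y, hY2, mul_one, hX2]
      · have : X * Y = 1 := mul_eq_right.1 e
        have hYX : Y = X := by rw [← one_mul Y, ← hX2, mul_assoc, this, mul_one]
        rw [hYX]
      · calc X * Y = X * Y * (X * X) := by rw [hX2, mul_one]
          _ = X * Y * X * X := by simp only [mul_assoc]
          _ = Y * X := by rw [e]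
    obtain ⟨k1, k2, k3, k4, k5⟩ := key A B hA hB hA2 hB2 hB1 hne
    obtain ⟨l1, l2, l3, l4, l5⟩ := key B A hB hA hB2 hA2 hA1 (Ne.symm hne)
    have e1 : A * B * A = D := ((hthree _ k1 k2 k3).resolve_left k4).resolve_left k5
    have e2 : B * A * B = D := ((hthree _ l1 l2 l3).resolve_left l5).resolve_left l4
    have hpow : (A * B) ^ 3 = 1 := by
      calc (A * B) ^ 3 = A * B * A * (B * A * B) := by
            simp only [pow_succ, pow_zero, one_mul, mul_assoc]
        _ = 1 := by rw [e1, e2, hD2]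
    have hAB1 : A * B ≠ 1 := fun e => hne (by
      rw [e]
      calc (1 : Equiv.Perm W) = A * (A * B) * A := by rw [e, mul_one, hA2]
        _ = B * A := by rw [← mul_assoc, hA2, one_mul])
    haveI : Fact (Nat.Prime 3) := ⟨Nat.prime_three⟩
    have h3K := orderOf_dvd_natCard (⟨A * B, K.mul_mem hA hB⟩ : K)
    rw [← Subgroup.orderOf_coe, orderOf_eq_prime hpow hAB1] at h3K
    exact h3W (hKcard ▸ h3K)
  have hABD : A * B = D := by
    refine ((hthree _ (K.mul_mem hA hB) ?_ ?_).resolve_left ?_).resolve_left ?_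
    · intro e
      exact hAB (calc A = A * (B * B) := by rw [hB2, mul_one]
        _ = B := by rw [← mul_assoc, e, one_mul])
    · calc A * B * (A * B) = A * (B * A) * B := by simp only [mul_assoc]
        _ = 1 := by rw [← hcomm, ← mul_assoc, hA2, one_mul, hB2]
    · exact fun e => hB1 (mul_eq_left.1 e)
    · exact fun e => hA1 (mul_eq_right.1 e)
  obtain ⟨e, he, hev⟩ := hinvol A hA hA1 hA2 (B z₀) (hKout B hB z₀ hzℓ)
  have hfinal : S.op c z = S.op e (S.op b z) := by
    rw [← hDz, ← hABD, Equiv.Perm.mul_apply, hev, hBz]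
  rcases he with rfl | rfl | rfl
  · exact hfinal
  · rw [S.inv] at hfinal
    exact absurd (S.cancel_right (hfinal.trans (S.idem z).symm)) (Ne.symm hzc)
  · exact absurd (S.cancel_right ((S.cancel hfinal).symm.trans (S.idem z).symm)) (Ne.symm hzb)

end Steiner

end CfsgLib.HalfPrime
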