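import Cfsg.Agent.HalfPrime.Coord
import Cfsg.Agent.HalfPrime.Steiner

/-!
# A projective space over the field with two elements of prime size with a large multiplier group

The translation is a linear map that permutes the non-zero vectors cyclically, so it generates a
field, and its conjugate powers are roots of one polynomial of degree the dimension.
-/

set_option autoImplicit false
set_option linter.style.haveILetI false

namespace CfsgLib.HalfPrime

variable {Ω : Type*}

namespace Steiner

open Classical in
/-- Addition on the points with a zero adjoined. -/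
noncomputable def add (S : Steiner Ω) : Option Ω → Option Ω → Option Ω
  | none, y => y
  | some x, none => some x
  | some x, some y => if x = y then none else some (S.op x y)

variable (S : Steiner Ω)

theorem add_self (x : Option Ω) : S.add x x = none := by
  cases x <;> simp [add]

theorem add_zero' (x : Option Ω) : S.add x none = x := by
  cases x <;> rfl

theorem add_comm' (x y : Option Ω) : S.add x y = S.add y x := by
  rcases x with _ | x <;> rcases y with _ | y <;> try rfl
  by_cases h : x = y
  · subst h; rfl
  · simp [add, h, Ne.symm h, S.comm x y]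

theorem ne_op_left {x y : Ω} (h : x ≠ y) : S.op x y ≠ x := fun e =>
  h (S.cancel (e.trans (S.idem x).symm)).symm

theorem ne_op_right {x y : Ω} (h : x ≠ y) : S.op x y ≠ y := fun e => by
  rw [S.comm] at e
  exact S.ne_op_left h.symm e

theorem add_assoc' (hA : ∀ x y z : Ω, S.Tri x y z → S.op (S.op x y) z = S.op x (S.op y z))
    (x y z : Option Ω) : S.add (S.add x y) z = S.add x (S.add y z) := by
  rcases x with _ | x
  · rfl
  rcases y with _ | y
  · rfl
  rcases z with _ | z
  · rw [S.add_zero', S.add_zero']
  have hpair : ∀ u v : Ω, u ≠ v → S.add (some u) (some v) = some (S.op u v) := fun u v h => by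
    simp [add, h]
  by_cases hxy : x = y
  · subst hxy
    by_cases hxz : x = z
    · subst hxz; simp [add]
    · rw [S.add_self, hpair x z hxz, hpair x _ (S.ne_op_left hxz).symm, S.inv]; rfl
  by_cases hyz : y = z
  · subst hyz
    rw [S.add_self, S.add_zero', hpair x y hxy, hpair _ y (S.ne_op_right hxy), S.comm x y,
      S.comm (S.op y x) y, S.inv]
  by_cases hxz : x = z
  · subst hxz
    rw [hpair x y hxy, hpair y x (Ne.symm hxy), hpair _ x (S.ne_op_left hxy),
      hpair x _ (S.ne_op_right (Ne.symm hxy)).symm, S.comm y x, S.comm]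
  rw [hpair x y hxy, hpair y z hyz]
  by_cases hz : z = S.op x y
  · have hx : x = S.op y z := by rw [hz, S.comm x y, S.inv]
    simp [add, ← hz, ← hx]
  · have hx : x ≠ S.op y z := fun e => hz (by rw [e, S.comm (S.op y z) y, S.inv])
    rw [hpair _ z (Ne.symm hz), hpair x _ hx, hA x y z ⟨hxy, Ne.symm hxz, Ne.symm hyz, hz⟩]

/-- The binary space. -/
noncomputable abbrev addCommGroup
    (hA : ∀ x y z : Ω, S.Tri x y z → S.op (S.op x y) z = S.op x (S.op y z)) :
    AddCommGroup (Option Ω) where
  add := S.add
  add_assoc := S.add_assoc' hA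
  zero := none
  zero_add _ := rfl
  add_zero := S.add_zero'
  neg x := x
  neg_add_cancel := S.add_self
  add_comm := S.add_comm'
  nsmul := @nsmulRec _ ⟨none⟩ ⟨S.add⟩
  zsmul := @zsmulRec _ ⟨none⟩ ⟨S.add⟩ ⟨fun x => x⟩ (@nsmulRec _ ⟨none⟩ ⟨S.add⟩)

end Steiner

open Polynomial in
/-- If a linear map is transitive on the non-zero vectors, then the number of its powers conjugate
to it is at most the dimension. -/
theorem card_le_finrank {k V : Type*} [Field k] [AddCommGroup V] [Module k V] [Module.Finite k V]
    (T : Module.End k V) (v : V) (hv : v ≠ 0) (htr : ∀ w : V, w ≠ 0 → ∃ i : ℕ, (T ^ i) v = w)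
    (hback : ∀ w : V, w ≠ 0 → ∃ i : ℕ, (T ^ i) w = v)
    {ι : Type*} [Finite ι] (n : ι → ℕ) (hinj : Function.Injective fun u => (T ^ n u) v)
    (L : ι → Module.End k V) (hL : ∀ u, Function.Surjective (L u))
    (hconj : ∀ u, SemiconjBy (L u) T (T ^ n u)) : Nat.card ι ≤ Module.finrank k V := by
  classical
  let I : Ideal k[X] := RingHom.ker (aeval T : k[X] →ₐ[k] Module.End k V).toRingHom
  have hI : ∀ Q : k[X], Q ∈ I ↔ aeval T Q = 0 := fun Q => RingHom.mem_ker
  have hzero : ∀ (Q : k[X]) (x : V), x ≠ 0 → aeval T Q x = 0 → aeval T Q = 0 := by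
    intro Q x hx hQx
    refine LinearMap.ext fun w => ?_
    by_cases hw : w = 0
    · rw [hw, map_zero, LinearMap.zero_apply]
    obtain ⟨i, hi⟩ := htr w hw
    obtain ⟨j, hj⟩ := hback x hx
    have hT : ∀ m : ℕ, T ^ m = aeval T ((X : k[X]) ^ m) := fun m => by rw [map_pow, aeval_X]
    rw [← hi, ← hj, ← Module.End.mul_apply (T ^ i), ← pow_add, hT, ← Module.End.mul_apply,
      ← map_mul, mul_comm, map_mul, Module.End.mul_apply, hQx, map_zero, LinearMap.zero_apply]
  haveI hIp : I.IsPrime := by
    refine ⟨?_, fun {A B} hAB => ?_⟩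
    · rw [Ne, Ideal.eq_top_iff_one, hI, map_one]
      exact fun h => hv (by simpa using DFunLike.congr_fun h v)
    · rw [hI, map_mul] at hAB
      by_cases hB : B ∈ I
      · exact Or.inr hB
      left
      obtain ⟨w, hw⟩ : ∃ w, aeval T B w ≠ 0 := by
        by_contra hcon
        push Not at hcon
        exact hB ((hI B).2 (LinearMap.ext hcon))
      rw [hI]
      refine hzero A _ hw ?_
      rw [← Module.End.mul_apply, hAB]
      rfl
  let r : ι → k[X] ⧸ I := fun u => Ideal.Quotient.mk I (X ^ n u)
  let P : k[X] := LinearMap.charpoly T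
  have hroot : ∀ u, aeval (r u) P = 0 := by
    intro u
    have hpoly : ∀ Q : k[X], L u * aeval T Q = aeval (T ^ n u) Q * L u := by
      intro Q
      induction Q using Polynomial.induction_on' with
      | add Q₁ Q₂ h1 h2 => rw [map_add, map_add, mul_add, add_mul, h1, h2]
      | monomial m c =>
        rw [aeval_monomial, aeval_monomial, ← mul_assoc, ← Algebra.commutes, mul_assoc, mul_assoc,
          ((hconj u).pow_right m).eq]
    have h0 := hpoly P
    rw [LinearMap.aeval_self_charpoly, mul_zero] at h0
    have h1 : aeval (T ^ n u) P = 0 := by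
      refine LinearMap.ext fun w => ?_
      obtain ⟨w', rfl⟩ := hL u w
      rw [← Module.End.mul_apply, ← h0]
      rfl
    rw [show r u = Ideal.Quotient.mkₐ k I (X ^ n u) from rfl, aeval_algHom_apply,
      Ideal.Quotient.mkₐ_eq_mk, Ideal.Quotient.eq_zero_iff_mem, hI, ← aeval_algHom_apply, map_pow,
      aeval_X, h1]
  have hr : Function.Injective r := fun u u' h => hinj (by
    have h1 := (hI _).1 (Ideal.Quotient.eq.1 h)
    rw [map_sub, map_pow, map_pow, aeval_X, sub_eq_zero] at h1
    exact DFunLike.congr_fun h1 v)
  have hmonic := LinearMap.charpoly_monic T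
  haveI := Fintype.ofFinite ι
  calc Nat.card ι = (Finset.univ.image r).card := by
        rw [Finset.card_image_of_injective _ hr, Finset.card_univ, Nat.card_eq_fintype_card]
    _ ≤ (P.map (algebraMap k (k[X] ⧸ I))).natDegree := by
        refine Polynomial.card_le_degree_of_subset_roots fun x hx => ?_
        rw [Finset.mem_val, Finset.mem_image] at hx
        obtain ⟨u, -, rfl⟩ := hx
        rw [mem_roots (hmonic.map _).ne_zero, IsRoot.def, eval_map, ← aeval_def, hroot]
    _ = _ := by rw [hmonic.natDegree_map, LinearMap.charpoly_natDegree]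

/-- The elementary group. -/
theorem Steiner.exists_group (S : Steiner Ω)
    (hA : ∀ x y z : Ω, S.Tri x y z → S.op (S.op x y) z = S.op x (S.op y z)) :
    ∃ (_ : AddCommGroup (Option Ω)), (0 : Option Ω) = none ∧
      (∀ x y : Option Ω, x + y = S.add x y) ∧ ∀ x : Option Ω, 2 • x = 0 :=
  ⟨S.addCommGroup hA, rfl, fun _ _ => rfl, fun x => by
    letI := S.addCommGroup hA
    rw [two_nsmul]; exact S.add_self x⟩

variable {G : Type*} [Group G] [MulAction G Ω] {p : ℕ} [hp : Fact p.Prime]

/-- An associative triangle transitive system in coordinates has at most seven points. -/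
theorem le_seven_of_assoc (C : Coord G Ω p) (S : Steiner Ω)
    (heq : ∀ (g : G) (x y : Ω), g • S.op x y = S.op (g • x) (g • y))
    (hA : ∀ x y z : Ω, S.Tri x y z → S.op (S.op x y) z = S.op x (S.op y z)) : p ≤ 7 := by
  classical
  haveI : Finite Ω := Finite.of_equiv _ C.e
  obtain ⟨inst, h0, hadd, h2⟩ := S.exists_group hA
  letI : Module (ZMod 2) (Option Ω) := AddCommGroup.zmodModule h2
  -- linear maps from group elements
  let lin : G → Module.End (ZMod 2) (Option Ω) := fun g =>
    (AddMonoidHom.mk' (fun x : Option Ω => x.map (g • ·)) fun x y => by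
      rw [hadd, hadd]
      rcases x with _ | x
      · rfl
      rcases y with _ | y
      · rfl
      simp only [Steiner.add, Option.map_some, smul_left_cancel_iff]
      split_ifs
      · rfl
      · rw [Option.map_some, heq]).toZModLinearMap 2
  have hlin : ∀ (g : G) (x : Option Ω), lin g x = x.map (g • ·) := fun g x => rfl
  obtain ⟨t, ht⟩ := C.affine 1 C.K.one_mem 1
  simp only [Units.val_one, one_mul] at ht
  set T := lin t with hT
  have hTpow : ∀ (k : ℕ) (x : ZMod p), (T ^ k) (some (C.e x)) = some (C.e (x + k)) := by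
    intro k
    induction k with
    | zero => intro x; simp
    | succ k ih =>
      intro x
      rw [pow_succ', Module.End.mul_apply, ih, hT, hlin, Option.map_some, ht]
      push_cast
      ring_nf
  have hsome : ∀ w : Option Ω, w ≠ 0 → ∃ x, w = some (C.e x) := by
    intro w hw
    rcases w with _ | ω
    · exact absurd h0.symm hw
    · exact ⟨C.e.symm ω, by rw [C.e.apply_symm_apply]⟩
  have hcount : Nat.card C.K ≤ Module.finrank (ZMod 2) (Option Ω) := by
    haveI : Module.Finite (ZMod 2) (Option Ω) := Module.Finite.of_finite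
    refine card_le_finrank T (some (C.e 0)) (fun h => by rw [h0] at h; simp at h) (fun w hw => ?_)
      (fun w hw => ?_) (fun u : C.K => ((u : (ZMod p)ˣ) : ZMod p).val) (fun u u' h => ?_)
      (fun u => lin (C.affine _ u.2 0).choose) (fun u w => ?_) (fun u => ?_)
    · obtain ⟨x, rfl⟩ := hsome w hw
      exact ⟨x.val, by rw [hTpow, ZMod.natCast_zmod_val, zero_add]⟩
    · obtain ⟨x, rfl⟩ := hsome w hw
      exact ⟨(-x).val, by rw [hTpow, ZMod.natCast_zmod_val, add_neg_cancel]⟩
    · simp only [hTpow, ZMod.natCast_zmod_val, zero_add] at h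
      exact Subtype.ext (Units.ext (C.e.injective (Option.some_injective _ h)))
    · refine ⟨w.map ((C.affine _ u.2 0).choose⁻¹ • ·), ?_⟩
      rw [hlin]
      cases w <;> simp
    · refine LinearMap.ext fun w => ?_
      have hg := (C.affine _ u.2 0).choose_spec
      rw [Module.End.mul_apply, Module.End.mul_apply]
      show lin _ (lin t w) = (T ^ _) (lin _ w)
      rw [hlin, hlin, hlin]
      rcases w with _ | ω
      · have hz := map_zero (T ^ ((u : (ZMod p)ˣ) : ZMod p).val)
        rw [h0] at hz
        exact hz.symm
      obtain ⟨x, rfl⟩ := C.e.surjective ω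
      generalize (C.affine _ u.2 0).choose = g at hg ⊢
      simp only [Option.map_some, ht, hg, add_zero]
      rw [hTpow, ZMod.natCast_zmod_val]
      congr 2
      ring
  have hsize : 2 ^ Module.finrank (ZMod 2) (Option Ω) = p + 1 := by
    have h := (Module.natCard_eq_pow_finrank (K := ZMod 2) (V := Option Ω)).symm
    rwa [Nat.card_zmod, Finite.card_option, ← Nat.card_congr C.e, Nat.card_zmod] at h
  have hgrow : ∀ n : ℕ, 4 ≤ n → 2 * n + 2 < 2 ^ n := by
    intro n hn
    induction n, hn using Nat.le_induction with
    | base => norm_num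
    | succ n hn ih => rw [pow_succ]; omega
  by_contra h7
  have hn : 4 ≤ Module.finrank (ZMod 2) (Option Ω) := by
    by_contra hlt
    have : 2 ^ Module.finrank (ZMod 2) (Option Ω) ≤ 2 ^ 3 :=
      Nat.pow_le_pow_right (by omega) (by omega)
    omega
  have := hgrow _ hn
  have := C.large
  omega

end CfsgLib.HalfPrime
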