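import Mathlib
import Cfsg.Agent.Perm.PrimeDegree
import Cfsg.Agent.Perm.CyclicPoly
import Cfsg.Agent.Perm.BurnsidePrime

/-!
# Prime degree with a large Sylow normaliser: coordinates and two point stabilisers

If the multipliers of the affine maps in an insoluble group of prime degree have index at most two
among the non-zero residues, then a two point stabiliser has at most two orbits on the other
points.  Indeed, three orbits give a non-constant function all of whose translates have vanishing
sum and first moment.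
-/

set_option autoImplicit false
set_option linter.style.haveILetI false

namespace CfsgLib.HalfPrime

open MulAction CfsgLib.Perm

variable (G Ω : Type*) [Group G] [MulAction G Ω] (p : ℕ)

/-- Coordinates in which the translations and many multiplications belong to the group. -/
structure Coord where
  /-- The coordinates. -/
  e : ZMod p ≃ Ω
  /-- The multipliers. -/
  K : Subgroup (ZMod p)ˣ
  affine : ∀ u ∈ K, ∀ t : ZMod p, ∃ g : G, ∀ x : ZMod p, g • e x = e ((u : ZMod p) * x + t)
  two : ∀ u v : (ZMod p)ˣ, u ∉ K → v ∉ K → u⁻¹ * v ∈ K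
  large : p - 1 ≤ 2 * Nat.card K

variable {G Ω p}

/-- An insoluble transitive group of prime degree whose Sylow normaliser has at least half of
the possible order has such coordinates. -/
theorem exists_coord [Finite G] [FaithfulSMul G Ω] [IsPretransitive G Ω] [Fact p.Prime]
    (hΩ : Nat.card Ω = p) (P : Sylow p G)
    (hN : p * (p - 1) ≤ 2 * Nat.card ↥(Subgroup.normalizer ((P : Subgroup G) : Set G))) :
    Nonempty (Coord G Ω p) := by
  classical
  have hp : p.Prime := Fact.out
  haveI : Finite Ω := Nat.finite_of_card_ne_zero (by rw [hΩ]; exact hp.ne_zero)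
  haveI : Nonempty Ω := Finite.card_pos_iff.1 (by rw [hΩ]; exact hp.pos)
  haveI := Fintype.ofFinite Ω
  have hΩ' : Fintype.card Ω = p := by rw [← Nat.card_eq_fintype_card]; exact hΩ
  have hpG : p ∣ Nat.card G := by
    rw [← hΩ, ← index_stabilizer_of_transitive G (Classical.arbitrary Ω)]
    exact Subgroup.index_dvd_card _
  obtain ⟨g₀, hg₀⟩ := exists_prime_orderOf_dvd_card' p hpG
  obtain ⟨Q, hQ⟩ := (IsPGroup.of_card (n := 1) (by rw [Nat.card_zpowers, hg₀, pow_one]) :
    IsPGroup p (Subgroup.zpowers g₀)).exists_le_sylow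
  -- the Sylow subgroup is cyclic of order `p`
  have hsym : Nat.card G ∣ p.factorial := by
    have h := Subgroup.card_dvd_of_injective (toPermHom G Ω) toPerm_injective
    rwa [Nat.card_perm, hΩ] at h
  have hQcard : Nat.card (Q : Subgroup G) = p := by
    obtain ⟨n, hn⟩ := Q.2.exists_card_eq
    have hge : p ∣ Nat.card (Q : Subgroup G) := by
      have h := Subgroup.card_dvd_of_le hQ
      rwa [Nat.card_zpowers, hg₀] at h
    have hdvd : p ^ n ∣ p.factorial := hn ▸ (Subgroup.card_subgroup_dvd_card _).trans hsym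
    rcases n with _ | _ | n
    · rw [hn, pow_zero, Nat.dvd_one] at hge; exact absurd hge hp.ne_one
    · rw [hn]; exact pow_one p
    · exfalso
      have h2 : p ^ 2 ∣ p.factorial := (pow_dvd_pow p (by omega)).trans hdvd
      rw [← Nat.mul_factorial_pred hp.ne_zero, pow_two, Nat.mul_dvd_mul_iff_left hp.pos,
        hp.dvd_factorial] at h2
      have := hp.pos
      omega
  have hQeq : (Q : Subgroup G) = Subgroup.zpowers g₀ :=
    (Subgroup.eq_of_le_of_card_ge hQ (by rw [hQcard, Nat.card_zpowers, hg₀])).symm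
  have hg1 : g₀ ≠ 1 := fun h => by rw [h, orderOf_one] at hg₀; exact hp.one_lt.ne hg₀
  obtain ⟨e, he⟩ := PrimeDegree.exists_coord hΩ' (g := toPermHom G Ω g₀)
    (fun h => hg1 (toPerm_injective (h.trans (map_one (toPermHom G Ω)).symm)))
    (by rw [← map_pow, ← hg₀, pow_orderOf_eq_one, map_one])
  have he' : ∀ j, g₀ • e j = e (j + 1) := he
  have hpow : ∀ (k : ℕ) j, g₀ ^ k • e j = e (j + k) := by
    intro k
    induction k with
    | zero => intro j; simp
    | succ k ih => intro j; rw [pow_succ, mul_smul, he', ih]; push_cast; ring_nf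
  let K : Subgroup (ZMod p)ˣ :=
    { carrier := {u | ∃ g : G, ∀ x, g • e x = e ((u : ZMod p) * x)}
      one_mem' := ⟨1, fun x => by simp⟩
      mul_mem' := fun {a b} ⟨g, hg⟩ ⟨h, hh⟩ => ⟨g * h, fun x => by
        rw [mul_smul, hh, hg, Units.val_mul, mul_assoc]⟩
      inv_mem' := fun {a} ⟨g, hg⟩ => ⟨g⁻¹, fun x => by
        rw [inv_smul_eq_iff, hg, ← mul_assoc, ← Units.val_mul, mul_inv_cancel, Units.val_one,
          one_mul]⟩ }
  -- normalising elements are affine
  let N := Subgroup.normalizer ((Q : Subgroup G) : Set G)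
  have hnorm : ∀ n : N, ∃ u : K, ∃ t : ZMod p, ∀ x, (n : G) • e x = e (((u : (ZMod p)ˣ) : ZMod p) * x + t) := by
    intro n
    have hmem : (n : G) * g₀ * (n : G)⁻¹ ∈ (Q : Subgroup G) :=
      (Subgroup.mem_normalizer_iff.1 n.2 g₀).1 (hQ (Subgroup.mem_zpowers g₀))
    rw [hQeq, mem_zpowers_iff_mem_range_orderOf, Finset.mem_image] at hmem
    obtain ⟨k, -, hk⟩ := hmem
    let t := e.symm ((n : G) • e 0)
    have hstep : ∀ m : ℕ, (n : G) • e (m : ZMod p) = e ((k : ZMod p) * m + t) := by
      intro m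
      induction m with
      | zero => simp [t]
      | succ m ih =>
        have h1 : (n : G) * g₀ = g₀ ^ k * n := by rw [hk]; group
        rw [Nat.cast_succ, ← he', ← mul_smul, h1, mul_smul, ih, hpow]
        congr 1
        ring
    have hall : ∀ x : ZMod p, (n : G) • e x = e ((k : ZMod p) * x + t) := by
      intro x
      have h := hstep x.val
      rwa [ZMod.natCast_zmod_val] at h
    have hk0 : (k : ZMod p) ≠ 0 := by
      intro h0
      have h2 := hall 0
      have h3 := hall 1
      rw [h0, zero_mul] at h2 h3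
      exact zero_ne_one (e.injective (MulAction.injective (n : G) (h2.trans h3.symm)))
    refine ⟨⟨Units.mk0 _ hk0, g₀ ^ (-t).val * n, fun x => ?_⟩, t, hall⟩
    rw [mul_smul, hall, hpow, ZMod.natCast_zmod_val, Units.val_mk0]
    congr 1
    ring
  choose uu tt hut using hnorm
  have hinj : Function.Injective fun n => (uu n, tt n) := by
    intro n m h
    simp only [Prod.mk.injEq] at h
    refine Subtype.ext (eq_of_smul_eq_smul fun ω : Ω => ?_)
    obtain ⟨x, rfl⟩ := e.surjective ω
    rw [hut, hut, h.1, h.2]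
  have hle : Nat.card N ≤ Nat.card K * p := by
    have h := Nat.card_le_card_of_injective _ hinj
    rwa [Nat.card_prod, Nat.card_zmod] at h
  have hsame : Nat.card N = Nat.card ↥(Subgroup.normalizer ((P : Subgroup G) : Set G)) := by
    have h1 := Subgroup.card_mul_index N
    have h2 := Subgroup.card_mul_index (Subgroup.normalizer ((P : Subgroup G) : Set G))
    have h3 : N.index = (Subgroup.normalizer ((P : Subgroup G) : Set G)).index :=
      (Sylow.card_eq_index_normalizer Q).symm.trans (Sylow.card_eq_index_normalizer P)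
    rw [← h2, h3] at h1
    exact Nat.eq_of_mul_eq_mul_right (Nat.pos_of_ne_zero Subgroup.FiniteIndex.index_ne_zero) h1
  have hlarge : p - 1 ≤ 2 * Nat.card K :=
    Nat.le_of_mul_le_mul_left (by nlinarith : p * (p - 1) ≤ p * (2 * Nat.card K)) hp.pos
  refine ⟨⟨e, K, fun u hu t => ?_, fun u v hu hv => ?_, hlarge⟩⟩
  · obtain ⟨g, hg⟩ := hu
    exact ⟨g₀ ^ t.val * g, fun x => by rw [mul_smul, hg, hpow, ZMod.natCast_zmod_val]⟩
  · have hi : K.index ≤ 2 := by
      have h := Subgroup.card_mul_index K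
      rw [Nat.card_eq_fintype_card (α := (ZMod p)ˣ), ZMod.card_units] at h
      have hp1 : 0 < p - 1 := by have := hp.two_le; omega
      by_contra hlt
      have h3 : Nat.card K * 3 ≤ Nat.card K * K.index := Nat.mul_le_mul_left _ (by omega)
      omega
    rcases (show K.index = 1 ∨ K.index = 2 by
      have : K.index ≠ 0 := Subgroup.FiniteIndex.index_ne_zero
      omega) with h | h
    · rw [Subgroup.index_eq_one.1 h]; trivial
    · rw [Subgroup.mul_mem_iff_of_index_two h]
      exact ⟨fun hh => absurd (K.inv_mem_iff.1 hh) hu, fun hh => absurd hh hv⟩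

variable [Fact p.Prime]

omit [Fact p.Prime] in
/-- Twice transitivity in the form used below. -/
theorem exists_smul_pair [IsMultiplyPretransitive G Ω 2] {a b x y : Ω} (hab : a ≠ b) (hxy : x ≠ y) :
    ∃ g : G, g • a = x ∧ g • b = y :=
  is_two_pretransitive_iff.1 inferInstance hab hxy

/-- The backwards shift. -/
theorem Coord.shift_back (C : Coord G Ω p) : ∃ g : G, ∀ x, g • C.e x = C.e (x - 1) := by
  obtain ⟨g, hg⟩ := C.affine 1 C.K.one_mem (-1)
  exact ⟨g, fun x => by rw [hg, Units.val_one, one_mul, sub_eq_add_neg]⟩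

/-- A function on the points whose translates all have vanishing sum and first moment is
constant. -/
theorem eq_of_moments [FaithfulSMul G Ω] [Finite G] [Fintype Ω] (hns : ¬ Group.IsSolvable G)
    (e : ZMod p ≃ Ω) (hshift : ∃ g : G, ∀ x, g • e x = e (x - 1)) (hp : 3 < p) (f : Ω → ZMod p)
    (hfsum : ∑ ω, f ω = 0)
    (hmom : ∀ σ : G, ∑ j, f (σ • e j) * j = 0) (u₀ v₀ : Ω) : f u₀ = f v₀ := by
  classical
  by_contra hne
  let v : ZMod p → ZMod p := fun j => f (e j)
  have hsumσ : ∀ σ : G, ∑ j, f (σ • e j) = 0 := fun σ => by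
    rw [← hfsum]
    exact Fintype.sum_equiv (e.trans (MulAction.toPerm σ)) _ _ fun j => rfl
  -- the submodule they span
  let W : Submodule (ZMod p) (ZMod p → ZMod p) :=
    { carrier := {w | ∀ σ : G, (fun j => w (e.symm (σ • e j))) ∈
        CyclicPoly.polyFun (p := p) (K := ZMod p) (p - 2)}
      add_mem' := fun hw hw' σ => Submodule.add_mem _ (hw σ) (hw' σ)
      zero_mem' := fun σ => Submodule.zero_mem _
      smul_mem' := fun r _ hw σ => Submodule.smul_mem _ r (hw σ) }
  have hι : ∀ j : ZMod p, (CyclicPoly.ι j : ZMod p) = j := fun j => by simp [CyclicPoly.ι]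
  have hvW : v ∈ W := by
    intro σ
    refine CyclicPoly.mem_of_moments (by omega) fun i hi => ?_
    simp only [v, Equiv.apply_symm_apply, hι]
    obtain rfl | rfl : i = 0 ∨ i = 1 := by omega
    · simp [hsumσ]
    · simp [hmom]
  have hWinv : ∀ w ∈ W, ∀ τ : G, (fun j => w (e.symm (τ • e j))) ∈ W := by
    intro w hw τ σ
    simpa [mul_smul] using hw (τ * σ)
  obtain ⟨r, hr, hWr⟩ := CyclicPoly.eq_polyFun W (fun w hw => by
    obtain ⟨g, hg⟩ := hshift
    have := hWinv w hw g
    simpa [hg] using this)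
  have hr2 : r + 2 ≤ p := by
    by_contra hlt
    have hmem : (fun j : ZMod p => (CyclicPoly.ι j : ZMod p) ^ (p - 2)) ∈ W := by
      rw [hWr]
      exact CyclicPoly.polyFun_mono (by omega) (CyclicPoly.pow_mem _)
    have h := hmem 1
    simp only [one_smul, Equiv.symm_apply_apply] at h
    have h' := CyclicPoly.sum_eq_zero_of_mem (le_refl (p - 1))
      (CyclicPoly.mul_mem (t := p - 1) (r := p - 2) (by omega) h (CyclicPoly.pow_mem 1))
    simp only [Pi.mul_apply, hι, ← pow_add] at h'
    rw [show p - 2 + 1 = p - 1 by omega] at h'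
    have hneg : ∑ j : ZMod p, j ^ (p - 1) = -1 := by
      have h2 : ∀ j : ZMod p, j ^ (p - 1) = if j = 0 then 0 else 1 := by
        intro j
        split_ifs with hj
        · rw [hj, zero_pow (by omega)]
        · exact ZMod.pow_card_sub_one_eq_one hj
      rw [Finset.sum_congr rfl fun j _ => h2 j]
      simp [Finset.sum_ite, Finset.filter_ne', Finset.card_univ, ZMod.card,
        Nat.cast_sub (show 1 ≤ p by omega)]
    rw [hneg] at h'
    exact one_ne_zero (neg_eq_zero.1 h')
  have hr1 : 2 ≤ r := by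
    by_contra hlt
    have hv : v ∈ CyclicPoly.polyFun (p := p) (K := ZMod p) 1 :=
      CyclicPoly.polyFun_mono (by omega) (hWr ▸ hvW)
    obtain ⟨Q, hQ, hQv⟩ := CyclicPoly.mem_polyFun.1 hv
    have hQ0 : ∀ j, v j = Q.coeff 0 := fun j => by
      rw [hQv, Polynomial.eq_C_of_degree_le_zero
        (Polynomial.degree_le_iff_coeff_zero Q 0 |>.2 fun m hm =>
          (Polynomial.degree_lt_iff_coeff_zero Q 1).1 hQ m (by exact_mod_cast hm))]
      simp
    exact hne (by
      have h1 : v (e.symm u₀) = v (e.symm v₀) := by rw [hQ0, hQ0]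
      simpa only [v, Equiv.apply_symm_apply] using h1)
  -- so the group consists of affine maps
  refine hns ?_
  have hker : (toPermHom G Ω).ker ≤ (⊥ : Subgroup G) := fun g hg =>
    toPerm_injective ((MonoidHom.mem_ker.1 hg).trans (map_one (toPermHom G Ω)).symm)
  let R := (toPermHom G Ω).range
  haveI : Group.IsSolvable R := by
    refine PrimeDegree.isSolvable_of_affine e R ?_
    rintro _ ⟨σ, rfl⟩
    refine CyclicPoly.affine_of_invariant (K := ZMod p) hr1 hr2 _ (fun w hw => ?_) (fun w hw => ?_)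
    · rw [← hWr] at hw ⊢
      exact hWinv w hw σ
    · rw [← hWr] at hw ⊢
      exact hWinv w hw σ⁻¹
  exact Group.isSolvable_of_isSolvable_injective
    (MonoidHom.rangeRestrict_injective_iff.2 toPerm_injective :
      Function.Injective (toPermHom G Ω).rangeRestrict)


/-- The orbits of a two point stabiliser, for three given points. -/
theorem exists_related [FaithfulSMul G Ω] [Finite G] [IsMultiplyPretransitive G Ω 2]
    (hns : ¬ Group.IsSolvable G) (C : Coord G Ω p) (hp : 3 < p) {a b : Ω} (hab : a ≠ b)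
    (x : Fin 3 → Ω) (hxa : ∀ i, x i ≠ a) (hxb : ∀ i, x i ≠ b) :
    ∃ i j, i ≠ j ∧ ∃ g : G, g • a = a ∧ g • b = b ∧ g • x i = x j := by
  classical
  haveI : Finite Ω := Finite.of_equiv _ C.e
  by_contra hcon
  let H : Subgroup G := stabilizer G a ⊓ stabilizer G b
  let O : Fin 3 → Set Ω := fun i => orbit H (x i)
  have hdisj : ∀ i j, x j ∈ O i → i = j := by
    intro i j hj
    obtain ⟨g, hg⟩ := hj
    by_contra hne
    exact hcon ⟨i, j, hne, g, g.2.1, g.2.2, hg⟩
  have haO : ∀ i, a ∉ O i := by
    rintro i ⟨g, hg⟩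
    exact hxa i (MulAction.injective (g : G) (hg.trans (g.2.1).symm))
  -- the candidate function, as a function of three parameters
  let f : (Fin 3 → ZMod p) → Ω → ZMod p := fun c ω => ∑ i, c i *
    ((if ω ∈ O i then 1 else 0) - if ω = a then (Nat.card (O i) : ZMod p) else 0)
  haveI := Fintype.ofFinite Ω
  have hfsum : ∀ c, ∑ ω, f c ω = 0 := by
    intro c
    simp only [f]
    rw [Finset.sum_comm]
    refine Finset.sum_eq_zero fun i _ => ?_
    rw [← Finset.mul_sum, Finset.sum_sub_distrib, Finset.sum_boole, Finset.sum_ite_eq',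
      if_pos (Finset.mem_univ a), Nat.card_eq_fintype_card, Fintype.card_subtype, sub_self,
      mul_zero]
  have hfinv : ∀ c, ∀ h : H, ∀ ω, f c ((h : G) • ω) = f c ω := by
    intro c h ω
    have h1 : ∀ i, (h : G) • ω ∈ O i ↔ ω ∈ O i := fun i => by
      show h • ω ∈ orbit H (x i) ↔ _
      rw [← orbit_eq_iff, orbit_smul, orbit_eq_iff]
    have h2 : (h : G) • ω = a ↔ ω = a :=
      ⟨fun e1 => MulAction.injective (h : G) (e1.trans (h.2.1).symm), fun e1 => e1 ▸ h.2.1⟩
    simp only [f, h1, h2]
  -- two base pairs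
  obtain ⟨η, hη⟩ : ∃ η : (ZMod p)ˣ, ∀ u : (ZMod p)ˣ, u ∈ C.K ∨ η⁻¹ * u ∈ C.K := by
    by_cases h : ∃ η, η ∉ C.K
    · obtain ⟨η, hη⟩ := h
      exact ⟨η, fun u => or_iff_not_imp_left.2 (C.two η u hη)⟩
    · push Not at h
      exact ⟨1, fun u => Or.inl (h u)⟩
  obtain ⟨σ₁, h10, h11⟩ := exists_smul_pair (G := G)
    (fun h => zero_ne_one (C.e.injective h) : C.e 0 ≠ C.e 1) hab
  obtain ⟨σ₂, h20, h21⟩ := exists_smul_pair (G := G)
    (fun h => η.ne_zero (C.e.injective h).symm : C.e 0 ≠ C.e (η : ZMod p)) hab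
  -- the two moment conditions
  let L : (Fin 3 → ZMod p) →ₗ[ZMod p] ZMod p × ZMod p :=
    { toFun := fun c => (∑ j, f c (σ₁ • C.e j) * j, ∑ j, f c (σ₂ • C.e j) * j)
      map_add' := fun c d => by
        simp only [f, Pi.add_apply, add_mul, Finset.sum_add_distrib, Prod.mk_add_mk]
      map_smul' := fun r c => by
        simp only [f, Pi.smul_apply, smul_eq_mul, RingHom.id_apply, Prod.smul_mk, Finset.mul_sum,
          Finset.sum_mul, mul_assoc] }
  obtain ⟨c, hc, hc0⟩ := (Submodule.ne_bot_iff _).1 (LinearMap.ker_ne_bot_of_finrank_lt (f := L) (by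
    rw [Module.finrank_prod, Module.finrank_self, Module.finrank_pi, Fintype.card_fin]; omega))
  rw [LinearMap.mem_ker] at hc
  have hc1 : ∑ j, f c (σ₁ • C.e j) * j = 0 := congrArg Prod.fst hc
  have hc2 : ∑ j, f c (σ₂ • C.e j) * j = 0 := congrArg Prod.snd hc
  -- all translates are killed by the two lowest moments
  have hsumσ : ∀ σ : G, ∑ j, f c (σ • C.e j) = 0 := fun σ => by
    rw [← hfsum c]
    exact Fintype.sum_equiv (C.e.trans (MulAction.toPerm σ)) _ _ fun j => rfl
  have hmom : ∀ σ : G, ∑ j, f c (σ • C.e j) * j = 0 := by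
    intro σ
    let x₀ := C.e.symm (σ⁻¹ • a)
    let y₀ := C.e.symm (σ⁻¹ • b)
    have hx₀ : σ • C.e x₀ = a := by simp [x₀]
    have hy₀ : σ • C.e y₀ = b := by simp [y₀]
    have hd : y₀ - x₀ ≠ 0 := sub_ne_zero.2 fun h => hab (hx₀ ▸ hy₀ ▸ h ▸ rfl)
    have key : ∀ (σ' : G) (η' : (ZMod p)ˣ), σ' • C.e 0 = a → σ' • C.e (η' : ZMod p) = b →
        ∑ j, f c (σ' • C.e j) * j = 0 → η'⁻¹ * Units.mk0 _ hd ∈ C.K →
        ∑ j, f c (σ • C.e j) * j = 0 := by
      intro σ' η' ha' hb' hs hu
      obtain ⟨n, hn⟩ := C.affine _ hu x₀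
      have hH : σ * n * σ'⁻¹ ∈ H := by
        refine ⟨?_, ?_⟩
        · show (σ * n * σ'⁻¹) • a = a
          rw [mul_smul, mul_smul, show σ'⁻¹ • a = C.e 0 by rw [← ha', inv_smul_smul], hn, mul_zero,
            zero_add, hx₀]
        · show (σ * n * σ'⁻¹) • b = b
          rw [mul_smul, mul_smul, show σ'⁻¹ • b = C.e (η' : ZMod p) by rw [← hb', inv_smul_smul],
            hn, ← Units.val_mul, mul_comm (η'⁻¹ * _) η', mul_inv_cancel_left, Units.val_mk0,
            sub_add_cancel, hy₀]
      have hk : ∀ i, f c (σ • (n • C.e i)) = f c (σ' • C.e i) := by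
        intro i
        rw [← hfinv c ⟨_, hH⟩ (σ' • C.e i)]
        simp only [mul_smul, inv_smul_smul]
      have hu0 : ((η'⁻¹ * Units.mk0 _ hd : (ZMod p)ˣ) : ZMod p) ≠ 0 := Units.ne_zero _
      rw [← Fintype.sum_equiv ((Equiv.mulLeft₀ _ hu0).trans (Equiv.addRight x₀))
        (fun i => f c (σ' • C.e i) *
          (((η'⁻¹ * Units.mk0 _ hd : (ZMod p)ˣ) : ZMod p) * i + x₀)) _ fun i => by
          show _ = f c (σ • C.e (_ * i + x₀)) * (_ * i + x₀)
          simp only [Units.val_mk0]
          rw [← hn i, hk]]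
      simp only [mul_add, Finset.sum_add_distrib, ← Finset.sum_mul]
      rw [show σ' = σ' from rfl, hsumσ σ', zero_mul, add_zero]
      simp only [mul_left_comm _ ((η'⁻¹ * Units.mk0 _ hd : (ZMod p)ˣ) : ZMod p), ← Finset.mul_sum, hs,
        mul_zero]
    rcases hη (Units.mk0 _ hd) with h | h
    · exact key σ₁ 1 h10 h11 hc1 (by rwa [inv_one, one_mul])
    · exact key σ₂ η h20 h21 hc2 h
  apply hc0
  funext i
  have hb0 : f c b = 0 := by
    have hbO : ∀ k, b ∉ O k := by
      rintro k ⟨g, hg⟩
      exact hxb k (MulAction.injective (g : G) (hg.trans (g.2.2).symm))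
    simp [f, hbO, hab.symm]
  have hxi : f c (x i) = c i := by
    simp only [f, if_neg (hxa i), sub_zero]
    rw [Finset.sum_eq_single i]
    · rw [if_pos (show x i ∈ O i from mem_orbit_self _), mul_one]
    · exact fun k _ hk => by rw [if_neg fun hmem => hk (hdisj k i hmem), mul_zero]
    · simp
  rw [Pi.zero_apply, ← hxi, eq_of_moments hns C.e C.shift_back hp (f c) (hfsum c) hmom (x i) b, hb0]

end CfsgLib.HalfPrime
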