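import Mathlib

/-!
# Primitive groups of degree `q + 1` whose point stabiliser has at most two further orbits

For an odd prime `q` the sizes of two orbits would be coprime, so the arcs between them are none
or all, and one of the two orbits together with the point is a block.
-/

set_option autoImplicit false
set_option linter.style.haveILetI false

namespace CfsgLib.HalfPrime

open MulAction Pointwise

variable {H R : Type*} [Group H] [MulAction H R]

/-- A set containing `b` fixed by every element moving `b` into it is trivial. -/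
theorem trivial_of_fixed [IsPreprimitive H R] (b : R) (S : Set R) (_hb : b ∈ S)
    (hS : ∀ g : H, g • b ∈ S → (fun z => g • z) '' S = S) : S.Subsingleton ∨ S = Set.univ := by
  refine IsPreprimitive.isTrivialBlock_of_isBlock (G := H) (isBlock_iff_smul_eq_or_disjoint.2 ?_)
  intro g
  by_cases h : Disjoint (g • S) S
  · exact Or.inr h
  obtain ⟨_, ⟨z, hz, rfl⟩, hgz⟩ := Set.not_disjoint_iff.1 h
  obtain ⟨k, hk⟩ := exists_smul_eq H b z
  have h1 := hS k (hk.symm ▸ hz)
  have h2 := hS (g * k) (show (g * k) • b ∈ S by rw [mul_smul, hk]; exact hgz)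
  refine Or.inl ?_
  show (fun z => g • z) '' S = S
  conv_lhs => rw [← h1]
  rw [Set.image_image]
  simpa only [← mul_smul] using h2

/-- Rank three is impossible. -/
theorem two_transitive_of_coprime [Finite R] [IsPreprimitive H R] {q : ℕ} (hq : q.Prime)
    (hodd : q % 2 = 1) (hR : Nat.card R = q + 1)
    (hrel : ∀ b x y z : R, x ≠ b → y ≠ b → z ≠ b →
      ∃ g : H, g • b = b ∧ (g • x = y ∨ g • x = z ∨ g • y = z)) :
    IsMultiplyPretransitive H R 2 := by
  classical
  haveI := Fintype.ofFinite R
  suffices hone : ∀ b x y : R, x ≠ b → y ≠ b → ∃ g : H, g • b = b ∧ g • x = y by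
    refine is_two_pretransitive_iff.2 fun {a b c d} hab hcd => ?_
    obtain ⟨g, hg⟩ := exists_smul_eq H a c
    obtain ⟨k, hk, hk'⟩ := hone c (g • b) d
      (hg ▸ (MulAction.injective g).ne hab.symm) hcd.symm
    exact ⟨k * g, by rw [mul_smul, hg, hk], by rw [mul_smul, hk']⟩
  intro b x y hxb hyb
  by_contra hcon
  let A : R → R → Prop := fun u v => ∃ g : H, g • b = u ∧ g • x = v
  have hA : ∀ (g : H) (u v : R), A u v → A (g • u) (g • v) := fun g u v ⟨k, h1, h2⟩ =>
    ⟨g * k, by rw [mul_smul, h1], by rw [mul_smul, h2]⟩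
  have hA' : ∀ (g : H) (u v : R), A (g • u) (g • v) ↔ A u v := fun g u v =>
    ⟨fun h => by simpa using hA g⁻¹ _ _ h, hA g u v⟩
  have hAne : ∀ u v, A u v → u ≠ v := by
    rintro u v ⟨g, rfl, rfl⟩ e
    exact hxb (MulAction.injective g e.symm)
  let O : Finset R := Finset.univ.filter fun v => A b v
  let O₂ : Finset R := Finset.univ.filter fun v => v ≠ b ∧ ¬ A b v
  have hO : ∀ v, v ∈ O ↔ A b v := fun v => by simp [O]
  have hO₂ : ∀ v, v ∈ O₂ ↔ v ≠ b ∧ ¬ A b v := fun v => by simp [O₂]
  have hxO : x ∈ O := (hO x).2 ⟨1, one_smul _ _, one_smul _ _⟩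
  have hyO : y ∈ O₂ := (hO₂ y).2 ⟨hyb, hcon⟩
  have hO₂one : ∀ z ∈ O₂, ∃ g : H, g • b = b ∧ g • y = z := by
    intro z hz
    obtain ⟨hzb, hzA⟩ := (hO₂ z).1 hz
    obtain ⟨g, hg, h | h | h⟩ := hrel b x y z hxb hyb hzb
    · exact absurd ⟨g, hg, h⟩ hcon
    · exact absurd ⟨g, hg, h⟩ hzA
    · exact ⟨g, hg, h⟩
  have hsum : O.card + O₂.card = q := by
    have h1 : O₂ = (Finset.univ.erase b) \ O := by ext v; simp [hO₂, hO]
    have h2 : O ⊆ Finset.univ.erase b := fun v hv =>
      Finset.mem_erase.2 ⟨(hAne b v ((hO v).1 hv)).symm, Finset.mem_univ v⟩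
    rw [h1, Finset.card_sdiff_of_subset h2, Nat.add_sub_cancel' (Finset.card_le_card h2),
      Finset.card_erase_of_mem (Finset.mem_univ b), Finset.card_univ, ← Nat.card_eq_fintype_card,
      hR, Nat.add_sub_cancel]
  have hout : ∀ u, (Finset.univ.filter fun v => A u v).card = O.card := by
    intro u
    obtain ⟨g, rfl⟩ := exists_smul_eq H b u
    refine (Finset.card_bij (fun v _ => g • v) (fun v hv => ?_)
      (fun v _ w _ h => MulAction.injective g h) fun v hv => ?_).symm
    · exact Finset.mem_filter.2 ⟨Finset.mem_univ _, hA g b v ((hO v).1 hv)⟩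
    · refine ⟨g⁻¹ • v, (hO _).2 ?_, smul_inv_smul g v⟩
      rw [← hA' g, smul_inv_smul]
      exact (Finset.mem_filter.1 hv).2
  -- the orbit is self paired
  have hin : ∀ v, (Finset.univ.filter fun u => A u v).card =
      (Finset.univ.filter fun u => A u b).card := by
    intro v
    obtain ⟨g, rfl⟩ := exists_smul_eq H b v
    refine (Finset.card_bij (fun u _ => g • u) (fun u hu => ?_)
      (fun u _ w _ h => MulAction.injective g h) fun u hu => ?_).symm
    · exact Finset.mem_filter.2 ⟨Finset.mem_univ _, hA g u b (Finset.mem_filter.1 hu).2⟩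
    · refine ⟨g⁻¹ • u, Finset.mem_filter.2 ⟨Finset.mem_univ _, ?_⟩, smul_inv_smul g u⟩
      rw [← hA' g, smul_inv_smul]
      exact (Finset.mem_filter.1 hu).2
  have hincard : (Finset.univ.filter fun u => A u b).card = O.card := by
    have h := Finset.sum_card_bipartiteAbove_eq_sum_card_bipartiteBelow A (s := (Finset.univ : Finset R))
      (t := (Finset.univ : Finset R))
    simp only [Finset.bipartiteAbove, Finset.bipartiteBelow, hout, hin, Finset.sum_const,
      Finset.card_univ, smul_eq_mul] at h
    exact (Nat.eq_of_mul_eq_mul_left (Fintype.card_pos_iff.2 ⟨b⟩) h).symm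
  have hsymm : ∀ u v, A u v → A v u := by
    suffices h : A x b by
      rintro u v ⟨g, rfl, rfl⟩
      exact hA g x b h
    by_contra hxA
    have hsub : (Finset.univ.filter fun u => A u b) ⊆ O₂ := by
      intro u hu
      have hu' := (Finset.mem_filter.1 hu).2
      refine (hO₂ u).2 ⟨hAne u b hu', ?_⟩
      rintro ⟨g, hg, rfl⟩
      rw [← hA' g] at hxA
      exact hxA (hg.symm ▸ hu')
    have hyA : A y b := by
      obtain ⟨u, hu⟩ : (Finset.univ.filter fun u => A u b).Nonempty := by
        rw [← Finset.card_pos, hincard]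
        exact Finset.card_pos.2 ⟨x, hxO⟩
      obtain ⟨g, hg, rfl⟩ := hO₂one u (hsub hu)
      exact (hA' g y b).1 (hg.symm ▸ (Finset.mem_filter.1 hu).2)
    have hsup : O₂ ⊆ Finset.univ.filter fun u => A u b := by
      intro u hu
      obtain ⟨g, hg, rfl⟩ := hO₂one u hu
      exact Finset.mem_filter.2 ⟨Finset.mem_univ _, by simpa [hg] using hA g y b hyA⟩
    have : O.card = O₂.card := by rw [← hincard, Finset.Subset.antisymm hsub hsup]
    omega
  -- arcs between the two orbits
  let μ := (O.filter fun u => A u y).card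
  have he : ∀ u ∈ O, (O₂.filter fun v => A u v).card = (O₂.filter fun v => A x v).card := by
    intro u hu
    obtain ⟨g, hg, rfl⟩ := (hO u).1 hu
    have hmem : ∀ v, g • v ∈ O₂ ↔ v ∈ O₂ := fun v => by
      rw [hO₂, hO₂]
      refine and_congr (not_congr ⟨fun e => MulAction.injective g (e.trans hg.symm),
        fun e => e ▸ hg⟩) (not_congr ?_)
      conv_lhs => rw [← hg]
      exact hA' g b v
    refine (Finset.card_bij (fun v _ => g • v) (fun v hv => ?_)
      (fun v _ w _ h => MulAction.injective g h) fun v hv => ?_).symm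
    · rw [Finset.mem_filter] at hv ⊢
      exact ⟨(hmem v).2 hv.1, hA g _ _ hv.2⟩
    · rw [Finset.mem_filter] at hv
      refine ⟨g⁻¹ • v, Finset.mem_filter.2 ⟨?_, ?_⟩, smul_inv_smul g v⟩
      · rw [← hmem, smul_inv_smul]
        exact hv.1
      · rw [← hA' g, smul_inv_smul]
        exact hv.2
  have hμ : ∀ v ∈ O₂, (O.filter fun u => A u v).card = μ := by
    intro v hv
    obtain ⟨g, hg, rfl⟩ := hO₂one v hv
    have hmem : ∀ u, g • u ∈ O ↔ u ∈ O := fun u => by
      rw [hO, hO]
      conv_lhs => rw [← hg]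
      exact hA' g b u
    refine (Finset.card_bij (fun u _ => g • u) (fun u hu => ?_)
      (fun u _ w _ h => MulAction.injective g h) fun u hu => ?_).symm
    · rw [Finset.mem_filter] at hu ⊢
      exact ⟨(hmem u).2 hu.1, hA g _ _ hu.2⟩
    · rw [Finset.mem_filter] at hu
      refine ⟨g⁻¹ • u, Finset.mem_filter.2 ⟨?_, ?_⟩, smul_inv_smul g u⟩
      · rw [← hmem, smul_inv_smul]
        exact hu.1
      · rw [← hA' g, smul_inv_smul]
        exact hu.2
  have hcount : O.card * (O₂.filter fun v => A x v).card = O₂.card * μ := by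
    have h := Finset.sum_card_bipartiteAbove_eq_sum_card_bipartiteBelow A (s := O) (t := O₂)
    simp only [Finset.bipartiteAbove, Finset.bipartiteBelow] at h
    rwa [Finset.sum_congr rfl he, Finset.sum_congr rfl hμ, Finset.sum_const, Finset.sum_const,
      smul_eq_mul, smul_eq_mul] at h
  have hOpos : 0 < O.card := Finset.card_pos.2 ⟨x, hxO⟩
  have hO₂pos : 0 < O₂.card := Finset.card_pos.2 ⟨y, hyO⟩
  have hμle : μ ≤ O.card := Finset.card_filter_le _ _
  have hdvd : O.card ∣ μ := by
    refine (Nat.Coprime.dvd_mul_left (?_ : Nat.Coprime O.card O₂.card)).1 ⟨_, hcount.symm⟩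
    rw [Nat.Coprime, ← Nat.gcd_add_self_right, add_comm, hsum]
    exact ((hq.coprime_iff_not_dvd).2 fun h => by
      have := Nat.le_of_dvd hOpos h
      omega).symm
  rcases Nat.eq_zero_or_pos μ with h0 | hpos
  · -- no arcs: the orbit and the point form a block
    have hno : ∀ u ∈ O, ∀ v ∈ O₂, ¬ A u v := fun u hu v hv h => by
      have : 0 < (O.filter fun u => A u v).card :=
        Finset.card_pos.2 ⟨u, Finset.mem_filter.2 ⟨hu, h⟩⟩
      rw [hμ v hv, h0] at this
      exact lt_irrefl _ this
    let S : Set R := insert b (O : Set R)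
    have hS : ∀ g : H, g • b ∈ S → (fun z => g • z) '' S = S := by
      intro g hg
      have hsub : (fun z => g • z) '' S ⊆ S := by
        rintro _ ⟨z, rfl | hz, rfl⟩
        · exact hg
        have hz' : A (g • b) (g • z) := hA g _ _ ((hO z).1 hz)
        rcases hg with hg | hg
        · exact Or.inr ((hO _).2 (hg ▸ hz'))
        · by_contra hn
          simp only [S, Set.mem_insert_iff, Finset.mem_coe, not_or] at hn
          exact hno _ hg (g • z) ((hO₂ _).2 ⟨hn.1, fun h => hn.2 ((hO _).2 h)⟩) hz'
      exact Set.eq_of_subset_of_ncard_le hsub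
        (by rw [Set.ncard_image_of_injective _ (MulAction.injective g)]) (Set.toFinite _)
    rcases trivial_of_fixed b S (Set.mem_insert _ _) hS with h | h
    · exact hxb (h (Or.inr hxO) (Set.mem_insert _ _))
    · rcases (h ▸ Set.mem_univ y : y ∈ S) with e | e
      · exact hyb e
      · exact hcon ((hO y).1 e)
  · -- all arcs: the other orbit and the point form a block
    have hμk : μ = O.card := le_antisymm hμle (Nat.le_of_dvd hpos hdvd)
    have hall : ∀ u ∈ O, ∀ v ∈ O₂, A v u := fun u hu v hv => hsymm u v (by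
      have h : (O.filter fun u => A u v) = O :=
        Finset.eq_of_subset_of_card_le (Finset.filter_subset _ O) (by rw [hμ v hv, hμk])
      have hu' : u ∈ O.filter fun u => A u v := h.symm ▸ hu
      exact (Finset.mem_filter.1 hu').2)
    have hnbr : ∀ v ∈ O₂, (Finset.univ.filter fun w => A v w) = O := fun v hv =>
      (Finset.eq_of_subset_of_card_le (fun u hu => Finset.mem_filter.2 ⟨Finset.mem_univ u, hall u hu v hv⟩)
        (hout v).le).symm
    let S : Set R := (O : Set R)ᶜ
    have hS : ∀ g : H, g • b ∈ S → (fun z => g • z) '' S = S := by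
      intro g hg
      have hOg : ∀ z, g • z ∈ O ↔ z ∈ O := by
        intro z
        by_cases hgb : g • b = b
        · rw [hO, hO]
          conv_lhs => rw [← hgb]
          exact hA' g b z
        · have hv : g • b ∈ O₂ := (hO₂ _).2 ⟨hgb, fun h => hg ((hO _).2 h)⟩
          rw [← hnbr _ hv, Finset.mem_filter, and_iff_right (Finset.mem_univ _), hA', hnbr _ hv, hO]
      ext z
      exact ⟨fun ⟨w, hw, e⟩ => e ▸ fun h => hw ((hOg w).1 h),
        fun hz => ⟨g⁻¹ • z, fun h => hz (by simpa using (hOg _).2 h), smul_inv_smul g z⟩⟩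
    rcases trivial_of_fixed b S (fun h => hAne b b ((hO b).1 h) rfl) hS with h | h
    · exact hyb (h (fun hy => hcon ((hO y).1 hy)) fun h => hAne b b ((hO b).1 h) rfl)
    · exact (h ▸ Set.mem_univ x : x ∈ S) hxO

end CfsgLib.HalfPrime
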