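import Cfsg.Agent.HalfPrime.Sylow

/-!
# A group of prime degree whose Sylow normaliser has half of the possible order is even
-/

set_option autoImplicit false
set_option linter.style.haveILetI false

namespace CfsgLib.HalfPrime

open MulAction

variable {G Ω : Type*} [Group G] [Finite G] [MulAction G Ω] [FaithfulSMul G Ω] {p : ℕ}

/-- All elements are even permutations. -/
theorem sign_eq_one [Fintype Ω] [DecidableEq Ω] [Fact p.Prime] [IsPretransitive G Ω]
    (hΩ : Nat.card Ω = p) (hp : 2 < p) (P : Sylow p G)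
    (hN : 2 * Nat.card ↥(Subgroup.normalizer ((P : Subgroup G) : Set G)) = p * (p - 1)) (g : G) :
    Equiv.Perm.sign (MulAction.toPerm g : Equiv.Perm Ω) = 1 := by
  classical
  have hpp : p.Prime := Fact.out
  have hodd : p % 2 = 1 := hpp.eq_two_or_odd.resolve_left (by omega)
  let χ : G →* ℤˣ := Equiv.Perm.sign.comp (toPermHom G Ω)
  suffices h : χ g = 1 from h
  have hunit : ∀ (x : ℤˣ) (k : ℕ), k % 2 = 1 → x ^ k = x := fun x k hk => by
    rw [Int.units_pow_eq_pow_mod_two, hk, pow_one]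
  obtain ⟨C⟩ := exists_coord hΩ P hN.ge
  obtain ⟨g₁, hg₁⟩ := C.affine 1 C.K.one_mem 1
  simp only [Units.val_one, one_mul] at hg₁
  have hpow : ∀ (k : ℕ) j, g₁ ^ k • C.e j = C.e (j + k) := by
    intro k
    induction k with
    | zero => intro j; simp
    | succ k ih => intro j; rw [pow_succ, mul_smul, hg₁, ih]; push_cast; ring_nf
  have hg₁p : g₁ ^ p = 1 := eq_of_smul_eq_smul fun z : Ω => by
    obtain ⟨j, rfl⟩ := C.e.surjective z
    rw [hpow, ZMod.natCast_self, add_zero, one_smul]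
  have hg₁1 : g₁ ≠ 1 := fun h => zero_ne_one (α := ZMod p) (C.e.injective (by
    simpa [h] using hg₁ 0))
  have hord : orderOf g₁ = p := orderOf_eq_prime hg₁p hg₁1
  obtain ⟨Q, hQ⟩ := (IsPGroup.of_card (n := 1) (by rw [Nat.card_zpowers, hord, pow_one]) :
    IsPGroup p (Subgroup.zpowers g₁)).exists_le_sylow
  have hQeq : Subgroup.zpowers g₁ = (Q : Subgroup G) :=
    Subgroup.eq_of_le_of_card_ge hQ (by rw [card_sylow_of_prime hΩ Q, Nat.card_zpowers, hord])
  let N := Subgroup.normalizer ((Q : Subgroup G) : Set G)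
  have hcardN : 2 * Nat.card N = p * (p - 1) := by
    rw [← hN]
    have h1 := Subgroup.card_mul_index N
    have h2 := Subgroup.card_mul_index (Subgroup.normalizer ((P : Subgroup G) : Set G))
    have h3 : N.index = (Subgroup.normalizer ((P : Subgroup G) : Set G)).index :=
      (Sylow.card_eq_index_normalizer Q).symm.trans (Sylow.card_eq_index_normalizer P)
    rw [← h2, h3] at h1
    rw [Nat.eq_of_mul_eq_mul_right (Nat.pos_of_ne_zero Subgroup.FiniteIndex.index_ne_zero) h1]
  have hnormal : ∀ (u : (ZMod p)ˣ) (hu : u ∈ C.K) (t : ZMod p), (C.affine u hu t).choose ∈ N := by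
    intro u hu t
    have hn := (C.affine u hu t).choose_spec
    generalize (C.affine u hu t).choose = n at hn ⊢
    have hconj : n * g₁ * n⁻¹ = g₁ ^ (u : ZMod p).val := by
      rw [mul_inv_eq_iff_eq_mul]
      refine eq_of_smul_eq_smul fun z : Ω => ?_
      obtain ⟨j, rfl⟩ := C.e.surjective z
      rw [mul_smul, mul_smul, hg₁, hn, hn, hpow, ZMod.natCast_zmod_val]
      congr 1
      ring
    have hmap : (Subgroup.zpowers g₁).map (MulAut.conj n).toMonoidHom = Subgroup.zpowers g₁ := by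
      rw [MonoidHom.map_zpowers]
      refine zpowers_eq_of_mem hpp hord ?_ fun e => ?_
      · show n * g₁ * n⁻¹ ∈ Subgroup.zpowers g₁
        rw [hconj]
        exact pow_mem (Subgroup.mem_zpowers g₁) _
      · exact hg₁1 ((MulAut.conj n).injective (e.trans (map_one _).symm))
    show n ∈ Subgroup.normalizer _
    rw [← hQeq, Subgroup.mem_normalizer_iff]
    intro y
    conv_rhs => rw [← hmap]
    exact ⟨fun hy => ⟨y, hy, rfl⟩, fun ⟨z, hz, e⟩ => (MulAut.conj n).injective e ▸ hz⟩
  let φ : C.K × ZMod p → N := fun x => ⟨_, hnormal x.1 x.1.2 x.2⟩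
  have hφ : Function.Injective φ := by
    intro x y h
    have hx := (C.affine x.1 x.1.2 x.2).choose_spec
    have hy := (C.affine y.1 y.1.2 y.2).choose_spec
    have h' : (φ x : G) = φ y := congrArg Subtype.val h
    simp only [φ] at h'
    rw [h'] at hx
    have h0 := C.e.injective ((hx 0).symm.trans (hy 0))
    have h1 := C.e.injective ((hx 1).symm.trans (hy 1))
    simp only [mul_zero, zero_add] at h0
    rw [h0, mul_one, mul_one, add_left_inj] at h1
    exact Prod.ext (Subtype.ext (Units.ext h1)) h0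
  have hle := Nat.card_le_card_of_injective φ hφ
  rw [Nat.card_prod, Nat.card_zmod] at hle
  have hpk : 2 * Nat.card C.K = p - 1 := by
    refine le_antisymm (Nat.le_of_mul_le_mul_left (?_ : p * _ ≤ p * _) hpp.pos) C.large
    calc p * (2 * Nat.card C.K) = 2 * (Nat.card C.K * p) := by ring
      _ ≤ 2 * Nat.card N := Nat.mul_le_mul_left 2 hle
      _ = p * (p - 1) := hcardN
  have hbij : Function.Bijective φ := (Nat.bijective_iff_injective_and_card φ).2 ⟨hφ, by
    rw [Nat.card_prod, Nat.card_zmod]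
    have : 2 * (Nat.card C.K * p) = 2 * Nat.card N := by rw [hcardN, ← hpk]; ring
    omega⟩
  obtain ⟨ζ, hζ⟩ := IsCyclic.exists_generator (α := (ZMod p)ˣ)
  have hζK : ζ ∉ C.K := by
    intro h
    have : C.K = ⊤ := eq_top_iff.2 fun u _ => by
      obtain ⟨k, rfl⟩ := Subgroup.mem_zpowers_iff.1 (hζ u)
      exact C.K.zpow_mem h k
    rw [this, Subgroup.card_top, Nat.card_eq_fintype_card, ZMod.card_units] at hpk
    omega
  have hsq : ∀ u ∈ C.K, ∃ w : (ZMod p)ˣ, u = w * w := by
    intro u hu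
    obtain ⟨k, rfl⟩ := Subgroup.mem_zpowers_iff.1 (hζ u)
    have h2 : ζ * ζ ∈ C.K := by
      have := C.two ζ⁻¹ ζ (fun h => hζK (C.K.inv_mem_iff.1 h)) hζK
      rwa [inv_inv] at this
    rcases Int.even_or_odd k with ⟨m, rfl⟩ | ⟨m, rfl⟩
    · exact ⟨ζ ^ m, zpow_add ζ m m⟩
    · exfalso
      rw [zpow_add_one, zpow_mul, zpow_two] at hu
      exact hζK ((Subgroup.mul_mem_cancel_left _ (C.K.zpow_mem h2 m)).1 hu)
  -- the normaliser is even
  have hNeven : ∀ n ∈ N, χ n = 1 := by
    intro n hn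
    obtain ⟨⟨⟨u, hu⟩, t⟩, hut⟩ := hbij.2 ⟨n, hn⟩
    have hspec := (C.affine u hu t).choose_spec
    rw [show (C.affine u hu t).choose = n from congrArg Subtype.val hut] at hspec
    obtain ⟨w, rfl⟩ := hsq u hu
    let σ : Equiv.Perm Ω := C.e.symm.trans ((Equiv.mulLeft₀ (w : ZMod p) w.ne_zero).trans C.e)
    have hfac : toPermHom G Ω n = toPermHom G Ω (g₁ ^ t.val) * (σ * σ) := by
      refine Equiv.ext fun z => ?_
      obtain ⟨j, rfl⟩ := C.e.surjective z
      show n • C.e j = g₁ ^ t.val • σ (σ (C.e j))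
      rw [hspec, show σ (σ (C.e j)) = C.e ((w : ZMod p) * ((w : ZMod p) * j)) by simp [σ], hpow,
        ZMod.natCast_zmod_val, Units.val_mul, mul_assoc]
    show Equiv.Perm.sign (toPermHom G Ω n) = 1
    have h1 : χ (g₁ ^ t.val) = 1 := by
      rw [map_pow, ← hunit (χ g₁) p hodd, ← map_pow, hg₁p, map_one, one_pow]
    rw [hfac, map_mul, map_mul, Int.units_mul_self, mul_one]
    exact h1
  -- Frattini
  have hQker : ∀ y ∈ (Q : Subgroup G), χ y = 1 := by
    rw [← hQeq]
    intro y hy
    obtain ⟨k, rfl⟩ := Subgroup.mem_zpowers_iff.1 hy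
    rw [map_zpow, ← hunit (χ g₁) p hodd, ← map_pow, hg₁p, map_one, one_zpow]
  have hQle : (Q : Subgroup G) ≤ χ.ker := fun y hy => MonoidHom.mem_ker.2 (hQker y hy)
  have htop := Sylow.normalizer_sup_eq_top (N := χ.ker) (Q.subtype hQle)
  have himage : ((Q.subtype hQle : Sylow p χ.ker) : Subgroup χ.ker).map χ.ker.subtype =
      (Q : Subgroup G) := by
    rw [Sylow.coe_subtype, Subgroup.subgroupOf_map_subtype, inf_eq_left.2 hQle]
  rw [himage] at htop
  have hle2 : Subgroup.normalizer ((Q : Subgroup G) : Set G) ⊔ χ.ker ≤ χ.ker :=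
    sup_le (fun n hn => MonoidHom.mem_ker.2 (hNeven n hn)) le_rfl
  exact MonoidHom.mem_ker.1 (hle2 (htop ▸ Subgroup.mem_top g))

end CfsgLib.HalfPrime
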