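import Cfsg.Agent.DicksonPSL2.Borel
import Cfsg.Agent.Linear.Basic

/-!
# A torus, an inverting involution and a unipotent element in `PSL(2, p)`
-/

set_option autoImplicit false
set_option linter.style.haveILetI false

namespace CfsgLib.HalfPrime

open Matrix CfsgLib.DicksonPSL2 CfsgLib.SL2Trace
open scoped MatrixGroups

/-- A torus of order `(p - 1) / 2` normalising an element of order `p` and inverted by an
involution that does not normalise it. -/
theorem exists_torus (p : ℕ) [hp : Fact p.Prime] (hp2 : p % 2 = 1) :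
    ∃ v t w : PSL(2, ZMod p), orderOf v = p ∧ orderOf t = (p - 1) / 2 ∧ w * w = 1 ∧
      w * t * w = t⁻¹ ∧ t * v * t⁻¹ ∈ Subgroup.zpowers v ∧ w * v * w ∉ Subgroup.zpowers v ∧
      Nat.card PSL(2, ZMod p) = (p + 1) * (p * ((p - 1) / 2)) := by
  classical
  obtain ⟨ζ, hζ⟩ := IsCyclic.exists_generator (α := (ZMod p)ˣ)
  have hoζ : orderOf ζ = p - 1 := by
    rw [orderOf_eq_card_of_forall_mem_zpowers hζ, Nat.card_eq_fintype_card, ZMod.card_units]
  have hζi : (ζ : ZMod p) * ((ζ⁻¹ : (ZMod p)ˣ) : ZMod p) = 1 := by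
    rw [← Units.val_mul, mul_inv_cancel, Units.val_one]
  obtain ⟨a, ha⟩ : ∃ a : ZMod p, a = (ζ : ZMod p) := ⟨_, rfl⟩
  obtain ⟨b, hb⟩ : ∃ b : ZMod p, b = ((ζ⁻¹ : (ZMod p)ˣ) : ZMod p) := ⟨_, rfl⟩
  rw [← ha, ← hb] at hζi
  let d : SL(2, ZMod p) := ⟨!![a, 0; 0, b], by
    rw [Matrix.det_fin_two_of, hζi, mul_zero, sub_zero]⟩
  let s : SL(2, ZMod p) := ⟨!![0, 1; -1, 0], by simp [Matrix.det_fin_two]⟩
  have hd : proj d ∈ BP (F := ZMod p) := (proj_mem_BP_iff _).2 (by simp [d])
  have hdpow : ∀ n : ℕ, (proj d) ^ n = 1 ↔ p - 1 ∣ 2 * n := by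
    intro n
    have hdn : ∀ m : ℕ, (d ^ m).1 = !![a ^ m, 0; 0, b ^ m] := by
      intro m
      induction m with
      | zero => ext i j; fin_cases i <;> fin_cases j <;> simp
      | succ m ih =>
        rw [pow_succ, Matrix.SpecialLinearGroup.coe_mul, ih]
        ext i j
        fin_cases i <;> fin_cases j <;> simp [d, Matrix.mul_apply, Fin.sum_univ_two, pow_succ]
    rw [← hoζ, orderOf_dvd_iff_pow_eq_one, ← projHom_apply, ← map_pow, projHom_apply,
      proj_eq_one_iff]
    constructor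
    · intro h
      refine Units.ext ?_
      rw [Units.val_pow_eq_pow_val, ← ha, mul_comm, pow_mul, Units.val_one]
      rcases h with h | h <;>
        · have := congrArg (fun g : SL(2, ZMod p) => g.1 0 0) h
          simp [hdn] at this
          simp [this]
    · intro h
      have h' : a ^ n * a ^ n = 1 := by
        rw [← pow_add, ← two_mul, ha, ← Units.val_pow_eq_pow_val, h, Units.val_one]
      have hinv : b ^ n = a ^ n := by
        refine mul_left_cancel₀ (pow_ne_zero n (left_ne_zero_of_mul_eq_one hζi)) ?_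
        rw [h', ← mul_pow, hζi, one_pow]
      rcases mul_self_eq_one_iff.1 h' with h1 | h1
      · exact Or.inl (Subtype.ext (by rw [hdn, hinv, h1]; ext i j; fin_cases i <;> fin_cases j <;> simp))
      · exact Or.inr (Subtype.ext (by rw [hdn, hinv, h1]; ext i j; fin_cases i <;> fin_cases j <;> simp))
  have hot : orderOf (proj d) = (p - 1) / 2 := by
    have h1 : ((p - 1) / 2) * 2 = p - 1 := by omega
    refine Nat.dvd_antisymm (orderOf_dvd_of_pow_eq_one ((hdpow _).2 (by rw [mul_comm, h1]))) ?_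
    have h2 := (hdpow _).1 (pow_orderOf_eq_one (proj d))
    rw [← h1, mul_comm 2 (orderOf _)] at h2
    exact Nat.dvd_of_mul_dvd_mul_right two_pos h2
  refine ⟨u 1, proj d, proj s, orderOf_eq_prime ?_ (u_ne_one one_ne_zero), hot, ?_, ?_, ?_, ?_, ?_⟩
  · have : ∀ n : ℕ, (u (1 : ZMod p)) ^ n = u (n : ZMod p) := by
      intro n
      induction n with
      | zero => simp [u_zero]
      | succ n ih => rw [pow_succ, ih, ← u_add]; simp
    rw [this, ZMod.natCast_self, u_zero]
  · rw [← proj_mul, proj_eq_one_iff]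
    right
    apply Subtype.ext
    simp only [Matrix.SpecialLinearGroup.coe_mul]
    ext i j
    fin_cases i <;> fin_cases j <;> simp [s, Matrix.mul_apply, Fin.sum_univ_two]
  · rw [eq_inv_iff_mul_eq_one, ← proj_mul, ← proj_mul, ← proj_mul, proj_eq_one_iff]
    right
    apply Subtype.ext
    simp only [Matrix.SpecialLinearGroup.coe_mul]
    ext i j
    fin_cases i <;> fin_cases j <;> simp [s, d, Matrix.mul_apply, Fin.sum_univ_two, hζi, mul_comm b a]
  · rw [conj_u hd, mul_one]
    refine ⟨((chi (proj d)).val : ℤ), ?_⟩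
    show u (1 : ZMod p) ^ ((chi (proj d)).val : ℤ) = u (chi (proj d))
    have : ∀ n : ℕ, (u (1 : ZMod p)) ^ n = u (n : ZMod p) := by
      intro n
      induction n with
      | zero => simp [u_zero]
      | succ n ih => rw [pow_succ, ih, ← u_add]; simp
    rw [zpow_natCast, this, ZMod.natCast_zmod_val]
  · intro h
    have hle : Subgroup.zpowers (u (1 : ZMod p)) ≤ BP :=
      (Subgroup.zpowers_le).2 (u_mem_BP 1)
    have := hle h
    rw [u, ← proj_mul, ← proj_mul, proj_mem_BP_iff, Matrix.SpecialLinearGroup.coe_mul,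
      Matrix.SpecialLinearGroup.coe_mul] at this
    simp [s, coe_upSL, Matrix.mul_apply, Fin.sum_univ_two] at this
  · have h := CfsgLib.Linear.card_PSL_two_odd (F := ZMod p) (by rw [ZMod.card]; exact Nat.odd_iff.2 hp2)
    rw [ZMod.card] at h
    obtain ⟨k, rfl⟩ : ∃ k, p = 2 * k + 1 := ⟨p / 2, by omega⟩
    rw [show (2 * k + 1 - 1) / 2 = k by omega]
    have h2 : (2 * k + 1) ^ 2 - 1 = 4 * k * (k + 1) :=
      (Nat.sub_eq_iff_eq_add (Nat.one_le_pow _ _ (by omega))).2 (by ring)
    rw [h2] at h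
    linarith

end CfsgLib.HalfPrime
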