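import Cfsg.Agent.HalfPrime.Basic

/-!
# Sylow subgroups in prime degree
-/

set_option autoImplicit false
set_option linter.style.haveILetI false

namespace CfsgLib.HalfPrime

open MulAction

/-- A non-trivial element of a subgroup of prime order generates it. -/
theorem zpowers_eq_of_mem {G : Type*} [Group G] [Finite G] {p : ℕ} (hp : p.Prime) {x y : G}
    (hx : orderOf x = p) (hy : y ∈ Subgroup.zpowers x) (hy1 : y ≠ 1) :
    Subgroup.zpowers y = Subgroup.zpowers x := by
  haveI := Fact.mk hp
  refine Subgroup.eq_of_le_of_card_ge ((Subgroup.zpowers_le).2 hy) ?_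
  rw [Nat.card_zpowers, Nat.card_zpowers, hx]
  have h : orderOf y ∣ p := by
    have := Subgroup.orderOf_dvd_natCard _ hy
    rwa [Nat.card_zpowers, hx] at this
  rcases hp.eq_one_or_self_of_dvd _ h with h | h
  · exact absurd (orderOf_eq_one_iff.1 h) hy1
  · rw [h]

/-- In prime degree a Sylow subgroup has prime order. -/
theorem card_sylow_of_prime {G Ω : Type*} [Group G] [Finite G] [MulAction G Ω] [FaithfulSMul G Ω]
    [IsPretransitive G Ω] {p : ℕ} [Fact p.Prime] (hΩ : Nat.card Ω = p) (P : Sylow p G) :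
    Nat.card (P : Subgroup G) = p := by
  classical
  have hp : p.Prime := Fact.out
  haveI : Finite Ω := Nat.finite_of_card_ne_zero (by rw [hΩ]; exact hp.ne_zero)
  haveI : Nonempty Ω := Finite.card_pos_iff.1 (by rw [hΩ]; exact hp.pos)
  haveI := Fintype.ofFinite Ω
  have hpG : p ∣ Nat.card G := by
    rw [← hΩ, ← index_stabilizer_of_transitive G (Classical.arbitrary Ω)]
    exact Subgroup.index_dvd_card _
  have hsym : Nat.card G ∣ p.factorial := by
    have h := Subgroup.card_dvd_of_injective (toPermHom G Ω) toPerm_injective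
    rwa [Nat.card_perm, hΩ] at h
  obtain ⟨n, hn⟩ := P.2.exists_card_eq
  have hdvd : p ^ n ∣ p.factorial := hn ▸ (Subgroup.card_subgroup_dvd_card _).trans hsym
  rcases n with _ | _ | n
  · exfalso
    have := P.dvd_card_of_dvd_card hpG
    rw [hn, pow_zero, Nat.dvd_one] at this
    exact hp.ne_one this
  · rw [hn]; exact pow_one p
  · exfalso
    have h2 : p ^ 2 ∣ p.factorial := (pow_dvd_pow p (by omega)).trans hdvd
    rw [← Nat.mul_factorial_pred hp.ne_zero, pow_two, Nat.mul_dvd_mul_iff_left hp.pos,
      hp.dvd_factorial] at h2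
    have := hp.pos
    omega

/-- In a soluble transitive group of prime degree the Sylow subgroup is normal. -/
theorem normal_of_isSolvable {G Ω : Type*} [Group G] [Finite G] [MulAction G Ω] [FaithfulSMul G Ω]
    [IsPretransitive G Ω] {p : ℕ} [Fact p.Prime] (hΩ : Nat.card Ω = p) (hsol : Group.IsSolvable G)
    (P : Sylow p G) : (P : Subgroup G).Normal := by
  classical
  have hp : p.Prime := Fact.out
  haveI : Finite Ω := Nat.finite_of_card_ne_zero (by rw [hΩ]; exact hp.ne_zero)
  obtain ⟨n, hn⟩ := (Group.isSolvable_def G).1 hsol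
  have hne : derivedSeries G 0 ≠ ⊥ := fun h => by
    have hG : (P : Subgroup G) ≤ ⊥ := h ▸ (derivedSeries_zero G).symm ▸ le_top
    have h2 := card_sylow_of_prime hΩ P
    rw [le_bot_iff.1 hG, Subgroup.card_bot] at h2
    exact hp.one_lt.ne h2
  have hex : ∃ k, derivedSeries G k = ⊥ := ⟨n, hn⟩
  obtain ⟨m, hm⟩ : ∃ m, Nat.find hex = m + 1 :=
    Nat.exists_eq_succ_of_ne_zero fun h => hne (h ▸ Nat.find_spec hex)
  let M := derivedSeries G m
  haveI : M.Normal := derivedSeries_normal G m
  have hM1 : M ≠ ⊥ := Nat.find_min hex (show m < Nat.find hex by omega)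
  have hcomm : ∀ a ∈ M, ∀ b ∈ M, a * b = b * a := fun a ha b hb => by
    have h : ⁅M, M⁆ = (⊥ : Subgroup G) := by
      rw [← derivedSeries_succ, ← hm]
      exact Nat.find_spec hex
    exact (commutatorElement_eq_one_iff_mul_comm.1
      ((Subgroup.mem_bot).1 (h ▸ Subgroup.commutator_mem_commutator ha hb)))
  haveI : IsPreprimitive G Ω := IsPreprimitive.of_prime_card (hΩ.symm ▸ hp)
  haveI : IsPretransitive M Ω := by
    refine IsQuasiPreprimitive.isPretransitive_of_normal (fun h => hM1 ?_)
    refine (Subgroup.eq_bot_iff_forall _).2 fun g hg => eq_of_smul_eq_smul fun z : Ω => ?_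
    rw [one_smul]
    exact (Set.eq_univ_iff_forall.1 h z) ⟨g, hg⟩
  haveI : Nonempty Ω := Finite.card_pos_iff.1 (by rw [hΩ]; exact hp.pos)
  have hMcard : Nat.card M = p := by
    have h := index_stabilizer_of_transitive M (Classical.arbitrary Ω)
    rw [show stabilizer M (Classical.arbitrary Ω) = ⊥ from (Subgroup.eq_bot_iff_forall _).2
      fun g hg => by
        refine Subtype.ext (eq_of_smul_eq_smul fun z : Ω => ?_)
        obtain ⟨k, rfl⟩ := exists_smul_eq M (Classical.arbitrary Ω) z
        show (g : G) • ((k : G) • Classical.arbitrary Ω) =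
          ((1 : M) : G) • ((k : G) • Classical.arbitrary Ω)
        rw [OneMemClass.coe_one, one_smul, ← mul_smul, hcomm _ g.2 _ k.2, mul_smul,
          show (g : G) • Classical.arbitrary Ω = Classical.arbitrary Ω from hg], Subgroup.index_bot, hΩ] at h
    exact h
  have hMP : M ≤ (P : Subgroup G) :=
    IsPGroup.le_sylow_of_normal (IsPGroup.of_card (n := 1) (by rw [hMcard, pow_one])) P
  have heq : M = (P : Subgroup G) :=
    Subgroup.eq_of_le_of_card_ge hMP (by rw [hMcard, card_sylow_of_prime hΩ P])
  exact heq ▸ inferInstance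

end CfsgLib.HalfPrime
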