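import Cfsg.Agent.Perm59.QuasiprimitiveJordan
import Cfsg.Agent.HalfPrime.Sylow

/-!
# Groups with an element of prime order having two or three cycles and few fixed points

Let `G` be `(c + 1)`-fold transitive, `F` a set of `c + 1` points and `r` a large prime such that
the pointwise stabiliser of `F` is transitive on the other `c r` points, where `c` is two or three.
The normaliser of a Sylow `r`-subgroup of that stabiliser induces all permutations of `F`, and
commutators in it give an element moving points of `F` only, so that a theorem of Marggraf applies.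
-/

set_option autoImplicit false
set_option linter.style.haveILetI false

namespace CfsgLib.HalfPrime

open MulAction CfsgLib.Perm59 Pointwise

variable {G Ω : Type*} [Group G] [Finite G] [MulAction G Ω] [FaithfulSMul G Ω]
  [Fintype Ω] [DecidableEq Ω] [IsPreprimitive G Ω]

/-- An element of prime order moving few points gives all even permutations. -/
theorem alternating_of_small {r : ℕ} (hr : r.Prime) (w : G) (hw : w ≠ 1) (hwr : w ^ r = 1)
    (A : Set Ω) (hA : ∀ z, w • z ≠ z → z ∈ A) (hAr : A.ncard ≤ r) (hhalf : 2 * r < Fintype.card Ω) :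
    ∀ σ : Equiv.Perm Ω, Equiv.Perm.sign σ = 1 → ∃ x : G, (MulAction.toPerm x : Equiv.Perm Ω) = σ := by
  classical
  obtain ⟨z₀, hz₀⟩ : ∃ z, w • z ≠ z := by
    by_contra h
    push Not at h
    exact hw (eq_of_smul_eq_smul fun z : Ω => (h z).trans (one_smul G z).symm)
  haveI := Fact.mk hr
  have hord : orderOf w = r := orderOf_eq_prime hwr hw
  obtain ⟨s, hs⟩ := (IsPGroup.of_card (n := 1) (by rw [Nat.card_zpowers, hord, pow_one]) :
    IsPGroup r (Subgroup.zpowers w)).card_orbit z₀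
  have hsub : orbit (Subgroup.zpowers w) z₀ ⊆ A := by
    rintro _ ⟨⟨g, hg⟩, rfl⟩
    refine hA _ fun e => hz₀ ?_
    obtain ⟨m, rfl⟩ := Subgroup.mem_zpowers_iff.1 hg
    have h1 : w • (w ^ m • z₀) = w ^ m • (w • z₀) := by
      rw [← mul_smul, ← mul_smul, (Commute.refl w).zpow_right m |>.eq]
    exact MulAction.injective (w ^ m) (h1.symm.trans e)
  have hne : 1 < (orbit (Subgroup.zpowers w) z₀).ncard :=
    (Set.one_lt_ncard (Set.toFinite _)).2
      ⟨z₀, mem_orbit_self z₀, w • z₀, ⟨⟨w, Subgroup.mem_zpowers w⟩, rfl⟩, Ne.symm hz₀⟩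
  have hr1 : r ≤ (orbit (Subgroup.zpowers w) z₀).ncard := by
    rw [Nat.card_coe_set_eq] at hs
    rcases s with _ | s
    · rw [hs, pow_zero] at hne; omega
    · rw [hs]; exact Nat.le_self_pow (by omega) r
  have heq : orbit (Subgroup.zpowers w) z₀ = A :=
    Set.eq_of_subset_of_ncard_le hsub (hAr.trans hr1) (Set.toFinite _)
  refine forall_even_mem_of_quasiprimitive (Γ := A.toFinset) (fun N hN hN1 => ?_) ?_ ?_ ?_
  · haveI := hN
    refine IsQuasiPreprimitive.isPretransitive_of_normal fun h => hN1 ?_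
    exact (Subgroup.eq_bot_iff_forall _).2 fun g hg => eq_of_smul_eq_smul fun z : Ω => by
      rw [one_smul]
      exact (Set.eq_univ_iff_forall.1 h z) ⟨g, hg⟩
  · intro x hx y hy
    rw [Set.mem_toFinset, ← heq] at hx hy
    obtain ⟨g, rfl⟩ := hx
    obtain ⟨k, rfl⟩ := hy
    refine ⟨(k : G) * (g : G)⁻¹, fun z hz => ?_, by
      show ((k : G) * (g : G)⁻¹) • ((g : G) • z₀) = (k : G) • z₀
      rw [mul_smul, inv_smul_smul]⟩
    have hfix : Subgroup.zpowers w ≤ stabilizer G z := Subgroup.zpowers_le.2 (by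
      by_contra h
      exact hz (Set.mem_toFinset.2 (hA z h)))
    exact hfix ((Subgroup.zpowers w).mul_mem k.2 ((Subgroup.zpowers w).inv_mem g.2))
  · rw [← Set.ncard_eq_toFinset_card', ← heq]
    exact hne
  · rw [← Set.ncard_eq_toFinset_card']
    omega

/-- A group inducing all permutations of a small set and containing an element moving points of
that set only induces all even permutations. -/
theorem alternating_of_inside (F : Finset Ω) (hhalf : 2 * F.card < Fintype.card Ω) (t : G)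
    (hout : ∀ z, z ∉ F → t • z = z) (ht : t ≠ 1)
    (hN : ∀ x ∈ F, ∀ y ∈ F, ∀ x' ∈ F, ∀ y' ∈ F, x ≠ y → x' ≠ y' →
      ∃ n : G, (∀ z, n • z ∈ F ↔ z ∈ F) ∧ n • x = x' ∧ n • y = y') :
    ∀ σ : Equiv.Perm Ω, Equiv.Perm.sign σ = 1 → ∃ x : G, (MulAction.toPerm x : Equiv.Perm Ω) = σ := by
  classical
  obtain ⟨z, hz⟩ : ∃ z, t • z ≠ z := by
    by_contra h
    push Not at h
    exact ht (eq_of_smul_eq_smul fun z : Ω => (h z).trans (one_smul G z).symm)
  have hzF : z ∈ F := by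
    by_contra h
    exact hz (hout z h)
  have htzF : t • z ∈ F := by
    by_contra h
    exact hz (MulAction.injective t (hout _ h))
  refine forall_even_mem_of_quasiprimitive (Γ := F) (fun N hN hN1 => ?_) (fun x hx y hy => ?_) ?_ hhalf
  · haveI := hN
    refine IsQuasiPreprimitive.isPretransitive_of_normal fun h => hN1 ?_
    exact (Subgroup.eq_bot_iff_forall _).2 fun g hg => eq_of_smul_eq_smul fun z : Ω => by
      rw [one_smul]
      exact (Set.eq_univ_iff_forall.1 h z) ⟨g, hg⟩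
  · by_cases hxy : x = y
    · exact ⟨1, fun z _ => one_smul G z, by rw [one_smul, hxy]⟩
    obtain ⟨n, hn, nx, ny⟩ := hN z hzF (t • z) htzF x hx y hy (Ne.symm hz) hxy
    refine ⟨n * t * n⁻¹, fun u hu => ?_, by rw [← nx, mul_smul, mul_smul, inv_smul_smul, ny]⟩
    rw [mul_smul, mul_smul, hout _ fun h => hu (by
      have := (hn (n⁻¹ • u)).2 h
      rwa [smul_inv_smul] at this), smul_inv_smul]
  · exact Finset.one_lt_card.2 ⟨z, hzF, t • z, htzF, Ne.symm hz⟩

omit [FaithfulSMul G Ω] [IsPreprimitive G Ω] [Fintype Ω] [DecidableEq Ω] in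
/-- A Sylow subgroup of a subgroup transitive on a multiple of `r` points fixes none of them. -/
theorem sylow_fixes_none {r : ℕ} [Fact r.Prime] (K : Subgroup G) (S : Set Ω)
    (hS : ∀ g ∈ K, ∀ z ∈ S, g • z ∈ S) (htr : ∀ x ∈ S, ∀ y ∈ S, ∃ g ∈ K, g • x = y)
    (hdvd : r ∣ S.ncard) (Q : Sylow r K) {z : Ω} (hz : z ∈ S) : ∃ w ∈ (Q : Subgroup K), w • z ≠ z := by
  by_contra h
  push Not at h
  have horb : orbit K z = S := by
    refine Set.Subset.antisymm ?_ fun y hy => ?_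
    · rintro _ ⟨g, rfl⟩
      exact hS g g.2 z hz
    · obtain ⟨g, hg, hgy⟩ := htr z hz y hy
      exact ⟨⟨g, hg⟩, hgy⟩
  refine Q.not_dvd_index (dvd_trans ?_ (Subgroup.index_dvd_of_le (show (Q : Subgroup K) ≤ stabilizer K z
    from fun w hw => h w hw)))
  rw [index_stabilizer, horb]
  exact hdvd

set_option maxHeartbeats 800000 in
-- long single argument
/-- Two or three cycles of large prime length with few fixed points give all even permutations. -/
theorem alternating_of_manning {r c : ℕ} (hr : r.Prime) (hrc : c + 1 < r) (hc : c = 2 ∨ c = 3)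
    [IsMultiplyPretransitive G Ω (c + 1)] (hΩ : Fintype.card Ω = c * r + (c + 1))
    (F : Finset Ω) (hF : F.card = c + 1)
    (htr : ∀ x, x ∉ F → ∀ y, y ∉ F → ∃ g : G, (∀ z ∈ F, g • z = z) ∧ g • x = y) :
    ∀ σ : Equiv.Perm Ω, Equiv.Perm.sign σ = 1 → ∃ x : G, (MulAction.toPerm x : Equiv.Perm Ω) = σ := by
  classical
  haveI := Fact.mk hr
  have hc2 : 2 ≤ c ∧ c ≤ 3 := by omega
  let K : Subgroup G := fixingSubgroup G (F : Set Ω)
  have hK : ∀ g, g ∈ K ↔ ∀ z ∈ F, g • z = z := fun g => by simp [K, mem_fixingSubgroup_iff]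
  have hSinv : ∀ g ∈ K, ∀ z ∈ ((F : Set Ω)ᶜ), g • z ∈ ((F : Set Ω)ᶜ) := fun g hg z hz h =>
    hz (by
      have h1 := (hK g).1 hg _ h
      rwa [MulAction.injective g h1] at h)
  have hScard : ((F : Set Ω)ᶜ).ncard = c * r := by
    rw [Set.ncard_compl, Set.ncard_coe_finset, Nat.card_eq_fintype_card, hΩ, hF, Nat.add_sub_cancel]
  obtain ⟨Q⟩ := (inferInstance : Nonempty (Sylow r K))
  let R : Subgroup G := (Q : Subgroup K).map K.subtype
  have hRp : IsPGroup r R := Q.2.map K.subtype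
  have hRK : R ≤ K := Subgroup.map_subtype_le _
  have hRF : ∀ w ∈ R, ∀ z ∈ F, w • z = z := fun w hw => (hK w).1 (hRK hw)
  have hmove : ∀ z, z ∉ F → ∃ w ∈ R, w • z ≠ z := by
    intro z hz
    obtain ⟨w, hw, hwz⟩ := sylow_fixes_none K _ hSinv (fun x hx y hy => by
      obtain ⟨g, hg, hgx⟩ := htr x hx y hy
      exact ⟨g, (hK g).2 hg, hgx⟩) (by rw [hScard]; exact dvd_mul_left r c) Q (z := z) hz
    exact ⟨w, ⟨w, hw, rfl⟩, hwz⟩
  have horbF : ∀ z, z ∉ F → ∀ y ∈ orbit R z, y ∉ F := by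
    rintro z hz _ ⟨w, rfl⟩
    exact hSinv w (hRK w.2) z hz
  have horb : ∀ z, z ∉ F → (orbit R z).ncard = r := by
    intro z hz
    obtain ⟨s, hs⟩ := hRp.card_orbit z
    rw [Nat.card_coe_set_eq] at hs
    obtain ⟨w, hw, hwz⟩ := hmove z hz
    have hgt : 1 < (orbit R z).ncard := (Set.one_lt_ncard (Set.toFinite _)).2
      ⟨z, mem_orbit_self z, w • z, ⟨⟨w, hw⟩, rfl⟩, Ne.symm hwz⟩
    have hle : (orbit R z).ncard ≤ c * r := hScard ▸ Set.ncard_le_ncard (horbF z hz) (Set.toFinite _)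
    rcases s with _ | _ | s
    · rw [hs, pow_zero] at hgt; omega
    · rw [hs, pow_one]
    · exfalso
      rw [hs] at hle
      have h1 : r * r ≤ r ^ (s + 1 + 1) := by
        rw [← pow_two]
        exact Nat.pow_le_pow_right hr.pos (by omega)
      have h2 : c * r < r * r := Nat.mul_lt_mul_of_pos_right (by omega) hr.pos
      omega
  -- on each orbit the group is cyclic of order `r`
  have hreg : ∀ z, z ∉ F → (∀ w ∈ R, w ^ r • z = z) ∧
      ∀ w ∈ R, ∀ w' ∈ R, (w * w') • z = (w' * w) • z := by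
    intro z hz
    let φ : R →* Equiv.Perm (orbit R z) := toPermHom R (orbit R z)
    haveI : IsPretransitive φ.range (orbit R z) := ⟨fun x y => by
      obtain ⟨g, hg⟩ := exists_smul_eq R x y
      exact ⟨⟨φ g, g, rfl⟩, hg⟩⟩
    have hcard : Nat.card (orbit R z) = r := by rw [Nat.card_coe_set_eq]; exact horb z hz
    have hpr : IsPGroup r φ.range := hRp.of_surjective φ.rangeRestrict φ.rangeRestrict_surjective
    obtain ⟨Q', hQ'⟩ := (hpr.to_subgroup (⊤ : Subgroup φ.range)).exists_le_sylow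
    have hr' : Nat.card φ.range = r := by
      rw [← Subgroup.card_top (G := φ.range), ← top_le_iff.1 hQ']
      exact card_sylow_of_prime hcard Q'
    haveI := isCyclic_of_prime_card hr'
    have happ : ∀ w : R, (w : G) • z = ((φ w ⟨z, mem_orbit_self z⟩ : orbit R z) : Ω) := fun w => rfl
    refine ⟨fun w hw => ?_, fun w hw w' hw' => ?_⟩
    · have h1 : (φ.rangeRestrict ⟨w, hw⟩) ^ r = 1 := hr' ▸ pow_card_eq_one'
      rw [← map_pow] at h1
      have h2 := happ ((⟨w, hw⟩ : R) ^ r)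
      rw [show φ ((⟨w, hw⟩ : R) ^ r) = 1 from congrArg Subtype.val h1] at h2
      exact h2
    · have h1 : φ.rangeRestrict (⟨w, hw⟩ * ⟨w', hw'⟩) = φ.rangeRestrict (⟨w', hw'⟩ * ⟨w, hw⟩) := by
        let := IsCyclic.commGroup (α := φ.range)
        rw [map_mul, map_mul, mul_comm]
      have h2 := happ (⟨w, hw⟩ * ⟨w', hw'⟩)
      have h3 := happ (⟨w', hw'⟩ * ⟨w, hw⟩)
      rw [show φ (⟨w, hw⟩ * ⟨w', hw'⟩) = φ (⟨w', hw'⟩ * ⟨w, hw⟩) from congrArg Subtype.val h1] at h2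
      exact h2.trans h3.symm
  have hexp : ∀ w ∈ R, w ^ r = 1 := fun w hw => eq_of_smul_eq_smul fun z : Ω => by
    rw [one_smul]
    by_cases hz : z ∈ F
    · exact hRF _ (R.pow_mem hw r) z hz
    · exact (hreg z hz).1 w hw
  have hcomm : ∀ w ∈ R, ∀ w' ∈ R, w * w' = w' * w := fun w hw w' hw' =>
    eq_of_smul_eq_smul fun z : Ω => by
      by_cases hz : z ∈ F
      · rw [hRF _ (R.mul_mem hw hw') z hz, hRF _ (R.mul_mem hw' hw) z hz]
      · exact (hreg z hz).2 w hw w' hw'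
  have hfix : ∀ z, z ∉ F → ∀ w ∈ R, w • z = z → ∀ y ∈ orbit R z, w • y = y := by
    rintro z hz w hw hwz _ ⟨w', rfl⟩
    show w • (w' : G) • z = (w' : G) • z
    rw [← mul_smul, hcomm w hw w' w'.2, mul_smul, hwz]
  have hhalf : 2 * r < Fintype.card Ω := by
    rw [hΩ]
    rcases hc with rfl | rfl <;> omega
  by_cases hsmall : ∃ w ∈ R, w ≠ 1 ∧ ∃ A : Set Ω, (∀ z, w • z ≠ z → z ∈ A) ∧ A.ncard ≤ r
  · obtain ⟨w, hw, hw1, A, hA, hAr⟩ := hsmall
    exact alternating_of_small hr w hw1 (hexp w hw) A hA hAr hhalf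
  -- the orbits
  let 𝒪 : Finset (Set Ω) := (Fᶜ).image fun z => orbit R z
  have h𝒪mem : ∀ A, A ∈ 𝒪 ↔ ∃ z, z ∉ F ∧ orbit R z = A := fun A => by simp [𝒪]
  have h𝒪 : 𝒪.card = c := by
    have h := Finset.card_eq_sum_card_image (fun z => orbit R z) (Fᶜ)
    rw [Finset.card_compl, hΩ, hF, Nat.add_sub_cancel, Finset.sum_congr rfl fun A hA => ?_,
      Finset.sum_const, smul_eq_mul] at h
    · exact (Nat.eq_of_mul_eq_mul_right hr.pos h).symm
    obtain ⟨z, hz, rfl⟩ := (h𝒪mem A).1 hA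
    rw [← Set.ncard_coe_finset, ← horb z hz]
    congr 1
    ext y
    simp only [Finset.coe_filter, Finset.mem_compl, Set.mem_ofPred_eq]
    exact ⟨fun hy => hy.2 ▸ mem_orbit_self y, fun hy => ⟨horbF z hz y hy, orbit_eq_iff.2 hy⟩⟩
  -- an element fixing one point in all orbits but one is trivial
  have hinj : ∀ w ∈ R, ∀ A₀ ∈ 𝒪, (∀ A ∈ 𝒪, A ≠ A₀ → ∀ y ∈ A, w • y = y) → w = 1 := by
    intro w hw A₀ hA₀ h
    by_contra hw1
    refine hsmall ⟨w, hw, hw1, A₀, fun z hz => ?_, ?_⟩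
    · have hzF : z ∉ F := fun h' => hz (hRF w hw z h')
      by_contra hzA
      refine hz (h _ ((h𝒪mem _).2 ⟨z, hzF, rfl⟩) (fun e => hzA ?_) z (mem_orbit_self z))
      exact e ▸ mem_orbit_self z
    · obtain ⟨z, hz, rfl⟩ := (h𝒪mem _).1 hA₀
      exact (horb z hz).le
  -- the normaliser
  let N : Subgroup G := Subgroup.normalizer (R : Set G) ⊓
    stabilizer G (F : Set Ω)
  have hNF : ∀ n ∈ N, ∀ z, n • z ∈ F ↔ z ∈ F := fun n hn z => by
    have h : n • (F : Set Ω) = (F : Set Ω) := hn.2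
    constructor
    · intro hz
      have hz' : n • z ∈ n • (F : Set Ω) := h.symm ▸ hz
      exact (Set.smul_mem_smul_set_iff).1 hz'
    · intro hz
      have hz' : n • z ∈ n • (F : Set Ω) := Set.smul_mem_smul_set (Finset.mem_coe.2 hz)
      rwa [h, Finset.mem_coe] at hz'
  have hNR : ∀ n ∈ N, ∀ w, n * w * n⁻¹ ∈ R ↔ w ∈ R := fun n hn w =>
    (Subgroup.mem_normalizer_iff.1 hn.1 w).symm
  obtain ⟨s₀, hs₀⟩ : ∃ s : Fin (c + 1) ↪ Ω, ∀ z, z ∈ F ↔ ∃ i, s i = z :=
    ⟨((F.equivFinOfCardEq hF).symm.toEmbedding.trans (Function.Embedding.subtype _)), fun z =>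
      ⟨fun hz => ⟨F.equivFinOfCardEq hF ⟨z, hz⟩, by simp⟩, by rintro ⟨i, rfl⟩; simp⟩⟩
  have hreal : ∀ π : Equiv.Perm (Fin (c + 1)), ∃ n ∈ N, ∀ i, n • s₀ i = s₀ (π i) := by
    intro π
    obtain ⟨g, hg⟩ := isMultiplyPretransitive_iff.1
      (inferInstance : IsMultiplyPretransitive G Ω (c + 1)) s₀ (π.toEmbedding.trans s₀)
    have hgi : ∀ i, g • s₀ i = s₀ (π i) := fun i => DFunLike.congr_fun hg i
    have hgF : ∀ z, g • z ∈ F ↔ z ∈ F := fun z => by
      rw [hs₀, hs₀]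
      constructor
      · rintro ⟨i, hi⟩
        refine ⟨π.symm i, MulAction.injective g ?_⟩
        show g • s₀ (π.symm i) = g • z
        rw [hgi, Equiv.apply_symm_apply, hi]
      · rintro ⟨i, rfl⟩
        exact ⟨π i, (hgi i).symm⟩
    have hgK : ∀ w, g * w * g⁻¹ ∈ K ↔ w ∈ K := fun w => by
      rw [hK, hK]
      constructor
      · intro h z hz
        have := h (g • z) ((hgF z).2 hz)
        rw [mul_smul, mul_smul, inv_smul_smul] at this
        exact MulAction.injective g this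
      · intro h z hz
        rw [mul_smul, mul_smul, h _ (by rw [← hgF, smul_inv_smul]; exact hz), smul_inv_smul]
    let conjg : K →* K :=
      { toFun := fun w => ⟨g * w * g⁻¹, (hgK w).2 w.2⟩
        map_one' := Subtype.ext (by simp)
        map_mul' := fun x y => Subtype.ext (by simp) }
    have hconjg : Function.Injective conjg := fun x y e => Subtype.ext (by
      simpa [conjg] using congrArg Subtype.val e)
    have hQ' : IsPGroup r ((Q : Subgroup K).map conjg) := Q.2.map conjg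
    obtain ⟨Q', hQ''⟩ := hQ'.exists_le_sylow
    have hQeq : (Q : Subgroup K).map conjg = (Q' : Subgroup K) :=
      Subgroup.eq_of_le_of_card_ge hQ''
        (by rw [Subgroup.card_map_of_injective hconjg, Sylow.card_eq_multiplicity,
          Sylow.card_eq_multiplicity])
    obtain ⟨k, hk⟩ := exists_smul_eq K Q' Q
    have hkK : ∀ i, (k : G) • s₀ (π i) = s₀ (π i) := fun i =>
      (hK k).1 k.2 _ ((hs₀ _).2 ⟨π i, rfl⟩)
    refine ⟨(k : G) * g, ⟨?_, ?_⟩, fun i => by rw [mul_smul, hgi, hkK]⟩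
    · have hmap : R.map (MulAut.conj ((k : G) * g)).toMonoidHom = R := by
        have h2 : ((Q : Subgroup K).map conjg).map (MulAut.conj k).toMonoidHom = (Q : Subgroup K) := by
          conv_rhs => rw [← hk]
          rw [hQeq]
          rfl
        rw [show R = (Q : Subgroup K).map K.subtype from rfl, Subgroup.map_map]
        conv_rhs => rw [← h2]
        rw [Subgroup.map_map, Subgroup.map_map]
        congr 1
        refine MonoidHom.ext fun w => ?_
        show (k : G) * g * (w : G) * ((k : G) * g)⁻¹ = (k : G) * (g * (w : G) * g⁻¹) * (k : G)⁻¹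
        group
      show (k : G) * g ∈ Subgroup.normalizer _
      rw [Subgroup.mem_normalizer_iff]
      intro y
      conv_rhs => rw [← hmap]
      exact ⟨fun hy => ⟨y, hy, rfl⟩, fun ⟨z, hz, e⟩ => (MulAut.conj _).injective e ▸ hz⟩
    · show ((k : G) * g) • (F : Set Ω) = (F : Set Ω)
      refine Set.eq_of_subset_of_ncard_le ?_ (by rw [Set.ncard_smul_set]) (Set.toFinite _)
      rintro _ ⟨z, hz, rfl⟩
      obtain ⟨i, rfl⟩ := (hs₀ z).1 hz
      refine (hs₀ _).2 ⟨π i, ?_⟩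
      show _ = ((k : G) * g) • s₀ i
      rw [mul_smul, hgi, hkK]
  -- actions on the orbits and on the subgroup
  have h𝒪inv : ∀ n ∈ N, ∀ A ∈ 𝒪, (fun z => n • z) '' A ∈ 𝒪 := by
    intro n hn A hA
    obtain ⟨z, hz, rfl⟩ := (h𝒪mem A).1 hA
    refine (h𝒪mem _).2 ⟨n • z, fun h => hz ((hNF n hn z).1 h), ?_⟩
    ext y
    constructor
    · rintro ⟨w, rfl⟩
      refine ⟨(n⁻¹ * (w : G) * n) • z, ⟨⟨_, ?_⟩, rfl⟩, ?_⟩
      · rw [← hNR n hn]
        simp only [mul_assoc, mul_inv_cancel_left, mul_inv_cancel, mul_one]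
        exact w.2
      · show n • (n⁻¹ * (w : G) * n) • z = (w : G) • n • z
        rw [← mul_smul, ← mul_smul]
        group
    · rintro ⟨_, ⟨w, rfl⟩, rfl⟩
      refine ⟨⟨n * w * n⁻¹, (hNR n hn w).2 w.2⟩, ?_⟩
      show (n * (w : G) * n⁻¹) • n • z = n • (w : G) • z
      rw [mul_smul, mul_smul, inv_smul_smul]
  let ρ : N →* Equiv.Perm 𝒪 :=
    { toFun := fun n =>
        { toFun := fun A => ⟨(fun z => (n : G) • z) '' A.1, h𝒪inv n n.2 A.1 A.2⟩
          invFun := fun A => ⟨(fun z => ((n⁻¹ : N) : G) • z) '' A.1, h𝒪inv _ (n⁻¹).2 A.1 A.2⟩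
          left_inv := fun A => Subtype.ext (by simp)
          right_inv := fun A => Subtype.ext (by simp) }
      map_one' := Equiv.ext fun A => Subtype.ext (by simp)
      map_mul' := fun m n => Equiv.ext fun A => Subtype.ext (by
        show (fun z => ((m * n : N) : G) • z) '' A.1 =
          (fun z => (m : G) • z) '' ((fun z => (n : G) • z) '' A.1)
        rw [Set.image_image]
        simp only [Subgroup.coe_mul, mul_smul]) }
  have hρ : ∀ n : N, ρ n = 1 → ∀ A ∈ 𝒪, ∀ z ∈ A, (n : G) • z ∈ A := by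
    intro n hn A hA z hz
    have h := congrArg Subtype.val (DFunLike.congr_fun hn (⟨A, hA⟩ : 𝒪))
    have h' : (n : G) • z ∈ (fun y => (n : G) • y) '' A := ⟨z, hz, rfl⟩
    exact h.subset h'
  have hinv𝒪 : ∀ A ∈ 𝒪, ∀ w ∈ R, ∀ z ∈ A, w • z ∈ A := by
    intro A hA w hw z hz
    obtain ⟨z₀, -, rfl⟩ := (h𝒪mem A).1 hA
    obtain ⟨v, rfl⟩ := hz
    exact ⟨⟨w, hw⟩ * v, (mul_smul w (v : G) z₀)⟩
  have hpick : ∀ A ∈ 𝒪, ∃ z, z ∉ F ∧ orbit R z = A ∧ z ∈ A := fun A hA => by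
    obtain ⟨z, hz, rfl⟩ := (h𝒪mem A).1 hA
    exact ⟨z, hz, rfl, mem_orbit_self z⟩
  have hgen : ∀ A ∈ 𝒪, ∀ b ∈ R, ∀ a ∈ R, ∀ z ∈ A, b • z ≠ z → ∃ i : ℕ, b ^ i • z = a • z := by
    intro A hA b hb a ha z hz hbz
    obtain ⟨z₀, hz₀, hzA, -⟩ := hpick A hA
    have hzF : z ∉ F := horbF z₀ hz₀ z (hzA.symm ▸ hz)
    have hb1 : b ≠ 1 := fun e => hbz (by rw [e, one_smul])
    have hord : orderOf b = r := orderOf_eq_prime (hexp b hb) hb1
    have hinj : Function.Injective fun i : Fin r => b ^ (i : ℕ) • z := by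
      intro i j e
      by_contra hne
      have hst : b ^ (i : ℕ) ≠ b ^ (j : ℕ) := fun h => hne (Fin.ext (by
        rw [pow_inj_mod, hord, Nat.mod_eq_of_lt i.2, Nat.mod_eq_of_lt j.2] at h
        exact h))
      refine hbz ?_
      have hmem : ((b ^ (j : ℕ))⁻¹ * b ^ (i : ℕ)) ∈ Subgroup.zpowers b :=
        (Subgroup.zpowers b).mul_mem ((Subgroup.zpowers b).inv_mem (pow_mem (Subgroup.mem_zpowers b) _))
          (pow_mem (Subgroup.mem_zpowers b) _)
      have hle : Subgroup.zpowers b ≤ stabilizer G z := by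
        rw [← zpowers_eq_of_mem hr hord hmem (fun h => hst (inv_mul_eq_one.1 h).symm),
          Subgroup.zpowers_le]
        show ((b ^ (j : ℕ))⁻¹ * b ^ (i : ℕ)) • z = z
        rw [mul_smul, inv_smul_eq_iff]
        exact e
      exact hle (Subgroup.mem_zpowers b)
    have himg : (fun i : Fin r => b ^ (i : ℕ) • z) '' Set.univ = A := by
      refine Set.eq_of_subset_of_ncard_le ?_ ?_ (Set.toFinite _)
      · rintro _ ⟨i, -, rfl⟩
        exact hinv𝒪 A hA _ (R.pow_mem hb _) z hz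
      · rw [Set.ncard_image_of_injective _ hinj, Set.ncard_univ, Nat.card_fin, ← hzA, horb z₀ hz₀]
    obtain ⟨i, -, hi⟩ := himg.symm ▸ hinv𝒪 A hA a ha z hz
    exact ⟨i, hi⟩
  -- an element fixing every orbit acts on the subgroup by a power
  have hscalar : ∀ k ∈ N, (∀ A ∈ 𝒪, ∀ z ∈ A, k • z ∈ A) → ∃ u : ℕ, ∀ w ∈ R, k * w * k⁻¹ = w ^ u := by
    intro k hk hkA
    by_cases hcyc : ∃ b ∈ R, ∀ w ∈ R, ∃ i : ℕ, b ^ i = w
    · obtain ⟨b, hb, hgb⟩ := hcyc
      obtain ⟨u, hu⟩ := hgb _ ((hNR k hk b).2 hb)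
      refine ⟨u, fun w hw => ?_⟩
      obtain ⟨i, rfl⟩ := hgb w hw
      rw [← conj_pow, ← hu, ← pow_mul, ← pow_mul, mul_comm]
    -- otherwise there are three orbits
    have hA0 : ∀ A ∈ 𝒪, ∀ z ∈ A, ∀ w ∈ R, w • z = z → ∀ y ∈ A, w • y = y := by
      intro A hA z hz w hw hwz y hy
      obtain ⟨z₀, hz₀, hzA, -⟩ := hpick A hA
      have hzF : z ∉ F := horbF z₀ hz₀ z (hzA.symm ▸ hz)
      exact hfix z hzF w hw hwz y (by rw [orbit_eq_iff.2 (hzA.symm ▸ hz), hzA]; exact hy)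
    obtain ⟨A, hA⟩ : 𝒪.Nonempty := Finset.card_pos.1 (by omega)
    obtain ⟨zA, hzAF, hzA, hzAm⟩ := hpick A hA
    rcases hc with rfl | rfl
    · -- with two orbits the subgroup is cyclic
      exfalso
      obtain ⟨b, hb, hbz⟩ := hmove zA hzAF
      refine hcyc ⟨b, hb, fun w hw => ?_⟩
      obtain ⟨i, hi⟩ := hgen A hA b hb w hw zA hzAm hbz
      refine ⟨i, (inv_mul_eq_one.1 ?_).symm⟩
      obtain ⟨B, hB, hBA⟩ := Finset.exists_mem_ne (show 1 < 𝒪.card by omega) A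
      have h01 : (w⁻¹ * b ^ i) • zA = zA := by rw [mul_smul, inv_smul_eq_iff]; exact hi
      refine hinj _ (R.mul_mem (R.inv_mem hw) (R.pow_mem hb i)) B hB fun A' hA' hne y hy => ?_
      have hA'A : A' = A := by
        by_contra h
        have := Finset.card_le_card (show ({A, B, A'} : Finset (Set Ω)) ⊆ 𝒪 by
          simp [Finset.insert_subset_iff, hA, hB, hA'])
        rw [Finset.card_eq_three.2 ⟨A, B, A', hBA.symm, Ne.symm h, Ne.symm hne, rfl⟩, h𝒪] at this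
        omega
      subst hA'A
      exact hA0 _ hA' zA hzAm _ (R.mul_mem (R.inv_mem hw) (R.pow_mem hb i)) h01 y hy
    obtain ⟨A', B, C, hAB, hAC, hBC, he⟩ := Finset.card_eq_three.1 h𝒪
    clear hA hzAF hzA hzAm zA A
    have hA' : A' ∈ 𝒪 := by simp [he]
    have hB : B ∈ 𝒪 := by simp [he]
    have hC : C ∈ 𝒪 := by simp [he]
    obtain ⟨zA, hzAF, -, hzAm⟩ := hpick A' hA'
    obtain ⟨zB, hzBF, -, hzBm⟩ := hpick B hB
    obtain ⟨zC, hzCF, -, hzCm⟩ := hpick C hC
    have h2fix : ∀ w ∈ R, ∀ X Y Z : Set Ω, X ∈ 𝒪 → Y ∈ 𝒪 → Z ∈ 𝒪 → 𝒪 = {X, Y, Z} →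
        ∀ x ∈ X, ∀ y ∈ Y, w • x = x → w • y = y → w = 1 := by
      intro w hw X Y Z hX hY hZ heq x hx y hy hwx hwy
      refine hinj w hw Z hZ fun A hA hne u hu => ?_
      rw [heq] at hA
      simp only [Finset.mem_insert, Finset.mem_singleton] at hA
      rcases hA with rfl | rfl | rfl
      · exact hA0 _ hX x hx w hw hwx u hu
      · exact hA0 _ hY y hy w hw hwy u hu
      · exact absurd rfl hne
    have h3BA : ({A', B, C} : Finset (Set Ω)) = {B, A', C} := by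
      rw [Finset.insert_comm]
    have h3AC : ({A', B, C} : Finset (Set Ω)) = {A', C, B} := by
      rw [Finset.pair_comm]
    have h3BC : ({A', B, C} : Finset (Set Ω)) = {B, C, A'} := by
      rw [Finset.insert_comm, Finset.pair_comm]
    -- an element trivial on one orbit and not on another
    have hexists : ∀ X Y Z : Set Ω, X ∈ 𝒪 → Y ∈ 𝒪 → Z ∈ 𝒪 → 𝒪 = {X, Y, Z} → ∀ x ∈ X, x ∉ F →
        ∃ a ∈ R, a ≠ 1 ∧ a • x = x := by
      intro X Y Z hX _ _ _ x hx hxF
      by_contra hno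
      push Not at hno
      obtain ⟨b, hb, hbx⟩ := hmove x hxF
      refine hcyc ⟨b, hb, fun w hw => ?_⟩
      obtain ⟨i, hi⟩ := hgen X hX b hb w hw x hx hbx
      refine ⟨i, ?_⟩
      by_contra hne
      exact hno _ (R.mul_mem (R.inv_mem hw) (R.pow_mem hb i))
        (fun h => hne (inv_mul_eq_one.1 h).symm) (by rw [mul_smul, inv_smul_eq_iff]; exact hi)
    obtain ⟨a, ha, ha1, hazB⟩ := hexists B A' C hB hA' hC (he.trans h3BA) zB hzBm hzBF
    obtain ⟨b, hb, hb1, hbzA⟩ := hexists A' B C hA' hB hC he zA hzAm hzAF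
    have haA : a • zA ≠ zA := fun h => ha1 (h2fix a ha A' B C hA' hB hC he zA hzAm zB hzBm h hazB)
    have haC : a • zC ≠ zC := fun h =>
      ha1 (h2fix a ha B C A' hB hC hA' (he.trans h3BC) zB hzBm zC hzCm hazB h)
    have hbB : b • zB ≠ zB := fun h => hb1 (h2fix b hb A' B C hA' hB hC he zA hzAm zB hzBm hbzA h)
    have hbC : b • zC ≠ zC := fun h =>
      hb1 (h2fix b hb A' C B hA' hC hB (he.trans h3AC) zA hzAm zC hzCm hbzA h)
    have hconj : ∀ (X : Set Ω) (hX : X ∈ 𝒪) (x : Ω) (hx : x ∈ X) (y : G), y ∈ R → y • x = x →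
        (k * y * k⁻¹) • x = x := by
      intro X hX x hx y hy hyx
      have h1 : (k * y * k⁻¹) • (k • x) = k • x := by rw [mul_smul, mul_smul, inv_smul_smul, hyx]
      exact hA0 X hX (k • x) (hkA X hX x hx) _ ((hNR k hk y).2 hy) h1 x hx
    have hpowfix : ∀ (y : G) (x : Ω), y • x = x → ∀ i : ℕ, y ^ i • x = x := fun y x h i =>
      (stabilizer G x).pow_mem h i
    have hcancel : ∀ (x : Ω) (y : G) (w : G), y ∈ R → w ∈ R → (w⁻¹ * y) • x = x → y • x = w • x :=
      fun x y w _ _ h => by rw [mul_smul, inv_smul_eq_iff] at h; exact h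
    -- conjugates of the two generators
    obtain ⟨u, hu⟩ : ∃ u : ℕ, k * a * k⁻¹ = a ^ u := by
      obtain ⟨i, hi⟩ := hgen A' hA' a ha _ ((hNR k hk a).2 ha) zA hzAm haA
      refine ⟨i, (inv_mul_eq_one.1 ?_).symm⟩
      refine h2fix _ (R.mul_mem (R.inv_mem (R.pow_mem ha i)) ((hNR k hk a).2 ha)) A' B C hA' hB hC he
        zA hzAm zB hzBm (by rw [mul_smul, inv_smul_eq_iff]; exact hi.symm) ?_
      rw [mul_smul, hconj B hB zB hzBm a ha hazB, inv_smul_eq_iff, hpowfix a zB hazB]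
    obtain ⟨v, hv⟩ : ∃ v : ℕ, k * b * k⁻¹ = b ^ v := by
      obtain ⟨i, hi⟩ := hgen B hB b hb _ ((hNR k hk b).2 hb) zB hzBm hbB
      refine ⟨i, (inv_mul_eq_one.1 ?_).symm⟩
      refine h2fix _ (R.mul_mem (R.inv_mem (R.pow_mem hb i)) ((hNR k hk b).2 hb)) B A' C hB hA' hC
        (he.trans h3BA) zB hzBm zA hzAm (by rw [mul_smul, inv_smul_eq_iff]; exact hi.symm) ?_
      rw [mul_smul, hconj A' hA' zA hzAm b hb hbzA, inv_smul_eq_iff, hpowfix b zA hbzA]
    obtain ⟨i, hi⟩ := hgen C hC b hb a ha zC hzCm hbC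
    have huv : b ^ v = b ^ u := by
      have hc0 : ((b ^ i)⁻¹ * a) • zC = zC := by rw [mul_smul, inv_smul_eq_iff]; exact hi.symm
      have h1 := hconj C hC zC hzCm _ (R.mul_mem (R.inv_mem (R.pow_mem hb i)) ha) hc0
      rw [show k * ((b ^ i)⁻¹ * a) * k⁻¹ = ((k * b * k⁻¹) ^ i)⁻¹ * (k * a * k⁻¹) by
        rw [conj_pow]; group, hu, hv] at h1
      have h2 : (((b ^ i)⁻¹ * a) ^ u) • zC = zC := hpowfix _ zC hc0 u
      have hc1 : Commute (b ^ i)⁻¹ a := hcomm _ (R.inv_mem (R.pow_mem hb i)) a ha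
      rw [hc1.mul_pow, inv_pow] at h2
      have h3 : (b ^ v) ^ i • zC = (b ^ i) ^ u • zC :=
        ((hcancel zC _ _ (R.pow_mem ha u) (R.pow_mem (R.pow_mem hb v) i) h1).symm.trans
          (hcancel zC _ _ (R.pow_mem ha u) (R.pow_mem (R.pow_mem hb i) u) h2))
      rw [← pow_mul, ← pow_mul] at h3
      have hord : orderOf b = r := orderOf_eq_prime (hexp b hb) hb1
      have heq : b ^ (v * i) = b ^ (i * u) := by
        by_contra hne
        have hmem : (b ^ (i * u))⁻¹ * b ^ (v * i) ∈ Subgroup.zpowers b :=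
          (Subgroup.zpowers b).mul_mem ((Subgroup.zpowers b).inv_mem (pow_mem (Subgroup.mem_zpowers b) _))
            (pow_mem (Subgroup.mem_zpowers b) _)
        have hle : Subgroup.zpowers b ≤ stabilizer G zC := by
          rw [← zpowers_eq_of_mem hr hord hmem (fun h => hne (inv_mul_eq_one.1 h).symm),
            Subgroup.zpowers_le]
          show ((b ^ (i * u))⁻¹ * b ^ (v * i)) • zC = zC
          rw [mul_smul, inv_smul_eq_iff]
          exact h3
        exact hbC (hle (Subgroup.mem_zpowers b))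
      have hi0 : ¬ r ∣ i := fun h => haC (by
        rw [← hi, orderOf_dvd_iff_pow_eq_one.1 (hord.symm ▸ h), one_smul])
      rw [pow_eq_pow_iff_modEq, hord] at heq ⊢
      rw [mul_comm i u] at heq
      exact Nat.ModEq.cancel_right_of_coprime ((hr.coprime_iff_not_dvd).2 hi0) heq
    refine ⟨u, fun w hw => ?_⟩
    obtain ⟨x, hx⟩ := hgen A' hA' a ha w hw zA hzAm haA
    obtain ⟨y, hy⟩ := hgen B hB b hb w hw zB hzBm hbB
    have hwe : w = a ^ x * b ^ y := by
      refine (inv_mul_eq_one.1 (h2fix _ (R.mul_mem (R.inv_mem (R.mul_mem (R.pow_mem ha x)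
        (R.pow_mem hb y))) hw) A' B C hA' hB hC he zA hzAm zB hzBm ?_ ?_)).symm
      · rw [mul_smul, inv_smul_eq_iff, mul_smul, hpowfix b zA hbzA y, hx]
      · rw [mul_smul, inv_smul_eq_iff, (hcomm _ (R.pow_mem ha x) _ (R.pow_mem hb y)), mul_smul,
          hpowfix a zB hazB x, hy]
    have hc2 : Commute (a ^ x) (b ^ y) := hcomm _ (R.pow_mem ha x) _ (R.pow_mem hb y)
    rw [hwe, hc2.mul_pow,
      show k * (a ^ x * b ^ y) * k⁻¹ = (k * a * k⁻¹) ^ x * (k * b * k⁻¹) ^ y by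
        rw [conj_pow, conj_pow]; group,
      hu, hv, huv, ← pow_mul, ← pow_mul, ← pow_mul, ← pow_mul, mul_comm u x, mul_comm u y]
  -- commutation of the actions on the subgroup
  let cj : N → G → G := fun n w => (n : G) * w * (n : G)⁻¹
  have hcjR : ∀ (n : N) w, w ∈ R → cj n w ∈ R := fun n w hw => (hNR n n.2 w).2 hw
  have hcj : ∀ (m n : N) w, cj (m * n) w = cj m (cj n w) := fun m n w => by
    simp only [cj, Subgroup.coe_mul]
    group
  have hpow : ∀ (n : N) (i : ℕ) w, cj n (w ^ i) = cj n w ^ i := fun n i w => by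
    simp only [cj, conj_pow]
  have hscal : ∀ k : N, ρ k = 1 → ∀ n : N, ∀ w ∈ R, cj k (cj n w) = cj n (cj k w) := by
    intro k hk n w hw
    obtain ⟨u, hu⟩ := hscalar k k.2 (hρ k hk)
    rw [show cj k (cj n w) = cj n w ^ u from hu _ (hcjR n w hw),
      show cj k w = w ^ u from hu _ hw, hpow]
  -- the element
  obtain ⟨j, hjρ, hjR, i₀, hji⟩ : ∃ j : N, ρ j = 1 ∧ (∀ w ∈ R, cj j w = w) ∧
      ∃ i, (j : G) • s₀ i ≠ s₀ i := by
    have hlift : ∀ π : Equiv.Perm (Fin (c + 1)), ∃ n : N, ∀ i, (n : G) • s₀ i = s₀ (π i) := fun π => by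
      obtain ⟨n, hn, h⟩ := hreal π
      exact ⟨⟨n, hn⟩, h⟩
    choose ν hν using hlift
    have hmul : ∀ (m n : N) (σ τ : Equiv.Perm (Fin (c + 1))), (∀ i, (m : G) • s₀ i = s₀ (σ i)) →
        (∀ i, (n : G) • s₀ i = s₀ (τ i)) → ∀ i, ((m * n : N) : G) • s₀ i = s₀ ((σ * τ) i) :=
      fun m n σ τ hm hn i => by rw [Subgroup.coe_mul, mul_smul, hn, hm]; rfl
    have hinv : ∀ (m : N) (σ : Equiv.Perm (Fin (c + 1))), (∀ i, (m : G) • s₀ i = s₀ (σ i)) →
        ∀ i, ((m⁻¹ : N) : G) • s₀ i = s₀ (σ⁻¹ i) := fun m σ hm i => by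
      rw [Subgroup.coe_inv, inv_smul_eq_iff, hm, ← Equiv.Perm.mul_apply, mul_inv_cancel,
        Equiv.Perm.one_apply]
    have hcommr : ∀ (m n : N) (σ τ : Equiv.Perm (Fin (c + 1))), (∀ i, (m : G) • s₀ i = s₀ (σ i)) →
        (∀ i, (n : G) • s₀ i = s₀ (τ i)) →
        ∀ i, ((m * n * m⁻¹ * n⁻¹ : N) : G) • s₀ i = s₀ ((σ * τ * σ⁻¹ * τ⁻¹) i) := fun m n σ τ hm hn =>
      hmul _ _ _ _ (hmul _ _ _ _ (hmul m n σ τ hm hn) (hinv m σ hm)) (hinv n τ hn)
    have hcentral : ∀ m n : N, ρ (m * n * m⁻¹ * n⁻¹) = 1 →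
        (∀ w ∈ R, cj m (cj n w) = cj n (cj m w)) → ∀ w ∈ R, cj (m * n * m⁻¹ * n⁻¹) w = w := by
      intro m n _ h w hw
      rw [hcj, hcj, hcj, h _ (hcjR _ _ (hcjR _ _ hw)), ← hcj m, mul_inv_cancel]
      have h1 : ∀ y, cj 1 y = y := fun y => by simp [cj]
      rw [h1, ← hcj, mul_inv_cancel, h1]
    have hnontriv : ∀ (m : N) (σ : Equiv.Perm (Fin (c + 1))), (∀ i, (m : G) • s₀ i = s₀ (σ i)) →
        σ ≠ 1 → ∃ i, (m : G) • s₀ i ≠ s₀ i := by
      intro m σ hm hσ
      by_contra hcon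
      push Not at hcon
      exact hσ (Equiv.ext fun i => s₀.injective ((hm i).symm.trans (hcon i)))
    let e : 𝒪 ≃ Fin c := 𝒪.equivFinOfCardEq h𝒪
    let ρ' : N →* Equiv.Perm (Fin c) := e.permCongrHom.toMonoidHom.comp ρ
    have hρ' : ∀ n, ρ' n = 1 → ρ n = 1 := fun n h =>
      e.permCongrHom.injective (h.trans (map_one _).symm)
    -- commuting actions on the orbits give commuting actions on the subgroup
    have hcyc : ∀ m n : N, (∃ i : ℕ, ρ' n = ρ' m ^ i) → ∀ w ∈ R, cj m (cj n w) = cj n (cj m w) := by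
      rintro m n ⟨i, hi⟩ w hw
      obtain ⟨k, hk⟩ : ∃ k : N, k = (m ^ i)⁻¹ * n := ⟨_, rfl⟩
      have hρk : ρ k = 1 := hρ' k (by rw [hk, map_mul, map_inv, map_pow, hi, inv_mul_cancel])
      have hn : n = m ^ i * k := by rw [hk, mul_inv_cancel_left]
      rw [hn, hcj, hcj, hscal k hρk m w hw, ← hcj m (m ^ i), ← hcj (m ^ i) m,
        ((Commute.refl m).pow_right i).eq]
    rcases hc with rfl | rfl
    · -- two orbits: one commutator
      have hS2 : ∀ σ τ : Equiv.Perm (Fin 2), σ ≠ 1 → τ = 1 ∨ τ = σ := by decide +kernel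
      have hperm : ∀ σ τ : Equiv.Perm (Fin 2), σ * τ * σ⁻¹ * τ⁻¹ = 1 := by decide +kernel
      obtain ⟨σ, τ, hστ⟩ : ∃ σ τ : Equiv.Perm (Fin 3), σ * τ * σ⁻¹ * τ⁻¹ ≠ 1 := by decide +kernel
      refine ⟨ν σ * ν τ * (ν σ)⁻¹ * (ν τ)⁻¹, hρ' _ (by simp only [map_mul, map_inv, hperm]),
        hcentral _ _ (hρ' _ (by simp only [map_mul, map_inv, hperm])) ?_,
        hnontriv _ _ (hcommr _ _ _ _ (hν σ) (hν τ)) hστ⟩
      intro w hw
      by_cases h1 : ρ' (ν σ) = 1
      · exact hscal _ (hρ' _ h1) _ w hw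
      · refine hcyc _ _ ?_ w hw
        rcases hS2 _ (ρ' (ν τ)) h1 with h | h
        · exact ⟨0, by rw [pow_zero, h]⟩
        · exact ⟨1, by rw [pow_one, h]⟩
    · -- three orbits: a commutator of commutators
      have hA3 : ∀ σ τ : Equiv.Perm (Fin 3), Equiv.Perm.sign σ = 1 → Equiv.Perm.sign τ = 1 → σ ≠ 1 →
          (τ = 1 ∨ τ = σ ∨ τ = σ * σ) ∧ σ * τ * σ⁻¹ * τ⁻¹ = 1 := by decide +kernel
      obtain ⟨σ₁, τ₁, σ₂, τ₂, hne⟩ : ∃ σ₁ τ₁ σ₂ τ₂ : Equiv.Perm (Fin 4),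
          (σ₁ * τ₁ * σ₁⁻¹ * τ₁⁻¹) * (σ₂ * τ₂ * σ₂⁻¹ * τ₂⁻¹) * (σ₁ * τ₁ * σ₁⁻¹ * τ₁⁻¹)⁻¹ *
            (σ₂ * τ₂ * σ₂⁻¹ * τ₂⁻¹)⁻¹ ≠ 1 :=
        ⟨Equiv.swap 0 1, Equiv.swap 1 2, Equiv.swap 0 1, Equiv.swap 1 3, by decide +kernel⟩
      set m₁ := ν σ₁ * ν τ₁ * (ν σ₁)⁻¹ * (ν τ₁)⁻¹ with hm₁
      set m₂ := ν σ₂ * ν τ₂ * (ν σ₂)⁻¹ * (ν τ₂)⁻¹ with hm₂
      have hev : ∀ x y : N, Equiv.Perm.sign (ρ' (x * y * x⁻¹ * y⁻¹)) = 1 := fun x y => by
        rw [map_mul, map_mul, map_mul, map_inv, map_inv, map_mul, map_mul, map_mul, map_inv, map_inv,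
          mul_comm (Equiv.Perm.sign _) (Equiv.Perm.sign _), mul_inv_cancel_right, mul_inv_cancel]
      have hρm : ρ (m₁ * m₂ * m₁⁻¹ * m₂⁻¹) = 1 := by
        apply hρ'
        by_cases h1 : ρ' m₁ = 1
        · simp [map_mul, map_inv, h1]
        · simp only [map_mul, map_inv]
          exact (hA3 _ _ (hev _ _) (hev _ _) h1).2
      refine ⟨_, hρm, hcentral _ _ hρm ?_,
        hnontriv _ _ (hcommr _ _ _ _ (hcommr _ _ _ _ (hν σ₁) (hν τ₁)) (hcommr _ _ _ _ (hν σ₂) (hν τ₂))) hne⟩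
      intro w hw
      by_cases h1 : ρ' m₁ = 1
      · exact hscal _ (hρ' _ h1) _ w hw
      · refine hcyc _ _ ?_ w hw
        rcases (hA3 _ (ρ' m₂) (hev _ _) (hev _ _) h1).1 with h | h | h
        · exact ⟨0, by rw [pow_zero, h]⟩
        · exact ⟨1, by rw [pow_one, h]⟩
        · exact ⟨2, by rw [pow_two, h]⟩
  -- its power moves points of `F` only
  have hjout : ∀ z, z ∉ F → (j : G) ^ r • z = z := by
    intro z hz
    have hA : orbit R z ∈ 𝒪 := (h𝒪mem _).2 ⟨z, hz, rfl⟩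
    obtain ⟨⟨v, hv⟩, hvz⟩ := hρ j hjρ _ hA z (mem_orbit_self z)
    change v • z = (j : G) • z at hvz
    have hjv : Commute (j : G) v := mul_inv_eq_iff_eq_mul.1 (hjR v hv)
    have hstep : ∀ i : ℕ, (j : G) ^ i • z = v ^ i • z := by
      intro i
      induction i with
      | zero => simp
      | succ i ih =>
        rw [pow_succ', mul_smul, ih, ← mul_smul, (hjv.pow_right i).eq, mul_smul, ← hvz, ← mul_smul,
          ← pow_succ]
    rw [hstep, hexp v hv, one_smul]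
  have hjne : (j : G) ^ r ≠ 1 := by
    intro h
    refine hji ?_
    obtain ⟨q, hq⟩ : ∃ q : Ω → Ω, (fun z => (j : G) • z) = q := ⟨fun z => (j : G) • z, rfl⟩
    have hinjp : Function.Injective fun i : Fin (c + 1) => s₀ i := s₀.injective
    -- the orbit of the point under the element has size dividing `r` and at most `c + 1`
    have hper : Function.minimalPeriod q (s₀ i₀) ∣ r := by
      rw [← Function.isPeriodicPt_iff_minimalPeriod_dvd, Function.IsPeriodicPt, Function.IsFixedPt,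
        ← hq, smul_iterate]
      show (j : G) ^ r • s₀ i₀ = s₀ i₀
      rw [h, one_smul]
    rcases hr.eq_one_or_self_of_dvd _ hper with h1 | h1
    · rw [Function.minimalPeriod_eq_one_iff_isFixedPt] at h1
      rw [← hq] at h1
      exact h1
    · exfalso
      have hsub : ∀ k : ℕ, (q^[k]) (s₀ i₀) ∈ F := by
        intro k
        induction k with
        | zero => exact (hs₀ _).2 ⟨i₀, rfl⟩
        | succ k ih =>
          rw [Function.iterate_succ_apply', ← hq]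
          exact (hNF j j.2 _).2 (hq ▸ ih)
      have := Finset.card_le_card_of_injOn (s := Finset.range r) (t := F) (fun k => (q^[k]) (s₀ i₀))
        (fun k _ => hsub k) (fun k hk l hl e => Function.iterate_injOn_Iio_minimalPeriod
          (by rw [h1]; exact Finset.mem_range.1 hk) (by rw [h1]; exact Finset.mem_range.1 hl) e)
      rw [Finset.card_range, hF] at this
      omega
  refine alternating_of_inside F ?_ _ hjout hjne fun x hx y hy x' hx' y' hy' hxy hxy' => ?_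
  · rw [hF, hΩ]
    have : 2 * r ≤ c * r := Nat.mul_le_mul_right r hc2.1
    omega
  obtain ⟨i, rfl⟩ := (hs₀ x).1 hx
  obtain ⟨k, rfl⟩ := (hs₀ y).1 hy
  obtain ⟨i', rfl⟩ := (hs₀ x').1 hx'
  obtain ⟨k', rfl⟩ := (hs₀ y').1 hy'
  obtain ⟨π, hπ1, hπ2⟩ : ∃ π : Equiv.Perm (Fin (c + 1)), π i = i' ∧ π k = k' := by
    refine ⟨Equiv.swap (Equiv.swap i i' k) k' * Equiv.swap i i', ?_, ?_⟩
    · rw [Equiv.Perm.mul_apply, Equiv.swap_apply_left]
      refine Equiv.swap_apply_of_ne_of_ne (fun e => hxy ?_) fun e => hxy' (e ▸ rfl)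
      have : Equiv.swap i i' i = Equiv.swap i i' k := (Equiv.swap_apply_left i i').trans e
      rw [(Equiv.swap i i').injective this]
    · rw [Equiv.Perm.mul_apply, Equiv.swap_apply_left]
  obtain ⟨n, hn, hni⟩ := hreal π
  exact ⟨n, hNF n hn, by rw [hni, hπ1], by rw [hni, hπ2]⟩

end CfsgLib.HalfPrime
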