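import Cfsg.Agent.S3572

/-!
# The stabiliser of a pair with a regular dihedral subgroup

If the stabiliser of two points is primitive on the others and the stabiliser of the pair contains
a dihedral group that is regular there, then, by the theorem of Wielandt on dihedral groups, the
stabiliser of a further point is transitive on the remaining odd number of points.
-/

set_option autoImplicit false
set_option linter.style.haveILetI false

namespace CfsgLib.HalfPrime

open MulAction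

variable {X Ω : Type*} [Group X] [MulAction X Ω]

/-- The stabiliser of the unordered pair. -/
def pairStab (i a : Ω) : Subgroup X where
  carrier := {g | g • i = i ∧ g • a = a ∨ g • i = a ∧ g • a = i}
  one_mem' := Or.inl ⟨one_smul _ _, one_smul _ _⟩
  mul_mem' := by
    rintro g k (⟨g1, g2⟩ | ⟨g1, g2⟩) (⟨k1, k2⟩ | ⟨k1, k2⟩) <;>
      simp [Set.mem_ofPred_eq, mul_smul, g1, g2, k1, k2]
  inv_mem' := by
    rintro g (⟨g1, g2⟩ | ⟨g1, g2⟩)
    · exact Or.inl ⟨inv_smul_eq_iff.2 g1.symm, inv_smul_eq_iff.2 g2.symm⟩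
    · exact Or.inr ⟨inv_smul_eq_iff.2 g2.symm, inv_smul_eq_iff.2 g1.symm⟩

/-- The points outside the pair. -/
def pairRest (i a : Ω) : SubMulAction (pairStab (X := X) i a) Ω where
  carrier := {z | z ≠ i ∧ z ≠ a}
  smul_mem' := by
    rintro ⟨g, hg⟩ z ⟨hzi, hza⟩
    show g • z ≠ i ∧ g • z ≠ a
    rcases hg with ⟨g1, g2⟩ | ⟨g1, g2⟩
    · exact ⟨fun e => hzi (MulAction.injective g (e.trans g1.symm)),
        fun e => hza (MulAction.injective g (e.trans g2.symm))⟩
    · exact ⟨fun e => hza (MulAction.injective g (e.trans g2.symm)),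
        fun e => hzi (MulAction.injective g (e.trans g1.symm))⟩

/-- Transitivity of a three point stabiliser. -/
theorem transitive_of_regular_dihedral [Finite X] [Finite Ω] {i a : Ω} (hia : i ≠ a)
    (hfaith : ∀ g : X, (∀ z, z ≠ i → z ≠ a → g • z = z) → g = 1)
    (hprim : ∀ B : Set Ω, i ∉ B → a ∉ B →
      (∀ g : X, g • i = i → g • a = a → ∀ x ∈ B, g • x ∈ B → ∀ y ∈ B, g • y ∈ B) →
      B.Subsingleton ∨ ∀ z, z ≠ i → z ≠ a → z ∈ B)
    (h : ℕ) (hΩ : Nat.card Ω = 2 * h + 2) (t w : X) (ht : orderOf t = h) (hw : w * w = 1)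
    (hwt : w * t * w = t⁻¹) (hti : t • i = i) (hta : t • a = a) (hwi : w • i = a)
    (hfree : ∀ n : ℕ, ∀ b, b ≠ i → b ≠ a → t ^ n • b = b → t ^ n = 1)
    (hfree' : ∀ n : ℕ, ∀ b, b ≠ i → b ≠ a → (w * t ^ n) • b ≠ b)
    (b x y : Ω) (hbi : b ≠ i) (hba : b ≠ a) (hxi : x ≠ i) (hxa : x ≠ a) (hxb : x ≠ b) (hyi : y ≠ i)
    (hya : y ≠ a) (hyb : y ≠ b) :
    ∃ g : X, g • i = i ∧ g • a = a ∧ g • b = b ∧ g • x = y := by
  classical
  haveI : NeZero h := ⟨ht ▸ (orderOf_pos t).ne'⟩
  have hwa : w • a = i := by rw [← hwi, ← mul_smul, hw, one_smul]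
  let H := pairStab (X := X) i a
  let R := pairRest (X := X) i a
  let tp : ZMod h → X := fun n => t ^ n.val
  have tp_add : ∀ m n, tp (m + n) = tp m * tp n := fun m n => by
    simp only [tp]
    rw [ZMod.val_add, ← pow_add, pow_eq_pow_iff_modEq, ht]
    exact Nat.mod_modEq _ _
  have tp0 : tp 0 = 1 := by simp [tp]
  have tp_neg : ∀ m, tp (-m) = (tp m)⁻¹ := fun m =>
    eq_inv_of_mul_eq_one_left (by rw [← tp_add, neg_add_cancel, tp0])
  have hwinv : w⁻¹ = w := inv_eq_of_mul_eq_one_right hw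
  have tpw : ∀ m, tp m * w = w * tp (-m) := fun m => by
    rw [tp_neg, show (tp m)⁻¹ = (t⁻¹) ^ m.val from (inv_pow t m.val).symm, ← hwt]
    conv_rhs => rw [show w * t * w = w * t * w⁻¹ by rw [hwinv], conj_pow, hwinv]
    show tp m * w = w * (w * t ^ m.val * w)
    rw [← mul_assoc, ← mul_assoc, hw, one_mul]
  have htH : ∀ m, tp m ∈ H := fun m => H.pow_mem (Or.inl ⟨hti, hta⟩) _
  have hwH : w ∈ H := Or.inr ⟨hwi, hwa⟩
  let f : DihedralGroup h →* H :=
    { toFun := fun d => match d with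
        | .r m => ⟨tp m, htH m⟩
        | .sr m => ⟨w * tp m, H.mul_mem hwH (htH m)⟩
      map_one' := Subtype.ext (by
        show tp 0 = 1
        exact tp0)
      map_mul' := by
        rintro (m | m) (n | n) <;> refine Subtype.ext ?_
        · exact tp_add m n
        · show w * tp (n - m) = tp m * (w * tp n)
          rw [← mul_assoc, tpw, mul_assoc, ← tp_add, neg_add_eq_sub]
        · show w * tp (m + n) = w * tp m * tp n
          rw [mul_assoc, tp_add]
        · show tp (n - m) = w * tp m * (w * tp n)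
          rw [show w * tp m * (w * tp n) = w * (tp m * w) * tp n by simp only [mul_assoc], tpw,
            ← mul_assoc, hw, one_mul, ← tp_add, neg_add_eq_sub] }
  have hfix : ∀ d : DihedralGroup h, ∀ z : Ω, z ≠ i → z ≠ a → (f d : X) • z = z → d = 1 := by
    rintro (m | m) z hzi hza hz
    · have h1 : t ^ m.val = t ^ 0 := (hfree m.val z hzi hza hz).trans (pow_zero t).symm
      rw [pow_inj_mod, ht, Nat.mod_eq_of_lt (ZMod.val_lt m), Nat.zero_mod, ZMod.val_eq_zero] at h1
      rw [h1, DihedralGroup.r_zero]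
    · exact absurd hz (hfree' m.val z hzi hza)
  have hne : ∃ z : Ω, z ≠ i ∧ z ≠ a := ⟨b, hbi, hba⟩
  obtain ⟨z₀, hz₀i, hz₀a⟩ := hne
  have hinj : Function.Injective f := (injective_iff_map_eq_one f).2 fun d hd =>
    hfix d z₀ hz₀i hz₀a (by rw [hd]; exact one_smul _ _)
  let D : Subgroup H := f.range
  have hcardR : Nat.card R = 2 * h := by
    show Nat.card ({z | z ≠ i ∧ z ≠ a} : Set Ω) = _
    rw [Nat.card_coe_set_eq, show {z : Ω | z ≠ i ∧ z ≠ a} = ({i, a} : Set Ω)ᶜ by
      ext z; simp [not_or], Set.ncard_compl, Set.ncard_pair hia, hΩ]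
    omega
  have hfree2 : ∀ d e : DihedralGroup h, ∀ z : R, f d • z = f e • z → d = e := by
    intro d e z hde
    have h1 : f (e⁻¹ * d) • z = z := by rw [map_mul, map_inv, mul_smul, hde, inv_smul_smul]
    have h2 := hfix (e⁻¹ * d) z.1 z.2.1 z.2.2 (congrArg Subtype.val h1)
    exact (inv_mul_eq_one.1 h2).symm
  have hDt : IsPretransitive D R := by
    refine ⟨fun u v => ?_⟩
    haveI : Finite R := Finite.of_injective (fun z : R => (z : Ω)) Subtype.val_injective
    haveI : Fintype R := Fintype.ofFinite _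
    have hbij : Function.Bijective fun d : DihedralGroup h => f d • u := by
      rw [Fintype.bijective_iff_injective_and_card]
      refine ⟨fun d e hde => hfree2 d e u hde, ?_⟩
      rw [← Nat.card_eq_fintype_card, ← Nat.card_eq_fintype_card, hcardR, DihedralGroup.nat_card]
    obtain ⟨d, hd⟩ := hbij.2 v
    exact ⟨⟨f d, d, rfl⟩, hd⟩
  have hDs : ∀ u : R, stabilizer D u = ⊥ := by
    intro u
    refine (Subgroup.eq_bot_iff_forall _).2 ?_
    rintro ⟨_, d, rfl⟩ hd
    refine Subtype.ext ?_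
    exact (congrArg f (hfree2 d 1 u (hd.trans (by rw [map_one, one_smul])))).trans (map_one f)
  haveI : Finite R := Finite.of_injective (fun z : R => (z : Ω)) Subtype.val_injective
  haveI : FaithfulSMul H R := ⟨fun {g k} hgk => by
    refine Subtype.ext (inv_mul_eq_one.1 (hfaith _ fun z hzi hza => ?_)).symm
    rw [mul_smul, inv_smul_eq_iff]
    exact congrArg Subtype.val (hgk ⟨z, hzi, hza⟩)⟩
  haveI : IsPretransitive H R := ⟨fun u v => by
    obtain ⟨d, hd⟩ := exists_smul_eq D u v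
    exact ⟨d, hd⟩⟩
  have hP : IsPreprimitive H R := by
    refine { isTrivialBlock_of_isBlock := fun {B} hB => ?_ }
    rcases hprim (Subtype.val '' B) (by rintro ⟨z, -, hz⟩; exact z.2.1 hz)
      (by rintro ⟨z, -, hz⟩; exact z.2.2 hz) (fun g gi ga u hu hgu v hv => by
        obtain ⟨u, hu, rfl⟩ := hu
        obtain ⟨u', hu', hue⟩ := hgu
        obtain ⟨v, hv, rfl⟩ := hv
        let k : H := ⟨g, Or.inl ⟨gi, ga⟩⟩
        refine ⟨k • v, ?_, rfl⟩
        rcases isBlock_iff_smul_eq_or_disjoint.1 hB k with h | h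
        · exact h ▸ Set.smul_mem_smul_set hv
        · exact absurd hu' (Set.disjoint_left.1 h ⟨u, hu, Subtype.ext hue.symm⟩)) with h | h
    · exact Or.inl fun u hu v hv => Subtype.ext (h ⟨u, hu, rfl⟩ ⟨v, hv, rfl⟩)
    · refine Or.inr (Set.eq_univ_of_forall fun u => ?_)
      obtain ⟨v, hv, huv⟩ := h u.1 u.2.1 u.2.2
      exact Subtype.ext huv ▸ hv
  have h2t : IsMultiplyPretransitive H R 2 :=
    Cfsg.Agent.S3572.result hP D h ⟨(MonoidHom.ofInjective hinj).symm⟩ ⟨hDt, hDs⟩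
  -- the pointwise and the setwise stabiliser have the same orbits
  have hset : ∀ u v : Ω, u ≠ i → u ≠ a → u ≠ b → v ≠ i → v ≠ a → v ≠ b →
      ∃ g ∈ H, g • b = b ∧ g • u = v := by
    intro u v hui hua hub hvi hva hvb
    obtain ⟨g, h1, h2⟩ := is_two_pretransitive_iff.1 h2t
      (show (⟨b, hbi, hba⟩ : R) ≠ ⟨u, hui, hua⟩ from fun e => hub (congrArg Subtype.val e).symm)
      (show (⟨b, hbi, hba⟩ : R) ≠ ⟨v, hvi, hva⟩ from fun e => hvb (congrArg Subtype.val e).symm)
    exact ⟨g, g.2, congrArg Subtype.val h1, congrArg Subtype.val h2⟩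
  by_contra hcon
  let O : Set Ω := {z | ∃ g : X, g • i = i ∧ g • a = a ∧ g • b = b ∧ g • x = z}
  obtain ⟨s, hs, hsb, hsx⟩ := hset x y hxi hxa hxb hyi hya hyb
  obtain ⟨si, sa⟩ : s • i = a ∧ s • a = i := by
    rcases hs with hs' | hs'
    · exact absurd ⟨s, hs'.1, hs'.2, hsb, hsx⟩ hcon
    · exact hs'
  have hsne : ∀ z ∈ O, s • z ∉ O := by
    rintro z ⟨g, gi, ga, gb, rfl⟩ ⟨k, ki, ka, kb, kx⟩
    refine hcon ⟨s * g⁻¹ * s⁻¹ * k, ?_, ?_, ?_, ?_⟩
    · simp only [mul_smul]
      rw [ki, inv_smul_eq_iff.2 sa.symm, inv_smul_eq_iff.2 ga.symm, sa]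
    · simp only [mul_smul]
      rw [ka, inv_smul_eq_iff.2 si.symm, inv_smul_eq_iff.2 gi.symm, si]
    · simp only [mul_smul]
      rw [kb, inv_smul_eq_iff.2 hsb.symm, inv_smul_eq_iff.2 gb.symm, hsb]
    · simp only [mul_smul]
      rw [kx, inv_smul_smul, inv_smul_smul, hsx]
  have hcover : ({i, a, b} : Set Ω)ᶜ = O ∪ (fun z => s • z) '' O := by
    ext z
    simp only [Set.mem_compl_iff, Set.mem_insert_iff, Set.mem_singleton_iff, not_or, Set.mem_union,
      Set.mem_image]
    constructor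
    · rintro ⟨hzi, hza, hzb⟩
      obtain ⟨g, hg, gb, gx⟩ := hset x z hxi hxa hxb hzi hza hzb
      rcases hg with ⟨gi, ga⟩ | ⟨gi, ga⟩
      · exact Or.inl ⟨g, gi, ga, gb, gx⟩
      · refine Or.inr ⟨(s⁻¹ * g) • x, ⟨s⁻¹ * g, ?_, ?_, ?_, rfl⟩, by rw [mul_smul, smul_inv_smul, gx]⟩
        · rw [mul_smul, gi]; exact inv_smul_eq_iff.2 si.symm
        · rw [mul_smul, ga]; exact inv_smul_eq_iff.2 sa.symm
        · rw [mul_smul, gb]; exact inv_smul_eq_iff.2 hsb.symm
    · have key : ∀ z ∈ O, z ≠ i ∧ z ≠ a ∧ z ≠ b := by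
        rintro z ⟨g, gi, ga, gb, rfl⟩
        exact ⟨gi ▸ (MulAction.injective g).ne hxi, ga ▸ (MulAction.injective g).ne hxa,
          gb ▸ (MulAction.injective g).ne hxb⟩
      rintro (hz | ⟨u, hu, rfl⟩)
      · exact key z hz
      · obtain ⟨h1, h2, h3⟩ := key u hu
        exact ⟨sa ▸ (MulAction.injective s).ne h2, si ▸ (MulAction.injective s).ne h1,
          hsb ▸ (MulAction.injective s).ne h3⟩
  have hc := congrArg Set.ncard hcover
  rw [Set.ncard_compl, Set.ncard_union_eq (Set.disjoint_right.2 (by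
      rintro _ ⟨u, hu, rfl⟩; exact hsne u hu)),
    Set.ncard_image_of_injective _ (MulAction.injective s),
    Set.ncard_eq_three.2 ⟨i, a, b, hia, hbi.symm, hba.symm, rfl⟩, hΩ] at hc
  have := Nat.pos_of_ne_zero (NeZero.ne h)
  omega

end CfsgLib.HalfPrime
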