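import Cfsg.Agent.HalfPrime.Coord
import Cfsg.Agent.HalfPrime.Binary

/-!
# A point stabiliser in prime degree with a large Sylow normaliser is primitive

A non-trivial block of a point stabiliser, together with that point, is a line of an invariant
linear space.  Counting the affine maps that stabilise the line gives lines of three points, and
the Steiner triple system so obtained is triangle transitive, hence a binary projective space.
-/

set_option autoImplicit false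
set_option linter.style.haveILetI false

namespace CfsgLib.HalfPrime

open MulAction

variable {G Ω : Type*} [Group G] [MulAction G Ω] {p : ℕ}

/-- The lines meeting themselves in two points are few. -/
theorem line_card [Fact p.Prime] (C : Coord G Ω p) (L : Finset (ZMod p)) (h3 : 3 ≤ L.card)
    (hlt : L.card < p)
    (hline : ∀ v ∈ C.K, ∀ t x y : ZMod p, x ∈ L → y ∈ L → x ≠ y → (v : ZMod p) * x + t ∈ L →
      (v : ZMod p) * y + t ∈ L → ∀ z ∈ L, (v : ZMod p) * z + t ∈ L) :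
    L.card = 3 ∧ 3 ∣ p - 1 := by
  classical
  let S : Finset (ZMod p × ZMod p) := Finset.univ.filter fun q =>
    (∃ v ∈ C.K, (v : ZMod p) = q.1) ∧ ∀ x ∈ L, q.1 * x + q.2 ∈ L
  have hS : ∀ q, q ∈ S ↔ (∃ v ∈ C.K, (v : ZMod p) = q.1) ∧ ∀ x ∈ L, q.1 * x + q.2 ∈ L := fun q => by
    simp [S]
  have hne : ∀ q ∈ S, q.1 ≠ 0 := by
    intro q hq
    obtain ⟨⟨v, -, hv⟩, -⟩ := (hS q).1 hq
    exact hv ▸ v.ne_zero
  -- a stabilising map permutes the line
  have hsurj : ∀ q ∈ S, ∀ y ∈ L, ∃ x ∈ L, q.1 * x + q.2 = y := by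
    intro q hq y hy
    obtain ⟨x, hx, hxy⟩ := Finset.surj_on_of_inj_on_of_card_le (s := L) (t := L)
      (fun x _ => q.1 * x + q.2) (fun x hx => ((hS q).1 hq).2 x hx)
      (fun a b _ _ h => mul_left_cancel₀ (hne q hq) (add_right_cancel h)) le_rfl y hy
    exact ⟨x, hx, hxy.symm⟩
  have huniq : ∀ q ∈ S, ∀ q' ∈ S, q.1 = q'.1 → q = q' := by
    intro q hq q' hq' he
    refine Prod.ext he ?_
    by_contra hne'
    have hd : q'.2 - q.2 ≠ 0 := sub_ne_zero.2 (Ne.symm hne')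
    have hstep : ∀ y ∈ L, y + (q'.2 - q.2) ∈ L := by
      intro y hy
      obtain ⟨x, hx, rfl⟩ := hsurj q hq y hy
      have := ((hS q').1 hq').2 x hx
      rw [← he] at this
      convert this using 1
      ring
    obtain ⟨y₀, hy₀⟩ := Finset.card_pos.1 (show 0 < L.card by omega)
    have hall : ∀ k : ℕ, y₀ + (k : ZMod p) * (q'.2 - q.2) ∈ L := by
      intro k
      induction k with
      | zero => simpa using hy₀
      | succ k ih =>
        convert hstep _ ih using 1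
        push_cast
        ring
    have huniv : L = Finset.univ := Finset.eq_univ_of_forall fun z => by
      have := hall ((z - y₀) * (q'.2 - q.2)⁻¹).val
      rwa [ZMod.natCast_zmod_val, mul_assoc, inv_mul_cancel₀ hd, mul_one, add_sub_cancel] at this
    rw [huniv, Finset.card_univ, ZMod.card] at hlt
    exact lt_irrefl _ hlt
  -- two classes of pairs
  let cls : ZMod p × ZMod p → Prop := fun w => ∃ v ∈ C.K, (v : ZMod p) = w.2 - w.1
  have hclass : ∀ F : Finset (ZMod p × ZMod p), F ⊆ L.offDiag →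
      (∀ w ∈ F, ∀ w' ∈ F, (cls w ↔ cls w')) → F.card ≤ S.card := by
    intro F hF hcl
    obtain rfl | ⟨w₀, hw₀⟩ := F.eq_empty_or_nonempty
    · simp
    obtain ⟨hx₀, hy₀, hxy₀⟩ := Finset.mem_offDiag.1 (hF hw₀)
    have hd₀ : w₀.2 - w₀.1 ≠ 0 := sub_ne_zero.2 (Ne.symm hxy₀)
    let f : ZMod p × ZMod p → ZMod p × ZMod p := fun w =>
      ((w.2 - w.1) / (w₀.2 - w₀.1), w.1 - (w.2 - w.1) / (w₀.2 - w₀.1) * w₀.1)
    have hf1 : ∀ w, (f w).1 * w₀.1 + (f w).2 = w.1 := fun w => by simp [f]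
    have hf2 : ∀ w, (f w).1 * w₀.2 + (f w).2 = w.2 := fun w => by
      simp only [f]
      field_simp
      ring
    refine Finset.card_le_card_of_injOn f (fun w hw => ?_) fun w _ w' _ h => ?_
    · obtain ⟨hx, hy, hxy⟩ := Finset.mem_offDiag.1 (hF hw)
      have hd : w.2 - w.1 ≠ 0 := sub_ne_zero.2 (Ne.symm hxy)
      have hK : Units.mk0 _ hd * (Units.mk0 _ hd₀)⁻¹ ∈ C.K := by
        have hiff : ∀ (u : ZMod p × ZMod p) (hu : u.2 - u.1 ≠ 0), Units.mk0 _ hu ∈ C.K ↔ cls u :=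
          fun u hu => ⟨fun h => ⟨_, h, rfl⟩, fun ⟨v, hv, hvu⟩ => by
            rwa [show Units.mk0 _ hu = v from Units.ext hvu.symm]⟩
        by_cases h : cls w₀
        · exact C.K.mul_mem ((hiff w hd).2 ((hcl w₀ hw₀ w hw).1 h))
            (C.K.inv_mem ((hiff w₀ hd₀).2 h))
        · rw [mul_comm]
          exact C.two _ _ (fun hh => h ((hiff w₀ hd₀).1 hh))
            fun hh => h ((hcl w₀ hw₀ w hw).2 ((hiff w hd).1 hh))
      have hval : ((Units.mk0 _ hd * (Units.mk0 _ hd₀)⁻¹ : (ZMod p)ˣ) : ZMod p) = (f w).1 := by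
        simp [f, div_eq_mul_inv]
      refine Finset.mem_coe.2 ((hS _).2 ⟨⟨_, hK, hval⟩, ?_⟩)
      rw [← hval]
      exact hline _ hK _ _ _ hx₀ hy₀ hxy₀ (by rw [hval, hf1]; exact hx) (by rw [hval, hf2]; exact hy)
    · exact Prod.ext (by rw [← hf1 w, h, hf1]) (by rw [← hf2 w, h, hf2])
  have hpairs : L.offDiag.card ≤ 2 * S.card := by
    rw [← Finset.card_filter_add_card_filter_not (s := L.offDiag) cls, two_mul]
    refine Nat.add_le_add (hclass _ (Finset.filter_subset _ _) fun w hw w' hw' => ?_)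
      (hclass _ (Finset.filter_subset _ _) fun w hw w' hw' => ?_)
    · simp [(Finset.mem_filter.1 hw).2, (Finset.mem_filter.1 hw').2]
    · simp [(Finset.mem_filter.1 hw).2, (Finset.mem_filter.1 hw').2]
  -- the stabilising maps have a common fixed point
  have hSle : S.card ≤ L.card := by
    by_cases hall : ∀ q ∈ S, q.1 = 1
    · have : S.card ≤ 1 :=
        Finset.card_le_one.2 fun q hq q' hq' => huniq q hq q' hq' ((hall q hq).trans (hall q' hq').symm)
      omega
    push Not at hall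
    obtain ⟨q, hq, hq1⟩ := hall
    have hcomp : ∀ a ∈ S, ∀ b ∈ S, (a.1 * b.1, a.1 * b.2 + a.2) ∈ S := by
      intro a ha b hb
      obtain ⟨⟨u, hu, hua⟩, ha'⟩ := (hS a).1 ha
      obtain ⟨⟨v, hv, hvb⟩, hb'⟩ := (hS b).1 hb
      refine (hS _).2 ⟨⟨u * v, C.K.mul_mem hu hv, by simp [hua, hvb]⟩, fun x hx => ?_⟩
      convert ha' _ (hb' x hx) using 1
      ring
    let c := q.2 / (1 - q.1)
    have hd : (1 : ZMod p) - q.1 ≠ 0 := sub_ne_zero.2 (Ne.symm hq1)
    have hfix : ∀ r ∈ S, r.2 = c * (1 - r.1) := by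
      intro r hr
      have h := congrArg Prod.snd (huniq _ (hcomp q hq r hr) _ (hcomp r hr q hq) (mul_comm _ _))
      simp only [c] at h ⊢
      field_simp
      linear_combination (-1 : ZMod p) * h
    obtain ⟨x, hx, hxc⟩ := Finset.exists_mem_ne (show 1 < L.card by omega) c
    refine Finset.card_le_card_of_injOn (fun r => r.1 * x + r.2)
      (fun r hr => ((hS r).1 hr).2 x hx) fun r hr r' hr' h => huniq r hr r' hr' ?_
    simp only at h
    rw [hfix r hr, hfix r' hr'] at h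
    exact mul_right_cancel₀ (sub_ne_zero.2 hxc) (by linear_combination h)
  have hm : L.card = 3 := by
    rw [Finset.offDiag_card] at hpairs
    by_contra hne3
    have h4 : 4 * L.card ≤ L.card * L.card := Nat.mul_le_mul_right _ (by omega)
    omega
  refine ⟨hm, ?_⟩
  have hS3 : S.card = 3 := by
    rw [Finset.offDiag_card, hm] at hpairs
    omega
  let H : Subgroup (ZMod p)ˣ :=
    { carrier := {v | v ∈ C.K ∧ ∃ t, ∀ x ∈ L, (v : ZMod p) * x + t ∈ L}
      one_mem' := ⟨C.K.one_mem, 0, fun x hx => by simpa using hx⟩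
      mul_mem' := fun {a b} ⟨ha, s, hs⟩ ⟨hb, t, ht⟩ => ⟨C.K.mul_mem ha hb, (a : ZMod p) * t + s,
        fun x hx => by
          convert hs _ (ht x hx) using 1
          rw [Units.val_mul]
          ring⟩
      inv_mem' := fun {a} ⟨ha, s, hs⟩ => ⟨C.K.inv_mem ha, -((a⁻¹ : (ZMod p)ˣ) : ZMod p) * s,
        fun y hy => by
          obtain ⟨x, hx, rfl⟩ := hsurj ((a : ZMod p), s) ((hS _).2 ⟨⟨a, ha, rfl⟩, hs⟩) y hy
          convert hx using 1
          linear_combination x * Units.inv_mul a⟩ }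
  have hH : Nat.card H = 3 := by
    rw [← hS3, ← Nat.card_eq_finsetCard S]
    refine Nat.card_eq_of_bijective
      (fun v : H => (⟨(((v : (ZMod p)ˣ) : ZMod p), v.2.2.choose),
        (hS _).2 ⟨⟨v, v.2.1, rfl⟩, v.2.2.choose_spec⟩⟩ : S))
      ⟨fun v w h => Subtype.ext (Units.ext (congrArg (fun q : S => q.1.1) h)), fun q => ?_⟩
    obtain ⟨⟨v, hv, hvq⟩, hmaps⟩ := (hS _).1 q.2
    refine ⟨⟨v, hv, q.1.2, by rwa [hvq]⟩, Subtype.ext (huniq _ ?_ _ q.2 hvq)⟩
    exact (hS _).2 ⟨⟨v, hv, rfl⟩, Exists.choose_spec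
      (p := fun t => ∀ x ∈ L, (v : ZMod p) * x + t ∈ L) ⟨q.1.2, by rwa [hvq]⟩⟩
  have hdvd := Subgroup.card_subgroup_dvd_card H
  rwa [hH, Nat.card_eq_fintype_card, ZMod.card_units] at hdvd

/-- Among three points two are related by the stabiliser of two others. -/
theorem related_three [Finite G] [FaithfulSMul G Ω] [Fact p.Prime] [IsMultiplyPretransitive G Ω 2]
    (hns : ¬ Group.IsSolvable G) (C : Coord G Ω p) (hp : 3 < p) {a b x y z : Ω} (hab : a ≠ b)
    (hxa : x ≠ a) (hxb : x ≠ b) (hya : y ≠ a) (hyb : y ≠ b) (hza : z ≠ a) (hzb : z ≠ b) :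
    ∃ g : G, g • a = a ∧ g • b = b ∧ (g • x = y ∨ g • x = z ∨ g • y = z) := by
  obtain ⟨i, j, hij, g, ga, gb, hg⟩ := exists_related hns C hp hab ![x, y, z]
    (fun i => by fin_cases i <;> assumption) (fun i => by fin_cases i <;> assumption)
  have ga' : g⁻¹ • a = a := inv_smul_eq_iff.2 ga.symm
  have gb' : g⁻¹ • b = b := inv_smul_eq_iff.2 gb.symm
  fin_cases i <;> fin_cases j
  · exact absurd rfl hij
  · exact ⟨g, ga, gb, Or.inl hg⟩
  · exact ⟨g, ga, gb, Or.inr (Or.inl hg)⟩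
  · exact ⟨g⁻¹, ga', gb', Or.inl (inv_smul_eq_iff.2 hg.symm)⟩
  · exact absurd rfl hij
  · exact ⟨g, ga, gb, Or.inr (Or.inr hg)⟩
  · exact ⟨g⁻¹, ga', gb', Or.inr (Or.inl (inv_smul_eq_iff.2 hg.symm))⟩
  · exact ⟨g⁻¹, ga', gb', Or.inr (Or.inr (inv_smul_eq_iff.2 hg.symm))⟩
  · exact absurd rfl hij

/-- In an insoluble group of prime degree above seven with a large Sylow normaliser a point
stabiliser has only trivial blocks on the other points. -/
theorem trivial_block [Finite G] [FaithfulSMul G Ω] [Fact p.Prime]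
    [IsMultiplyPretransitive G Ω 2] (hns : ¬ Group.IsSolvable G) (C : Coord G Ω p) (hp7 : 7 < p)
    (α : Ω) (B : Set Ω) (hαB : α ∉ B)
    (hblk : ∀ g : G, g • α = α → ∀ x ∈ B, g • x ∈ B → ∀ y ∈ B, g • y ∈ B) :
    B.Subsingleton ∨ ∀ x, x ≠ α → x ∈ B := by
  classical
  haveI : Finite Ω := Finite.of_equiv _ C.e
  have hΩ : Nat.card Ω = p := by rw [← Nat.card_congr C.e, Nat.card_zmod]
  have hodd : p % 2 = 1 := (Fact.out : p.Prime).eq_two_or_odd.resolve_left (by omega)
  by_contra hcon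
  simp only [not_or, Set.Subsingleton, not_forall] at hcon
  obtain ⟨⟨b₀, hb₀, c₀, hc₀, hbc⟩, d, hdα, hdB⟩ := hcon
  have hb₀α : b₀ ≠ α := fun e => hαB (e ▸ hb₀)
  have hc₀α : c₀ ≠ α := fun e => hαB (e ▸ hc₀)
  have hblk' : ∀ g : G, g • α = α → ∀ x ∈ B, g • x ∈ B → ∀ y, g • y ∈ B → y ∈ B := by
    intro g hg x hx hgx y hy
    have := hblk g⁻¹ (inv_smul_eq_iff.2 hg.symm) _ hgx (by rwa [inv_smul_smul]) _ hy
    rwa [inv_smul_smul] at this
  -- the two orbits
  have horbit : ∀ x ∈ B, x ≠ b₀ → ∃ g : G, g • α = α ∧ g • b₀ = b₀ ∧ g • c₀ = x := by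
    intro x hx hxb
    by_cases hxc : x = c₀
    · exact ⟨1, one_smul _ _, one_smul _ _, by rw [one_smul, hxc]⟩
    obtain ⟨g, gα, gb, gx⟩ := related_three hns C (by omega) hb₀α.symm hc₀α (Ne.symm hbc)
      (fun e => hαB (e ▸ hx)) hxb hdα (fun e => hdB (e ▸ hb₀))
    rcases gx with gx | gx | gx
    · exact ⟨g, gα, gb, gx⟩
    · exact absurd (gx ▸ hblk g gα b₀ hb₀ (by rwa [gb]) c₀ hc₀) hdB
    · exact absurd (gx ▸ hblk g gα b₀ hb₀ (by rwa [gb]) x hx) hdB
  have horbit₂ : ∀ x y, x ∉ B → x ≠ α → y ∉ B → y ≠ α →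
      ∃ g : G, g • α = α ∧ g • b₀ = b₀ ∧ g • x = y := by
    intro x y hx hxα hy hyα
    obtain ⟨g, gα, gb, gx⟩ := related_three hns C (by omega) hb₀α.symm hc₀α (Ne.symm hbc)
      hxα (fun e => hx (e ▸ hb₀)) hyα (fun e => hy (e ▸ hb₀))
    rcases gx with gx | gx | gx
    · exact absurd (gx ▸ hblk g gα b₀ hb₀ (by rwa [gb]) c₀ hc₀) hx
    · exact absurd (gx ▸ hblk g gα b₀ hb₀ (by rwa [gb]) c₀ hc₀) hy
    · exact ⟨g, gα, gb, gx⟩
  -- the collinearity relation
  let R : Ω → Ω → Ω → Prop := fun a b c => ∃ g : G, g • α = a ∧ g • b₀ = b ∧ g • c₀ = c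
  have hRsmul : ∀ (k : G) {a b c}, R a b c → R (k • a) (k • b) (k • c) :=
    fun k a b c ⟨g, h1, h2, h3⟩ => ⟨k * g, by rw [mul_smul, h1], by rw [mul_smul, h2],
      by rw [mul_smul, h3]⟩
  have hR₀ : ∀ x, R α b₀ x ↔ x ∈ B ∧ x ≠ b₀ := by
    refine fun x => ⟨fun ⟨g, gα, gb, gc⟩ => ?_, fun h => horbit x h.1 h.2⟩
    exact ⟨gc ▸ hblk g gα b₀ hb₀ (by rwa [gb]) c₀ hc₀,
      fun e => hbc (MulAction.injective g (gb.trans (gc.trans e).symm))⟩
  have hRB : ∀ y ∈ B, ∀ z, R α y z ↔ z ∈ B ∧ z ≠ y := by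
    intro y hy z
    obtain ⟨k, kα, kb⟩ := exists_smul_pair (G := G) hb₀α.symm
      (show α ≠ y from fun e => hαB (e ▸ hy))
    have hk' : k⁻¹ • α = α := inv_smul_eq_iff.2 kα.symm
    constructor
    · intro h
      have := hRsmul k⁻¹ h
      rw [hk', inv_smul_eq_iff.2 kb.symm, hR₀] at this
      refine ⟨?_, fun e => this.2 (by rw [e]; exact inv_smul_eq_iff.2 kb.symm)⟩
      have h2 := hblk k kα b₀ hb₀ (by rwa [kb]) _ this.1
      rwa [smul_inv_smul] at h2
    · intro h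
      have h1 : k⁻¹ • z ∈ B := hblk' k kα b₀ hb₀ (by rwa [kb]) _ (by rw [smul_inv_smul]; exact h.1)
      have := hRsmul k ((hR₀ _).2 ⟨h1, fun e => h.2 (by rw [← kb, ← e, smul_inv_smul])⟩)
      rwa [kα, kb, smul_inv_smul] at this
  have hswap₂ : ∀ {a b c}, R a b c → R a c b := by
    rintro a b c ⟨g, rfl, rfl, rfl⟩
    exact hRsmul g ((hRB c₀ hc₀ b₀).2 ⟨hb₀, hbc⟩)
  have hswap : ∀ {a b c}, R a b c → R b a c := by
    rintro a b c ⟨g, rfl, rfl, rfl⟩
    refine hRsmul g ?_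
    obtain ⟨s, sα, sb⟩ := exists_smul_pair (G := G) hb₀α.symm hb₀α
    have hs2 : ∀ h : G, h • α = α → h • b₀ = b₀ →
        (s * h * s⁻¹) • α = α ∧ (s * h * s⁻¹) • b₀ = b₀ := by
      intro h hα hb
      simp only [mul_smul]
      refine ⟨?_, ?_⟩
      · rw [inv_smul_eq_iff.2 sb.symm, hb, sb]
      · rw [inv_smul_eq_iff.2 sα.symm, hα, sα]
    suffices hsc : s • c₀ ∈ B by
      have hne : s • c₀ ≠ b₀ := fun e => hc₀α (MulAction.injective s (e.trans sα.symm))
      have := hRsmul s⁻¹ ((hR₀ _).2 ⟨hsc, hne⟩)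
      rwa [inv_smul_eq_iff.2 sb.symm, inv_smul_eq_iff.2 sα.symm, inv_smul_smul] at this
    by_contra hsc
    have hscα : s • c₀ ≠ α := fun e => hbc (MulAction.injective s (sb.trans e.symm))
    have h1 : ∀ x ∈ B, x ≠ b₀ → s • x ∉ B ∧ s • x ≠ α := by
      intro x hx hxb
      obtain ⟨h, hα, hb, rfl⟩ := horbit x hx hxb
      obtain ⟨k1, k2⟩ := hs2 h hα hb
      have he : s • h • c₀ = (s * h * s⁻¹) • (s • c₀) := by simp [mul_smul]
      rw [he]
      exact ⟨fun hh => hsc (hblk' _ k1 b₀ hb₀ (by rwa [k2]) _ hh),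
        fun e => hscα (MulAction.injective _ (e.trans k1.symm))⟩
    have h2 : ∀ x, x ∉ B → x ≠ α → s • x ∈ B ∧ s • x ≠ b₀ := by
      intro x hx hxα
      obtain ⟨h, hα, hb, rfl⟩ := horbit₂ (s • c₀) x hsc hscα hx hxα
      obtain ⟨k1, k2⟩ := hs2 h hα hb
      have he : s • h • s • c₀ = (s * h * s⁻¹) • ((s * s) • c₀) := by simp [mul_smul]
      have hss : (s * s) • α = α ∧ (s * s) • b₀ = b₀ :=
        ⟨by rw [mul_smul, sα, sb], by rw [mul_smul, sb, sα]⟩
      rw [he, ← mul_smul]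
      exact (hR₀ _).1 ⟨_, by rw [mul_smul, hss.1, k1], by rw [mul_smul, hss.2, k2], rfl⟩
    have himg : (fun x => s • x) '' (B \ {b₀}) = {x | x ∉ B ∧ x ≠ α} := by
      refine Set.Subset.antisymm (Set.image_subset_iff.2 fun x hx => h1 x hx.1 hx.2) fun y hy => ?_
      refine ⟨s⁻¹ • y, ⟨?_, ?_⟩, smul_inv_smul s y⟩
      · by_contra hn
        have := h2 _ hn fun e => hy.1 (by rw [← smul_inv_smul s y, e, sα]; exact hb₀)
        rw [smul_inv_smul] at this
        exact hy.1 this.1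
      · intro e
        exact hy.2 (by rw [← smul_inv_smul s y, e, sb])
    have hcard := congrArg Set.ncard himg
    rw [Set.ncard_image_of_injective _ (MulAction.injective s)] at hcard
    have hunion : {x | x ∉ B ∧ x ≠ α} = (insert α B)ᶜ := by ext x; simp [and_comm]
    rw [hunion, Set.ncard_compl, Set.ncard_insert_of_notMem hαB, hΩ] at hcard
    have := Set.ncard_sdiff_singleton_add_one hb₀ (Set.toFinite B)
    have : B.ncard + 1 ≤ p := by
      rw [← hΩ, ← Set.ncard_insert_of_notMem hαB]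
      exact Set.ncard_le_card _
    omega
  have htrans : ∀ {a b c e}, R a b c → R a b e → c ≠ e → R a c e := by
    rintro a b c e ⟨g, rfl, rfl, rfl⟩ he hne
    have h1 := hRsmul g⁻¹ he
    simp only [inv_smul_smul] at h1
    rw [hR₀] at h1
    have h2 := hRsmul g ((hRB c₀ hc₀ (g⁻¹ • e)).2 ⟨h1.1, fun e' => hne (by rw [← e', smul_inv_smul])⟩)
    rwa [smul_inv_smul] at h2
  -- the line through `α` and `b₀`
  let ℓ : Set Ω := insert α B
  have hℓ₁ : ∀ x ∈ ℓ, ∀ y ∈ ℓ, x ≠ y → ∀ z ∈ ℓ, z ≠ x → z ≠ y → R x y z := by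
    intro x hx y hy hxy z hz hzx hzy
    rcases hx with rfl | hx
    · exact (hRB y (hy.resolve_left (Ne.symm hxy)) z).2 ⟨hz.resolve_left hzx, hzy⟩
    rcases hy with rfl | hy
    · exact hswap ((hRB x hx z).2 ⟨hz.resolve_left hzy, hzx⟩)
    rcases hz with rfl | hz
    · exact hswap₂ (hswap ((hRB x hx y).2 ⟨hy, Ne.symm hxy⟩))
    exact htrans (hswap ((hRB x hx y).2 ⟨hy, Ne.symm hxy⟩)) (hswap ((hRB x hx z).2 ⟨hz, hzx⟩))
      (Ne.symm hzy)
  have hℓ₂ : ∀ x ∈ ℓ, ∀ y ∈ ℓ, x ≠ y → ∀ z, R x y z → z ∈ ℓ := by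
    intro x hx y hy hxy z h
    by_cases hzα : z = α
    · exact Or.inl hzα
    refine Or.inr ?_
    rcases hx with rfl | hx
    · exact ((hRB y (hy.resolve_left (Ne.symm hxy)) z).1 h).1
    rcases hy with rfl | hy
    · exact ((hRB x hx z).1 (hswap h)).1
    have h1 : R x y α := hswap₂ (hswap ((hRB x hx y).2 ⟨hy, Ne.symm hxy⟩))
    exact ((hRB x hx z).1 (hswap (htrans h1 h (Ne.symm hzα)))).1
  let L : Finset (ZMod p) := Finset.univ.filter fun i => C.e i ∈ ℓ
  have hLℓ : ∀ i, i ∈ L ↔ C.e i ∈ ℓ := fun i => by simp [L]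
  have hLcard : L.card = ℓ.ncard := by
    rw [show ℓ = C.e '' (L : Set (ZMod p)) by
      ext x
      refine ⟨fun hx => ⟨C.e.symm x, by simpa [hLℓ] using hx, by simp⟩, ?_⟩
      rintro ⟨i, hi, rfl⟩
      exact (hLℓ i).1 hi, Set.ncard_image_of_injective _ C.e.injective, Set.ncard_coe_finset]
  have hℓcard : ℓ.ncard = B.ncard + 1 := Set.ncard_insert_of_notMem hαB
  have h2B : 1 < B.ncard := (Set.one_lt_ncard (Set.toFinite B)).2 ⟨b₀, hb₀, c₀, hc₀, hbc⟩
  have hlt : ℓ.ncard < p := by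
    rw [← hΩ, ← Set.ncard_univ]
    refine Set.ncard_lt_ncard (Set.ssubset_univ_iff.2 fun e => ?_)
    rcases e.symm ▸ Set.mem_univ d with h | h
    exacts [hdα h, hdB h]
  obtain ⟨hL3, h3p⟩ := line_card C L (by omega) (by omega) fun v hv t x y hx hy hxy hx' hy' z hz => by
    obtain ⟨g, hg⟩ := C.affine v hv t
    rw [hLℓ] at hx hy hx' hy' hz ⊢
    rw [← hg] at hx' hy' ⊢
    have hne : C.e x ≠ C.e y := C.e.injective.ne hxy
    by_cases h1 : C.e z = C.e x
    · rw [h1]; exact hx'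
    by_cases h2 : C.e z = C.e y
    · rw [h2]; exact hy'
    exact hℓ₂ _ hx' _ hy' ((MulAction.injective g).ne hne) _
      (hRsmul g (hℓ₁ _ hx _ hy hne _ hz h1 h2))
  have hBeq : ∀ x ∈ B, x = b₀ ∨ x = c₀ := by
    intro x hx
    by_contra hn
    simp only [not_or] at hn
    have : 3 ≤ B.ncard := by
      rw [← show ({x, b₀, c₀} : Set Ω).ncard = 3 from
        Set.ncard_eq_three.2 ⟨x, b₀, c₀, hn.1, hn.2, hbc, rfl⟩]
      exact Set.ncard_le_ncard (by simp [Set.insert_subset_iff, hx, hb₀, hc₀])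
    omega
  -- the Steiner system
  have hex : ∀ a b : Ω, a ≠ b → ∃ c, R a b c := by
    intro a b hab
    obtain ⟨g, h1, h2⟩ := exists_smul_pair (G := G) hb₀α.symm hab
    exact ⟨g • c₀, g, h1, h2, rfl⟩
  have huniq : ∀ {a b c e}, R a b c → R a b e → c = e := by
    rintro a b c e ⟨g, rfl, rfl, rfl⟩ he
    have h1 := hRsmul g⁻¹ he
    simp only [inv_smul_smul] at h1
    rw [hR₀] at h1
    rw [← (hBeq _ h1.1).resolve_left h1.2, smul_inv_smul]
  let op : Ω → Ω → Ω := fun a b => if h : a = b then a else (hex a b h).choose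
  have hop : ∀ {a b}, a ≠ b → R a b (op a b) := fun {a b} h => by
    simp only [op, dif_neg h]
    exact (hex a b h).choose_spec
  have hidem : ∀ x, op x x = x := fun x => by simp [op]
  let S : Steiner Ω :=
    { op := op
      idem := hidem
      comm := fun x y => by
        by_cases h : x = y
        · rw [h]
        · exact huniq (hswap (hop h)) (hop (Ne.symm h)) |>.trans rfl
      inv := fun x y => by
        by_cases h : x = y
        · rw [h, hidem, hidem]
        · have hr := hswap₂ (hop h)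
          exact huniq (hop (fun e => hc₀α (by
            obtain ⟨g, g1, -, g3⟩ := hop h
            exact MulAction.injective g (g3.trans (e.symm.trans g1.symm))))) hr }
  have heq : ∀ (g : G) (x y : Ω), g • S.op x y = S.op (g • x) (g • y) := by
    intro g x y
    show g • op x y = op (g • x) (g • y)
    by_cases h : x = y
    · rw [h, hidem, hidem]
    · exact huniq (hRsmul g (hop h)) (hop ((MulAction.injective g).ne h))
  have htri : ∀ {a b z a' b' z' : Ω}, S.Tri a b z → S.Tri a' b' z' →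
      ∃ g : G, g • a = a' ∧ g • b = b' ∧ g • z = z' := by
    rintro a b z a' b' z' ⟨hab, hza, hzb, hzc⟩ ⟨hab', hza', hzb', hzc'⟩
    obtain ⟨g, ga, gb⟩ := exists_smul_pair (G := G) hab hab'
    have hgc : g • S.op a b = S.op a' b' := by rw [heq, ga, gb]
    by_cases hgz : g • z = z'
    · exact ⟨g, ga, gb, hgz⟩
    have hca : S.op a' b' ≠ a' := S.ne_op_left hab'
    have hcb : S.op a' b' ≠ b' := S.ne_op_right hab'
    have hfix : ∀ {h : G}, h • a' = a' → h • b' = b' → h • S.op a' b' = S.op a' b' :=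
      fun hα hb => by rw [heq, hα, hb]
    obtain ⟨h, hα, hb, hx⟩ := related_three hns C (by omega) hab' hca hcb
      (ga ▸ (MulAction.injective g).ne hza) (gb ▸ (MulAction.injective g).ne hzb) hza' hzb'
    have hgzc : g • z ≠ S.op a' b' := hgc ▸ (MulAction.injective g).ne hzc
    rw [hfix hα hb] at hx
    rcases hx with hx | hx | hx
    · exact absurd hx.symm hgzc
    · exact absurd hx.symm hzc'
    · exact ⟨h * g, by rw [mul_smul, ga, hα], by rw [mul_smul, gb, hb], by rw [mul_smul, hx]⟩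
  have := le_seven_of_assoc C S heq fun x y z h =>
    S.assoc_of_triangleTransitive heq htri (by rw [hΩ]; omega) h
  omega

/-- A point stabiliser in an insoluble group of prime degree above seven with a large Sylow
normaliser is primitive on the other points. -/
theorem isPreprimitive_stabilizer [Finite G] [FaithfulSMul G Ω] [Fact p.Prime]
    [IsMultiplyPretransitive G Ω 2] (hns : ¬ Group.IsSolvable G) (C : Coord G Ω p) (hp7 : 7 < p)
    (α : Ω) : IsPreprimitive (stabilizer G α) (SubMulAction.ofStabilizer G α) := by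
  haveI : IsPretransitive (stabilizer G α) (SubMulAction.ofStabilizer G α) := ⟨fun x y => by
    obtain ⟨g, h1, h2⟩ := exists_smul_pair (G := G)
      (show α ≠ (x : Ω) from Ne.symm ((SubMulAction.mem_ofStabilizer_iff G α).1 x.2))
      (show α ≠ (y : Ω) from Ne.symm ((SubMulAction.mem_ofStabilizer_iff G α).1 y.2))
    exact ⟨⟨g, h1⟩, Subtype.ext h2⟩⟩
  refine { isTrivialBlock_of_isBlock := fun {B} hB => ?_ }
  rcases trivial_block hns C hp7 α (Subtype.val '' B)
    (by rintro ⟨x, -, hx⟩; exact (SubMulAction.mem_ofStabilizer_iff G α).1 x.2 hx)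
    (fun g hg x hx hgx y hy => by
      obtain ⟨x, hx, rfl⟩ := hx
      obtain ⟨x', hx', hxe⟩ := hgx
      obtain ⟨y, hy, rfl⟩ := hy
      let k : stabilizer G α := ⟨g, hg⟩
      have hkx : k • x = x' := Subtype.ext hxe.symm
      refine ⟨k • y, ?_, rfl⟩
      rcases isBlock_iff_smul_eq_or_disjoint.1 hB k with h | h
      · exact h ▸ Set.smul_mem_smul_set hy
      · exact absurd hx' (Set.disjoint_left.1 h ⟨x, hx, hkx⟩)) with h | h
  · exact Or.inl fun x hx y hy => Subtype.ext (h ⟨x, hx, rfl⟩ ⟨y, hy, rfl⟩)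
  · refine Or.inr (Set.eq_univ_of_forall fun x => ?_)
    obtain ⟨y, hy, hxy⟩ := h x ((SubMulAction.mem_ofStabilizer_iff G α).1 x.2)
    exact Subtype.ext hxy ▸ hy

end CfsgLib.HalfPrime
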