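import Cfsg.Agent.HalfPrime.Parity
import Cfsg.Agent.HalfPrime.Triple
import Cfsg.Agent.HalfPrime.PairSet
import Cfsg.Agent.HalfPrime.Line
import Cfsg.Agent.HalfPrime.Sylow

/-!
# Even overgroups of `PSL(2, p)` on the projective line are four-fold transitive
-/

set_option autoImplicit false
set_option linter.style.haveILetI false

namespace CfsgLib.HalfPrime

open MulAction

/-- The main configuration. -/
theorem four_transitive {X Ω : Type*} [Group X] [Finite X] [MulAction X Ω] [FaithfulSMul X Ω]
    [Fintype Ω] [DecidableEq Ω] {p : ℕ} [hp : Fact p.Prime] (hp7 : 7 < p)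
    (hΩ : Fintype.card Ω = p + 1)
    (heven : ∀ x : X, Equiv.Perm.sign (MulAction.toPerm x : Equiv.Perm Ω) = 1)
    (L : Subgroup X) [IsPretransitive L Ω] (hLX : L ≠ ⊤) (h : ℕ) (hh : p = 2 * h + 1)
    (hL : Nat.card L = (p + 1) * (p * h)) (v t w : X) (hvL : v ∈ L) (htL : t ∈ L) (hwL : w ∈ L)
    (hv : orderOf v = p) (ht : orderOf t = h) (hw : w * w = 1) (hwt : w * t * w = t⁻¹)
    (htv : t * v * t⁻¹ ∈ Subgroup.zpowers v) (hwv : w * v * w ∉ Subgroup.zpowers v) :
    IsMultiplyPretransitive X Ω 4 := by
  classical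
  have hpp : p.Prime := hp.out
  have hΩ' : Nat.card Ω = p + 1 := by rw [Nat.card_eq_fintype_card, hΩ]
  let V := Subgroup.zpowers v
  have hVp : IsPGroup p V := IsPGroup.of_card (n := 1) (by rw [Nat.card_zpowers, hv, pow_one])
  obtain ⟨i, hi⟩ := hVp.nonempty_fixed_point_of_prime_not_dvd_card Ω (by
    rw [hΩ', ← Nat.dvd_add_iff_right dvd_rfl, Nat.dvd_one]
    exact hpp.ne_one)
  have hvi : v • i = i := hi ⟨v, Subgroup.mem_zpowers v⟩
  -- the element of order `p` has exactly one fixed point
  have hvfix : ∀ z : Ω, v • z = z → z = i := by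
    intro z hz
    by_contra hne
    have hz' : z ∈ fixedPoints V Ω := by
      rintro ⟨x, hx⟩
      exact ((Subgroup.zpowers_le).2 (show v ∈ stabilizer X z from hz)) hx
    have h2 : 2 ≤ Nat.card (fixedPoints V Ω) := by
      rw [Nat.card_coe_set_eq]
      exact le_of_eq_of_le (Set.ncard_pair hne).symm
        (Set.ncard_le_ncard (by simp [Set.insert_subset_iff, hi, hz']) (Set.toFinite _))
    have hmod := hVp.card_modEq_card_fixedPoints Ω
    have hle : Nat.card (fixedPoints V Ω) ≤ p + 1 := hΩ' ▸ Finite.card_subtype_le _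
    rw [hΩ', Nat.ModEq, Nat.add_mod_left, Nat.mod_eq_of_lt hpp.one_lt] at hmod
    have hall : Nat.card (fixedPoints V Ω) = p + 1 := by
      rcases Nat.lt_or_ge (Nat.card (fixedPoints V Ω)) p with h1 | h1
      · rw [Nat.mod_eq_of_lt h1] at hmod; omega
      · rcases Nat.lt_or_ge (Nat.card (fixedPoints V Ω)) (p + 1) with h3 | h3
        · rw [show Nat.card (fixedPoints V Ω) = p by omega, Nat.mod_self] at hmod
          omega
        · omega
    have huniv : fixedPoints V Ω = Set.univ :=
      Set.eq_of_subset_of_ncard_le (Set.subset_univ _)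
        (by rw [Set.ncard_univ, ← Nat.card_coe_set_eq, hall, hΩ']) (Set.toFinite _)
    have hv1 : v = 1 := eq_of_smul_eq_smul fun z : Ω => by
      rw [one_smul]
      exact (Set.eq_univ_iff_forall.1 huniv z) ⟨v, Subgroup.mem_zpowers v⟩
    rw [hv1, orderOf_one] at hv
    exact hpp.one_lt.ne hv
  -- the point stabiliser in `L` normalises `V`
  have hLi : Nat.card (stabilizer L i) = p * h := by
    have h1 := index_stabilizer_of_transitive L i
    have h2 := Subgroup.card_mul_index (stabilizer L i)
    rw [h1, hΩ', hL, mul_comm (p + 1) (p * h)] at h2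
    exact Nat.eq_of_mul_eq_mul_right (Nat.succ_pos p) h2
  have hnorm : ∀ x ∈ L, orderOf x = p → x • i = i → x ∈ V := by
    intro x hxL hx hxi
    by_contra hxV
    have hdisj : Disjoint V (Subgroup.zpowers x) := by
      rw [Subgroup.disjoint_def]
      intro y hy hy'
      by_contra hy1
      apply hxV
      rw [show V = Subgroup.zpowers y from (zpowers_eq_of_mem hpp hv hy hy1).symm,
        zpowers_eq_of_mem hpp hx hy' hy1]
      exact Subgroup.mem_zpowers x
    have hmem : ∀ q : V × Subgroup.zpowers x, (q.1 : X) * q.2 ∈ L ∧ ((q.1 : X) * q.2) • i = i := by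
      intro q
      refine ⟨L.mul_mem ((Subgroup.zpowers_le).2 hvL q.1.2) ((Subgroup.zpowers_le).2 hxL q.2.2), ?_⟩
      rw [mul_smul,
        show (q.2 : X) • i = i from ((Subgroup.zpowers_le).2 (show x ∈ stabilizer X i from hxi)) q.2.2]
      exact hi q.1
    have hle := Nat.card_le_card_of_injective
      (fun q => (⟨⟨_, (hmem q).1⟩, (hmem q).2⟩ : stabilizer L i))
      (fun q r hqr => Subgroup.mul_injective_of_disjoint hdisj
        (congrArg (fun y : stabilizer L i => ((y : L) : X)) hqr))
    rw [Nat.card_prod, hLi, Nat.card_zpowers, Nat.card_zpowers, hx, hv] at hle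
    have := Nat.le_of_mul_le_mul_left hle hpp.pos
    omega
  have hnorm' : ∀ g ∈ L, g • i = i → g * v * g⁻¹ ∈ V := fun g hg hgi =>
    hnorm _ (L.mul_mem (L.mul_mem hg hvL) (L.inv_mem hg))
      ((orderOf_injective (MulAut.conj g).toMonoidHom (MulAut.conj g).injective v).trans hv)
      (by simp [mul_smul, hgi, hvi, inv_smul_eq_iff.2 hgi.symm])
  have hwinv : w⁻¹ = w := inv_eq_of_mul_eq_one_right hw
  have hwi : w • i ≠ i := fun e => hwv (by
    have := hnorm' w hwL e
    rwa [hwinv] at this)
  obtain ⟨a, ha⟩ : ∃ a, a = w • i := ⟨_, rfl⟩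
  rw [← ha] at hwi
  have hwa : w • a = i := by rw [ha, ← mul_smul, hw, one_smul]
  have hti : t • i = i := by
    refine hvfix _ ?_
    have hne : t * v * t⁻¹ ≠ 1 := fun e => by
      have hv1 : v = 1 := by
        rwa [mul_inv_eq_one, mul_eq_left] at e
      rw [hv1, orderOf_one] at hv
      exact hpp.one_lt.ne hv
    have hle : Subgroup.zpowers (t * v * t⁻¹) ≤ stabilizer X (t • i) :=
      (Subgroup.zpowers_le).2 (show (t * v * t⁻¹) • t • i = t • i by
        rw [mul_smul, mul_smul, inv_smul_smul, hvi])
    rw [zpowers_eq_of_mem hpp hv htv hne] at hle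
    exact hle (Subgroup.mem_zpowers v)
  have hta : t • a = a := by
    have : t * w = w * t⁻¹ := by rw [← hwt, ← mul_assoc, ← mul_assoc, hw, one_mul]
    rw [ha, ← mul_smul, this, mul_smul, inv_smul_eq_iff.2 hti.symm]
  -- the powers of `v` are regular off the fixed point
  have hVfree : ∀ x ∈ V, ∀ z, z ≠ i → x • z = z → x = 1 := by
    intro x hx z hz hxz
    by_contra hx1
    exact hz (hvfix z (((zpowers_eq_of_mem hpp hv hx hx1).symm ▸
      (Subgroup.zpowers_le).2 (show x ∈ stabilizer X z from hxz)) (Subgroup.mem_zpowers v)))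
  have horb : ∀ z c : Ω, z ≠ i → c ≠ i → ∃ x ∈ V, x • z = c := by
    intro z c hz hc
    have hsub : (fun x : V => (x : X) • z) '' Set.univ ⊆ ({i} : Set Ω)ᶜ := by
      rintro _ ⟨x, -, rfl⟩ (e : (x : X) • z = i)
      exact hz (MulAction.injective (x : X) (e.trans (hi x).symm))
    have hinj : Function.Injective fun x : V => (x : X) • z := fun x y hxy => by
      refine Subtype.ext (inv_mul_eq_one.1 (hVfree _ (V.mul_mem (V.inv_mem y.2) x.2) z hz ?_)).symm
      rw [mul_smul, inv_smul_eq_iff]
      exact hxy
    have heq := Set.eq_of_subset_of_ncard_le hsub (by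
      rw [Set.ncard_image_of_injective _ hinj, Set.ncard_univ, Nat.card_zpowers, hv,
        Set.ncard_compl, Set.ncard_singleton, hΩ', Nat.add_sub_cancel]) (Set.toFinite _)
    obtain ⟨x, -, hx⟩ := heq.symm ▸ (show c ∈ ({i} : Set Ω)ᶜ from hc)
    exact ⟨x, x.2, hx⟩
  have hsemi : ∀ g : X, g • i = i → g * v * g⁻¹ ∈ V → ∀ c b : Ω, c ≠ i → b ≠ i → c ≠ b →
      g • c = c → g • b = b → g = 1 := by
    intro g gi gv c b hc hb hcb gc gb
    obtain ⟨x, hx, hxc⟩ := horb c b hc hb
    have hx1 : x ≠ 1 := fun e => hcb (by rw [← hxc, e, one_smul])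
    have hconj : ∀ y ∈ V, g * y * g⁻¹ ∈ V := fun y hy => by
      have hle : V.map (MulAut.conj g).toMonoidHom ≤ V := by
        rw [MonoidHom.map_zpowers]
        exact (Subgroup.zpowers_le).2 gv
      exact hle ⟨y, hy, rfl⟩
    have h1 : x⁻¹ * (g * x * g⁻¹) = 1 := by
      refine hVfree _ (V.mul_mem (V.inv_mem hx) (hconj x hx)) c hc ?_
      rw [mul_smul, mul_smul, mul_smul, inv_smul_eq_iff.2 gc.symm, hxc, gb, ← hxc, inv_smul_smul]
    have hgx : Commute g x := by
      rw [inv_mul_eq_one, eq_mul_inv_iff_mul_eq] at h1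
      exact h1.symm
    have hgv : Commute g v := by
      obtain ⟨n, hn⟩ := Subgroup.mem_zpowers_iff.1
        ((zpowers_eq_of_mem hpp hv hx hx1).symm ▸ Subgroup.mem_zpowers v : v ∈ Subgroup.zpowers x)
      exact hn ▸ hgx.zpow_right n
    refine eq_of_smul_eq_smul fun z : Ω => ?_
    rw [one_smul]
    by_cases hz : z = i
    · rw [hz, gi]
    obtain ⟨y, hy, rfl⟩ := horb c z hc hz
    obtain ⟨n, rfl⟩ := Subgroup.mem_zpowers_iff.1 hy
    rw [← mul_smul, (hgv.zpow_right n).eq, mul_smul, gc]
  -- the stabiliser on the other points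
  let G := stabilizer X i
  let R := SubMulAction.ofStabilizer X i
  have hR : Nat.card R = p := by
    rw [SubMulAction.nat_card_ofStabilizer_eq, hΩ', Nat.add_sub_cancel]
  have hRne : ∀ z : R, (z : Ω) ≠ i := fun z => (SubMulAction.mem_ofStabilizer_iff X i).1 z.2
  haveI : FaithfulSMul G R := ⟨fun {g k} hgk => Subtype.ext (eq_of_smul_eq_smul fun z : Ω => by
    by_cases hz : z = i
    · rw [hz, show (g : X) • i = i from g.2, show (k : X) • i = i from k.2]
    · exact congrArg Subtype.val (hgk ⟨z, (SubMulAction.mem_ofStabilizer_iff X i).2 hz⟩))⟩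
  haveI : IsPretransitive G R := ⟨fun x y => by
    obtain ⟨g, hg, hgx⟩ := horb x y (hRne x) (hRne y)
    exact ⟨⟨g, ((Subgroup.zpowers_le).2 (show v ∈ stabilizer X i from hvi)) hg⟩, Subtype.ext hgx⟩⟩
  let v' : G := ⟨v, hvi⟩
  have hv' : orderOf v' = p := by rw [← Subgroup.orderOf_coe]; exact hv
  obtain ⟨P, hP⟩ := (IsPGroup.of_card (n := 1) (by rw [Nat.card_zpowers, hv', pow_one]) :
    IsPGroup p (Subgroup.zpowers v')).exists_le_sylow
  have hPeq : Subgroup.zpowers v' = (P : Subgroup G) :=
    Subgroup.eq_of_le_of_card_ge hP (by rw [card_sylow_of_prime hR P, Nat.card_zpowers, hv'])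
  have hPV : ∀ g : G, g ∈ (P : Subgroup G) ↔ (g : X) ∈ V := by
    intro g
    rw [← hPeq, Subgroup.mem_zpowers_iff, Subgroup.mem_zpowers_iff]
    exact exists_congr fun n => ⟨fun e => by rw [← e]; rfl, fun e => Subtype.ext e⟩
  have hN : p * (p - 1) ≤ 2 * Nat.card ↥(Subgroup.normalizer ((P : Subgroup G) : Set G)) := by
    have hmem : ∀ g : stabilizer L i, (⟨((g : L) : X), g.2⟩ : G) ∈
        Subgroup.normalizer ((P : Subgroup G) : Set G) := by
      intro g
      rw [← hPeq, Subgroup.mem_normalizer_iff]
      have hle : (Subgroup.zpowers v').map (MulAut.conj (⟨((g : L) : X), g.2⟩ : G)).toMonoidHom =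
          Subgroup.zpowers v' := by
        rw [MonoidHom.map_zpowers]
        refine zpowers_eq_of_mem hpp hv' (hPeq ▸ (hPV _).2 ?_) fun e => ?_
        · exact hnorm' _ (g : L).2 g.2
        · have : v' = 1 := (MulAut.conj (⟨((g : L) : X), g.2⟩ : G)).injective (e.trans (map_one _).symm)
          rw [this, orderOf_one] at hv'
          exact hpp.one_lt.ne hv'
      intro y
      conv_rhs => rw [← hle]
      exact ⟨fun hy => ⟨y, hy, rfl⟩, fun ⟨z, hz, e⟩ => (MulAut.conj _).injective e ▸ hz⟩
    have h2 := Nat.card_le_card_of_injective (fun g => (⟨_, hmem g⟩ :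
      Subgroup.normalizer ((P : Subgroup G) : Set G)))
      fun g k e => Subtype.ext (Subtype.ext (congrArg (fun y : Subgroup.normalizer ((P : Subgroup G) : Set G) => ((y : G) : X)) e))
    rw [hLi] at h2
    calc p * (p - 1) = 2 * (p * h) := by rw [show p - 1 = 2 * h by omega]; ring
      _ ≤ _ := by omega
  have hsign : ∀ g : X, (∀ z, z ≠ i → z ≠ a → g • z = z) → g = 1 := by
    intro g hg
    by_contra hg1
    have hgi : g • i ≠ i := fun e => hg1 (eq_of_smul_eq_smul fun z : Ω => by
      rw [one_smul]
      by_cases hz : z = i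
      · rw [hz, e]
      by_cases hza : z = a
      · by_contra hne
        rw [hza] at hne
        have h1 : g • a ≠ i := fun e' => hwi (MulAction.injective g (e'.trans e.symm))
        exact hne (MulAction.injective g (hg _ h1 hne))
      exact hg z hz hza)
    have hga : g • i = a := by
      by_contra hne
      exact hgi (MulAction.injective g (hg _ hgi hne))
    have hag : g • a = i := by
      by_contra hne
      have h1 : g • a ≠ a := fun e => hwi (MulAction.injective g (hga.trans e.symm)).symm
      exact h1 (MulAction.injective g (hg _ hne h1))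
    have hswap : (MulAction.toPerm g : Equiv.Perm Ω) = Equiv.swap i a := by
      ext z
      rw [MulAction.toPerm_apply]
      rcases eq_or_ne z i with rfl | hz
      · rw [hga, Equiv.swap_apply_left]
      rcases eq_or_ne z a with rfl | hza
      · rw [hag, Equiv.swap_apply_right]
      · rw [hg z hz hza, Equiv.swap_apply_of_ne_of_ne hz hza]
    have := heven g
    rw [hswap, Equiv.Perm.sign_swap hwi.symm] at this
    exact absurd this (by decide)
  -- the stabiliser is insoluble
  have hns : ¬ Group.IsSolvable G := by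
    intro hsol
    have hPn := normal_of_isSolvable hR hsol P
    have hGV : ∀ g : G, (g : X) * v * (g : X)⁻¹ ∈ V :=
      fun g => (hPV _).1 (hPn.conj_mem v' (hPeq ▸ Subgroup.mem_zpowers v') g)
    let a' : R := ⟨a, (SubMulAction.mem_ofStabilizer_iff X i).2 hwi⟩
    let Ga : Subgroup G := stabilizer G a'
    have hGaa : ∀ g : Ga, ((g : G) : X) • a = a := fun g => congrArg Subtype.val g.2
    have hfree : ∀ g : Ga, ∀ b, b ≠ i → b ≠ a → ((g : G) : X) • b = b → g = 1 :=
      fun g b hb hba hgb => Subtype.ext (Subtype.ext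
        (hsemi _ (g : G).2 (hGV _) a b hwi hb hba.symm (hGaa g) hgb))
    obtain ⟨b, hb, hba⟩ : ∃ b : Ω, b ≠ i ∧ b ≠ a := by
      by_contra hcon
      push Not at hcon
      have h2 : (Finset.univ : Finset Ω) ⊆ {i, a} := fun z _ => by
        by_cases hz : z = i
        · simp [hz]
        · simp [hcon z hz]
      have := (Finset.card_le_card h2).trans Finset.card_le_two
      rw [Finset.card_univ, hΩ] at this
      omega
    have hSval : ∀ g : Ga, ((g : G) : X) • b ∈ ({i, a} : Set Ω)ᶜ := fun g => by
      simp only [Set.mem_compl_iff, Set.mem_insert_iff, Set.mem_singleton_iff, not_or]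
      exact ⟨fun e => hb (MulAction.injective _ (e.trans (g : G).2.symm)),
        fun e => hba (MulAction.injective _ (e.trans (hGaa g).symm))⟩
    have hinj : Function.Injective fun g : Ga => (⟨_, hSval g⟩ : (({i, a} : Set Ω)ᶜ : Set Ω)) := by
      intro g k e
      refine (inv_mul_eq_one.1 (hfree (k⁻¹ * g) b hb hba ?_)).symm
      have e' : ((g : G) : X) • b = ((k : G) : X) • b := congrArg Subtype.val e
      simp [mul_smul, e']
    have hcardS : Nat.card (({i, a} : Set Ω)ᶜ : Set Ω) = 2 * h := by
      rw [Nat.card_coe_set_eq, Set.ncard_compl, Set.ncard_pair hwi.symm, hΩ']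
      omega
    have hGa_le : Nat.card Ga ≤ 2 * h := hcardS ▸ Nat.card_le_card_of_injective _ hinj
    let tG : G := ⟨t, hti⟩
    have hdvd : h ∣ Nat.card Ga := by
      have h1 := orderOf_dvd_natCard (⟨tG, Subtype.ext hta⟩ : Ga)
      rwa [← Subgroup.orderOf_coe, ← Subgroup.orderOf_coe, show ((tG : G) : X) = t from rfl, ht] at h1
    have hGcard : Nat.card G = p * Nat.card Ga := by
      rw [← hR, ← index_stabilizer_of_transitive G a', mul_comm]
      exact (Subgroup.card_mul_index _).symm
    obtain ⟨k, hk⟩ := hdvd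
    have hpos : 0 < Nat.card Ga := Nat.card_pos
    have hk2 : k = 1 ∨ k = 2 := by
      rcases k with _ | _ | _ | k
      · omega
      · exact Or.inl rfl
      · exact Or.inr rfl
      · have : h * 3 ≤ h * (k + 1 + 1 + 1) := Nat.mul_le_mul_left _ (by omega)
        omega
    rcases hk2 with rfl | rfl
    · refine hLX (eq_top_iff.2 fun x _ => ?_)
      obtain ⟨l, hl⟩ := exists_smul_eq L i (x • i)
      have hgi : ((l : X)⁻¹ * x) • i = i := by rw [mul_smul, inv_smul_eq_iff]; exact hl.symm
      let φ : stabilizer L i → G := fun g => ⟨((g : L) : X), g.2⟩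
      have hφ : Function.Injective φ := fun g k e =>
        Subtype.ext (Subtype.ext (congrArg (fun y : G => (y : X)) e))
      obtain ⟨g, hg⟩ := (Nat.bijective_iff_injective_and_card φ |>.2
        ⟨hφ, by rw [hLi, hGcard, hk, mul_one]⟩).2 ⟨_, hgi⟩
      have hval : ((g : L) : X) = (l : X)⁻¹ * x := congrArg (fun y : G => (y : X)) hg
      have hmem : (l : X)⁻¹ * x ∈ L := hval ▸ (g : L).2
      simpa using L.mul_mem l.2 hmem
    · -- a regular cyclic group of even order gives an odd permutation
      haveI : IsCyclic Ga := by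
        haveI : (Subgroup.zpowers v').Normal := hPeq.symm ▸ hPn
        haveI : IsCyclic (Subgroup.zpowers v') := inferInstance
        haveI : Fact (Nat.card (Subgroup.zpowers v')).Prime :=
          ⟨by rw [Nat.card_zpowers, hv']; exact hpp⟩
        haveI : IsCyclic (MulAut (Subgroup.zpowers v')) :=
          isCyclic_of_surjective (IsCyclic.mulAutMulEquiv (Subgroup.zpowers v')).symm.toMonoidHom
            (IsCyclic.mulAutMulEquiv (Subgroup.zpowers v')).symm.surjective
        let ψ : Ga →* MulAut (Subgroup.zpowers v') := MulAut.conjNormal.comp Ga.subtype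
        refine isCyclic_of_injective ψ ((injective_iff_map_eq_one ψ).2 fun g hg => ?_)
        have hgv : (g : G) * v' * (g : G)⁻¹ = v' := by
          have := congrArg Subtype.val (DFunLike.congr_fun hg ⟨v', Subgroup.mem_zpowers v'⟩)
          rw [MonoidHom.comp_apply, MulAut.conjNormal_apply] at this
          exact this
        obtain ⟨x, hx, hxb⟩ := horb a b hwi hb
        refine hfree g b hb hba ?_
        obtain ⟨n, rfl⟩ := Subgroup.mem_zpowers_iff.1 hx
        have hcomm : Commute ((g : G) : X) v := by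
          have := congrArg (fun y : G => (y : X)) hgv
          simp only [Subgroup.coe_mul, Subgroup.coe_inv] at this
          exact mul_inv_eq_iff_eq_mul.1 this
        rw [← hxb, ← mul_smul, (hcomm.zpow_right n).eq, mul_smul, hGaa g]
      obtain ⟨g, hg⟩ := IsCyclic.exists_generator (α := Ga)
      set σ : Equiv.Perm Ω := MulAction.toPerm ((g : G) : X) with hσ
      have hσi : σ i = i := (g : G).2
      have hσa : σ a = a := hGaa g
      have hg1 : g ≠ 1 := fun e => by
        have : Nat.card Ga ≤ 1 := by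
          rw [← orderOf_eq_card_of_forall_mem_zpowers hg, e, orderOf_one]
        omega
      have hmove : ∀ z, z ≠ i → z ≠ a → σ z ≠ z := fun z hz hza e => hg1 (hfree g z hz hza e)
      have hcyc : σ.IsCycle := by
        refine ⟨b, hmove b hb hba, fun z hz => ?_⟩
        have hzS : z ∈ ({i, a} : Set Ω)ᶜ := by
          simp only [Set.mem_compl_iff, Set.mem_insert_iff, Set.mem_singleton_iff, not_or]
          exact ⟨fun e => hz (e ▸ hσi), fun e => hz (e ▸ hσa)⟩
        obtain ⟨q, hq⟩ := ((Nat.bijective_iff_injective_and_card _).2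
          ⟨hinj, by rw [hcardS, hk]; ring⟩).2 ⟨z, hzS⟩
        obtain ⟨n, rfl⟩ := Subgroup.mem_zpowers_iff.1 (hg q)
        refine ⟨n, ?_⟩
        have hq' : (((g ^ n : Ga) : G) : X) • b = z := congrArg Subtype.val hq
        rw [← hq', hσ, SubgroupClass.coe_zpow, SubgroupClass.coe_zpow]
        exact (DFunLike.congr_fun (map_zpow (toPermHom X Ω) _ n) b).symm
      have hsupp : σ.support.card = 2 * h := by
        rw [show σ.support = ({i, a} : Finset Ω)ᶜ by
          ext z
          simp only [Equiv.Perm.mem_support, Finset.mem_compl, Finset.mem_insert,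
            Finset.mem_singleton, not_or]
          exact ⟨fun hz => ⟨fun e => hz (e ▸ hσi), fun e => hz (e ▸ hσa)⟩,
            fun hz => hmove z hz.1 hz.2⟩, Finset.card_compl, Finset.card_pair hwi.symm, hΩ]
        omega
      have := heven ((g : G) : X)
      rw [← hσ, hcyc.sign, hsupp, pow_mul] at this
      simp at this
  -- transitivity
  obtain ⟨C⟩ := exists_coord (G := G) hR P hN
  obtain ⟨hp3, h2⟩ := setup (G := G) hR hns
  haveI := h2
  have hthree : IsMultiplyPretransitive G R 3 := by
    by_cases hp4 : p % 4 = 3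
    · have hpair : ∀ B : Set Ω, i ∉ B → a ∉ B →
          (∀ g : X, g • i = i → g • a = a → ∀ x ∈ B, g • x ∈ B → ∀ y ∈ B, g • y ∈ B) →
          B.Subsingleton ∨ ∀ z, z ≠ i → z ≠ a → z ∈ B := by
        intro B hiB haB hB
        rcases trivial_block hns C hp7 (⟨a, (SubMulAction.mem_ofStabilizer_iff X i).2 hwi⟩ : R)
          (Subtype.val ⁻¹' B) haB
          (fun g hga x hx hgx y hy => hB g g.2 (congrArg Subtype.val hga) x hx hgx y hy) with hs | hs
        · refine Or.inl fun x hx y hy => ?_
          exact congrArg Subtype.val (hs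
            (show (⟨x, (SubMulAction.mem_ofStabilizer_iff X i).2 fun e => hiB (e ▸ hx)⟩ : R) ∈ _ from hx)
            (show (⟨y, (SubMulAction.mem_ofStabilizer_iff X i).2 fun e => hiB (e ▸ hy)⟩ : R) ∈ _ from hy))
        · exact Or.inr fun z hz hza => hs ⟨z, (SubMulAction.mem_ofStabilizer_iff X i).2 hz⟩
            fun e => hza (congrArg Subtype.val e)
      have hhodd : h % 2 = 1 := by omega
      have htfree : ∀ n : ℕ, ∀ b, b ≠ i → b ≠ a → t ^ n • b = b → t ^ n = 1 := by
        intro n b hbi hba hb
        have hni : t ^ n • i = i := (stabilizer X i).pow_mem hti n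
        exact hsemi _ hni (hnorm' _ (L.pow_mem htL n) hni) a b hwi hbi hba.symm
          ((stabilizer X a).pow_mem hta n) hb
      have hwfree : ∀ n : ℕ, ∀ b, b ≠ i → b ≠ a → (w * t ^ n) • b ≠ b := by
        intro n b hbi _ hb
        have hsq : (w * t ^ n) ^ 2 = 1 := by
          rw [pow_two, ← mul_assoc, show w * t ^ n * w = w * t ^ n * w⁻¹ by rw [hwinv], ← conj_pow,
            hwinv, hwt, inv_pow, inv_mul_cancel]
        have hwn : w * t ^ n ∈ L := L.mul_mem hwL (L.pow_mem htL n)
        have hLb : Nat.card (stabilizer L b) = p * h := by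
          have h1 := index_stabilizer_of_transitive L b
          have h2 := Subgroup.card_mul_index (stabilizer L b)
          rw [h1, hΩ', hL, mul_comm (p + 1) (p * h)] at h2
          exact Nat.eq_of_mul_eq_mul_right (Nat.succ_pos p) h2
        have hord : orderOf (w * t ^ n) ∣ p * h := by
          have := orderOf_dvd_natCard (⟨⟨_, hwn⟩, hb⟩ : stabilizer L b)
          rwa [← Subgroup.orderOf_coe, ← Subgroup.orderOf_coe, hLb] at this
        have hodd : (p * h) % 2 = 1 := by
          rw [Nat.mul_mod, hhodd, mul_one, Nat.mod_mod, hh]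
          omega
        have hone : orderOf (w * t ^ n) = 1 := by
          rcases (Nat.prime_two.eq_one_or_self_of_dvd _ (orderOf_dvd_of_pow_eq_one hsq)) with e | e
          · exact e
          · rw [e] at hord
            omega
        rw [orderOf_eq_one_iff] at hone
        have : w • i = i := by
          have := congrArg (· • i) hone
          simp only [mul_smul, (stabilizer X i).pow_mem hti n |> fun m => (m : t ^ n • i = i),
            one_smul] at this
          exact this
        exact hwi (ha.trans this)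
      obtain ⟨b, -, hb, hba⟩ : ∃ b : Ω, True ∧ b ≠ i ∧ b ≠ a := by
        by_contra hcon
        push Not at hcon
        have h2 : (Finset.univ : Finset Ω) ⊆ {i, a} := fun z _ => by
          by_cases hz : z = i
          · simp [hz]
          · simp [hcon z trivial hz]
        have := (Finset.card_le_card h2).trans Finset.card_le_two
        rw [Finset.card_univ, hΩ] at this
        omega
      let a' : R := ⟨a, (SubMulAction.mem_ofStabilizer_iff X i).2 hwi⟩
      let b' : R := ⟨b, (SubMulAction.mem_ofStabilizer_iff X i).2 hb⟩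
      refine three_of_related fun c d x y hcd hxc hxd hyc hyd =>
        related_of_pair (a := a') (b := b') (fun e => hba (congrArg Subtype.val e).symm)
          (fun x y hxa hxb hya hyb => ?_) c d x y hcd hxc hxd hyc hyd
      obtain ⟨g, gi, ga, gb, gx⟩ := transitive_of_regular_dihedral hwi.symm hsign hpair h
        (by omega) t w ht hw hwt hti hta ha.symm htfree hwfree b x y hb hba (hRne x)
        (fun e => hxa (Subtype.ext e)) (fun e => hxb (Subtype.ext e)) (hRne y)
        (fun e => hya (Subtype.ext e)) (fun e => hyb (Subtype.ext e))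
      exact ⟨⟨g, gi⟩, Subtype.ext ga, Subtype.ext gb, Subtype.ext gx⟩
    · have hneg : (-1 : (ZMod p)ˣ) ∈ C.K := by
        obtain ⟨r, hr⟩ := ZMod.exists_sq_eq_neg_one_iff.2 hp4
        have hr0 : r ≠ 0 := by
          rintro rfl
          simp at hr
        have e : (-1 : (ZMod p)ˣ) = Units.mk0 r hr0 * Units.mk0 r hr0 := Units.ext (by simp [hr])
        by_cases hK : Units.mk0 r hr0 ∈ C.K
        · rw [e]; exact C.K.mul_mem hK hK
        · rw [e]
          simpa using C.two (Units.mk0 r hr0)⁻¹ (Units.mk0 r hr0)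
            (fun h => hK (C.K.inv_mem_iff.1 h)) hK
      exact three_of_related (transitive_of_neg_one_mem hns C hp3 hneg)
  haveI : IsPretransitive X Ω := ⟨fun x y => by
    obtain ⟨g, hg⟩ := exists_smul_eq L x y
    exact ⟨g, hg⟩⟩
  exact (SubMulAction.ofStabilizer.isMultiplyPretransitive (n := 3) (a := i)).2 hthree

end CfsgLib.HalfPrime
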