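import Cfsg.Agent.HalfPrime.Basic

/-!
# Insoluble groups of prime degree with a dihedral subgroup of order `2p` are triply transitive

If minus one is a multiplier, a function on the points that is invariant under the stabiliser of a
pair has vanishing first moments, so that stabiliser is transitive on the other points, of which
there is an odd number.
-/

set_option autoImplicit false
set_option linter.style.haveILetI false

namespace CfsgLib.HalfPrime

open MulAction

variable {G Ω : Type*} [Group G] [MulAction G Ω]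

/-- A subgroup in which any two elements outside have their product is transitive on an odd set
on which the group is transitive. -/
theorem transitive_of_index_two {H K : Subgroup G} (hKH : K ≤ H)
    (hprod : ∀ g ∈ H, g ∉ K → ∀ k ∈ H, k ∉ K → g * k ∈ K) (S : Set Ω) (hfin : S.Finite)
    (hodd : S.ncard % 2 = 1) (hS : ∀ g ∈ H, ∀ z ∈ S, g • z ∈ S)
    (htr : ∀ x ∈ S, ∀ y ∈ S, ∃ g ∈ H, g • x = y) :
    ∀ x ∈ S, ∀ y ∈ S, ∃ g ∈ K, g • x = y := by
  classical
  intro x hx y hy
  by_contra hcon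
  obtain ⟨s, hs, hsx⟩ := htr x hx y hy
  have hsK : s ∉ K := fun h => hcon ⟨s, h, hsx⟩
  let O : Set Ω := (fun g => g • x) '' (K : Set G)
  have hOS : O ⊆ S := by
    rintro _ ⟨g, hg, rfl⟩
    exact hS g (hKH hg) x hx
  have hdisj : Disjoint O ((fun z => s • z) '' O) := by
    rw [Set.disjoint_left]
    rintro z ⟨k, hk, rfl⟩ ⟨_, ⟨l, hl, rfl⟩, e⟩
    -- `s * l` and `k` agree on `x`, so `s • x` lies in the orbit of the subgroup
    have h1 : s * l ∉ K := fun h => hsK (by simpa using K.mul_mem h (K.inv_mem hl))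
    have h2 : (s * l)⁻¹ * k ∈ H :=
      H.mul_mem (H.inv_mem (H.mul_mem hs (hKH hl))) (hKH hk)
    have h3 : (s * l)⁻¹ * k ∉ K := fun h => h1 (by
      have := K.mul_mem hk (K.inv_mem h)
      simpa using this)
    have h4 : ((s * l)⁻¹ * k) • x = x := by
      rw [mul_smul, inv_smul_eq_iff, mul_smul]
      exact e.symm
    refine hcon ⟨s * ((s * l)⁻¹ * k), hprod s hs hsK _ h2 h3, ?_⟩
    rw [mul_smul, h4, hsx]
  have hcover : S = O ∪ (fun z => s • z) '' O := by
    refine Set.Subset.antisymm (fun z hz => ?_) (Set.union_subset hOS ?_)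
    · obtain ⟨g, hg, rfl⟩ := htr x hx z hz
      by_cases hgK : g ∈ K
      · exact Or.inl ⟨g, hgK, rfl⟩
      · refine Or.inr ⟨(s⁻¹ * g) • x, ⟨s⁻¹ * g, hprod s⁻¹ (H.inv_mem hs)
          (fun h => hsK (K.inv_mem_iff.1 h)) g hg hgK, rfl⟩, ?_⟩
        show s • (s⁻¹ * g) • x = g • x
        rw [← mul_smul, mul_inv_cancel_left]
    · rintro _ ⟨z, hz, rfl⟩
      exact hS s hs z (hOS hz)
  rw [hcover, Set.ncard_union_eq hdisj (hfin.subset hOS) ((hfin.subset hOS).image _),
    Set.ncard_image_of_injective _ (MulAction.injective s)] at hodd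
  omega

variable [Finite G] [FaithfulSMul G Ω] {p : ℕ} [Fact p.Prime]

/-- With minus one as a multiplier two point stabilisers are transitive on the other points. -/
theorem transitive_of_neg (hns : ¬ Group.IsSolvable G) (e : ZMod p ≃ Ω) (hp : 3 < p)
    (hshift : ∃ g : G, ∀ x, g • e x = e (x - 1))
    (hneg : ∀ t : ZMod p, ∃ g : G, ∀ x, g • e x = e (-x + t))
    (a b x y : Ω) (hab : a ≠ b) (hxa : x ≠ a) (hxb : x ≠ b)
    (hya : y ≠ a) (hyb : y ≠ b) : ∃ g : G, g • a = a ∧ g • b = b ∧ g • x = y := by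
  classical
  haveI : Finite Ω := Finite.of_equiv _ e
  haveI := Fintype.ofFinite Ω
  let H : Subgroup G :=
    { carrier := {g | g • a = a ∧ g • b = b ∨ g • a = b ∧ g • b = a}
      one_mem' := Or.inl ⟨one_smul _ _, one_smul _ _⟩
      mul_mem' := by
        rintro g k (⟨g1, g2⟩ | ⟨g1, g2⟩) (⟨k1, k2⟩ | ⟨k1, k2⟩) <;>
          simp [Set.mem_ofPred_eq, mul_smul, g1, g2, k1, k2]
      inv_mem' := by
        rintro g (⟨g1, g2⟩ | ⟨g1, g2⟩)
        · exact Or.inl ⟨inv_smul_eq_iff.2 g1.symm, inv_smul_eq_iff.2 g2.symm⟩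
        · exact Or.inr ⟨inv_smul_eq_iff.2 g2.symm, inv_smul_eq_iff.2 g1.symm⟩ }
  let S : Set Ω := ({a, b} : Set Ω)ᶜ
  have hmemS : ∀ z, z ∈ S ↔ z ≠ a ∧ z ≠ b := fun z => by simp [S]
  have hS : ∀ g ∈ H, ∀ z ∈ S, g • z ∈ S := by
    rintro g hg z hz
    rw [hmemS] at hz ⊢
    rcases hg with ⟨g1, g2⟩ | ⟨g1, g2⟩
    · exact ⟨fun e => hz.1 (MulAction.injective g (e.trans g1.symm)),
        fun e => hz.2 (MulAction.injective g (e.trans g2.symm))⟩
    · exact ⟨fun e => hz.2 (MulAction.injective g (e.trans g2.symm)),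
        fun e => hz.1 (MulAction.injective g (e.trans g1.symm))⟩
  -- the stabiliser of the pair is transitive
  have htr : ∀ u ∈ S, ∀ v ∈ S, ∃ g ∈ H, g • u = v := by
    intro u hu v hv
    by_contra hcon
    let O : Set Ω := orbit H u
    have hOinv : ∀ g ∈ H, ∀ z, g • z ∈ O ↔ z ∈ O := by
      intro g hg z
      show (⟨g, hg⟩ : H) • z ∈ orbit H u ↔ _
      rw [← orbit_eq_iff, orbit_smul, orbit_eq_iff]
    have hOS : O ⊆ S := by
      rintro _ ⟨g, rfl⟩
      exact hS g g.2 u hu
    have hvO : v ∉ O := fun ⟨g, hg⟩ => hcon ⟨g, g.2, hg⟩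
    let c : ZMod p := (Nat.card O : ZMod p) / 2
    let f : Ω → ZMod p := fun z => (if z ∈ O then 1 else 0) - (if z = a then c else 0) -
      if z = b then c else 0
    have h2 : (2 : ZMod p) ≠ 0 := by
      intro h
      have h' : ((2 : ℕ) : ZMod p) = 0 := by exact_mod_cast h
      rw [ZMod.natCast_eq_zero_iff] at h'
      have := Nat.le_of_dvd two_pos h'
      omega
    have hfsum : ∑ z, f z = 0 := by
      simp only [f]
      rw [Finset.sum_sub_distrib, Finset.sum_sub_distrib, Finset.sum_boole, Finset.sum_ite_eq',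
        Finset.sum_ite_eq', if_pos (Finset.mem_univ a), if_pos (Finset.mem_univ b)]
      have hcard : (Finset.univ.filter (· ∈ O)).card = Nat.card O := by
        rw [Nat.card_eq_fintype_card, Fintype.card_subtype]
      rw [hcard, show c = (Nat.card O : ZMod p) / 2 from rfl]
      field_simp
      ring
    have hfswap : ∀ g : G, g • a = b → g • b = a → ∀ z, f (g • z) = f z := by
      intro g ga gb z
      have h1 : g • z = a ↔ z = b :=
        ⟨fun e => MulAction.injective g (e.trans gb.symm), fun e => e ▸ gb⟩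
      have h2 : g • z = b ↔ z = a :=
        ⟨fun e => MulAction.injective g (e.trans ga.symm), fun e => e ▸ ga⟩
      simp only [f, hOinv g (Or.inr ⟨ga, gb⟩) z, h1, h2]
      ring
    have hmom : ∀ σ : G, ∑ j, f (σ • e j) * j = 0 := by
      intro σ
      let x₀ := e.symm (σ⁻¹ • a)
      let y₀ := e.symm (σ⁻¹ • b)
      have hx₀ : σ • e x₀ = a := by simp [x₀]
      have hy₀ : σ • e y₀ = b := by simp [y₀]
      obtain ⟨n, hn⟩ := hneg (x₀ + y₀)
      have hh : ∀ j, f (σ • e (-j + (x₀ + y₀))) = f (σ • e j) := by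
        intro j
        have h := hfswap (σ * n * σ⁻¹) ?_ ?_ (σ • e j)
        · rw [mul_smul, mul_smul, inv_smul_smul, hn] at h
          exact h
        · rw [mul_smul, mul_smul, show σ⁻¹ • a = e x₀ by simp [x₀], hn]
          simp [← hy₀]
        · rw [mul_smul, mul_smul, show σ⁻¹ • b = e y₀ by simp [y₀], hn]
          simp [← hx₀]
      have hsum : ∑ j, f (σ • e j) = 0 := by
        rw [← hfsum]
        exact Fintype.sum_equiv (e.trans (MulAction.toPerm σ)) _ _ fun j => rfl
      have h1 : ∑ j, f (σ • e j) * j = ∑ j, f (σ • e j) * (-j + (x₀ + y₀)) := by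
        rw [← Fintype.sum_equiv ((Equiv.neg (ZMod p)).trans (Equiv.addRight (x₀ + y₀)))
          (fun j => f (σ • e (-j + (x₀ + y₀))) * (-j + (x₀ + y₀)))
          (fun j => f (σ • e j) * j) fun j => rfl]
        exact Finset.sum_congr rfl fun j _ => by rw [hh]
      simp only [mul_add, mul_neg, Finset.sum_add_distrib, Finset.sum_neg_distrib,
        ← Finset.sum_mul, hsum, zero_mul, add_zero] at h1
      exact (mul_eq_zero.1 (show (2 : ZMod p) * ∑ j, f (σ • e j) * j = 0 by
        linear_combination h1)).resolve_left h2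
    have := eq_of_moments hns e hshift hp f hfsum hmom u v
    obtain ⟨hua, hub⟩ := (hmemS u).1 hu
    obtain ⟨hva, hvb⟩ := (hmemS v).1 hv
    simp [f, show u ∈ O from mem_orbit_self u, hvO, hua, hub, hva, hvb] at this
  -- and so is the pointwise stabiliser
  have hprod : ∀ g ∈ H, g ∉ stabilizer G a ⊓ stabilizer G b → ∀ k ∈ H,
      k ∉ stabilizer G a ⊓ stabilizer G b → g * k ∈ stabilizer G a ⊓ stabilizer G b := by
    intro g hg hgK k hk hkK
    obtain ⟨g1, g2⟩ := hg.resolve_left fun h => hgK ⟨h.1, h.2⟩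
    obtain ⟨k1, k2⟩ := hk.resolve_left fun h => hkK ⟨h.1, h.2⟩
    exact ⟨show (g * k) • a = a by rw [mul_smul, k1, g2], show (g * k) • b = b by rw [mul_smul, k2, g1]⟩
  have hodd : S.ncard % 2 = 1 := by
    rw [Set.ncard_compl, Set.ncard_pair hab, ← Nat.card_congr e, Nat.card_zmod]
    have := (Fact.out : p.Prime).eq_two_or_odd
    omega
  obtain ⟨g, hg, hgx⟩ := transitive_of_index_two (fun g hg => Or.inl hg) hprod S (Set.toFinite S)
    hodd hS htr x ((hmemS x).2 ⟨hxa, hxb⟩) y ((hmemS y).2 ⟨hya, hyb⟩)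
  exact ⟨g, hg.1, hg.2, hgx⟩

/-- An insoluble transitive group of prime degree in which an element of that order is inverted
is triply transitive. -/
theorem three_of_inverted [IsPretransitive G Ω] (hΩ : Nat.card Ω = p)
    (hns : ¬ Group.IsSolvable G) (u n : G) (hu : u ≠ 1) (hup : u ^ p = 1)
    (hn : n * u * n⁻¹ = u⁻¹) : IsMultiplyPretransitive G Ω 3 := by
  classical
  obtain ⟨hp, h2⟩ := setup (G := G) hΩ hns
  haveI := h2
  haveI : Finite Ω := Nat.finite_of_card_ne_zero (by rw [hΩ]; omega)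
  haveI := Fintype.ofFinite Ω
  obtain ⟨e, he⟩ := CfsgLib.Perm.PrimeDegree.exists_coord (p := p)
    (by rw [← Nat.card_eq_fintype_card]; exact hΩ) (g := toPermHom G Ω u)
    (fun h => hu (toPerm_injective (h.trans (map_one (toPermHom G Ω)).symm)))
    (by rw [← map_pow, hup, map_one])
  have he' : ∀ j, u • e j = e (j + 1) := he
  have hpow : ∀ (k : ℕ) j, u ^ k • e j = e (j + k) := by
    intro k
    induction k with
    | zero => intro j; simp
    | succ k ih => intro j; rw [pow_succ, mul_smul, he', ih]; push_cast; ring_nf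
  have hinv : ∀ j, u⁻¹ • e j = e (j - 1) := fun j => by
    rw [inv_smul_eq_iff, he', sub_add_cancel]
  let t₀ := e.symm (n • e 0)
  have hstep : ∀ m : ℕ, n • e (m : ZMod p) = e (t₀ - m) := by
    intro m
    induction m with
    | zero => simp [t₀]
    | succ m ih =>
      have h1 : n * u = u⁻¹ * n := by rw [← hn]; group
      rw [Nat.cast_succ, ← he', ← mul_smul, h1, mul_smul, ih, hinv, sub_add_eq_sub_sub]
  refine three_of_related (transitive_of_neg hns e hp ⟨u⁻¹, hinv⟩ fun t => ⟨u ^ (t - t₀).val * n,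
    fun x => ?_⟩)
  have h := hstep x.val
  rw [ZMod.natCast_zmod_val] at h
  rw [mul_smul, h, hpow, ZMod.natCast_zmod_val]
  congr 1
  ring

/-- With minus one as a multiplier two point stabilisers are transitive on the other points. -/
theorem transitive_of_neg_one_mem (hns : ¬ Group.IsSolvable G) (C : Coord G Ω p) (hp : 3 < p)
    (hneg : (-1 : (ZMod p)ˣ) ∈ C.K) (a b x y : Ω) (hab : a ≠ b) (hxa : x ≠ a) (hxb : x ≠ b)
    (hya : y ≠ a) (hyb : y ≠ b) : ∃ g : G, g • a = a ∧ g • b = b ∧ g • x = y :=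
  transitive_of_neg hns C.e hp C.shift_back (fun t => by
    obtain ⟨g, hg⟩ := C.affine _ hneg t
    exact ⟨g, fun x => by rw [hg, Units.val_neg, Units.val_one, neg_one_mul]⟩)
    a b x y hab hxa hxb hya hyb

end CfsgLib.HalfPrime
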