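import Cfsg.Agent.HalfPrime.Coprime
import Cfsg.Agent.HalfPrime.Even
import Cfsg.Agent.HalfPrime.Parity
import Cfsg.Agent.HalfPrime.Triple
import Cfsg.Agent.HalfPrime.PairSet

/-!
# Five-fold transitivity in degree `p = q + 2`

The stabiliser of two points is insoluble of prime degree `q`, and the stabiliser of the pair
contains an element inverting an element of order `q`.
-/

set_option autoImplicit false
set_option linter.style.haveILetI false

namespace CfsgLib.HalfPrime

open MulAction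

/-- In degree `q + 2` with these congruences the two point stabiliser is insoluble. -/
theorem twin_arith {p q d : ℕ} (hp : p.Prime) (hq : q.Prime) (hpq : p = q + 2) (hq5 : 5 < q) (hd : d ∣ q - 1)
    (hdvd : p ∣ 4 * d + 1) : False := by
  obtain ⟨j, hj⟩ := hdvd
  obtain ⟨k, hk⟩ := hd
  have hd0 : 0 < d := by
    rcases Nat.eq_zero_or_pos d with h | h
    · rw [h, zero_mul] at hk; omega
    · exact h
  have hk1 : 1 ≤ k := by
    rcases Nat.eq_zero_or_pos k with h | h
    · rw [h, mul_zero] at hk; omega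
    · exact h
  have hdle : d ≤ q - 1 := hk ▸ Nat.le_mul_of_pos_right d hk1
  have hj3 : j ≤ 3 := by
    by_contra h
    have : p * 4 ≤ p * j := Nat.mul_le_mul_left p (by omega)
    omega
  interval_cases j
  · omega
  · rcases Nat.lt_or_ge k 4 with h | h
    · interval_cases k
      · omega
      · omega
      · have : q = 7 := by omega
        subst this
        norm_num [hpq] at hp
    · have : d * 4 ≤ d * k := Nat.mul_le_mul_left d h
      omega
  · omega
  · rcases Nat.lt_or_ge k 2 with h | h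
    · interval_cases k
      have : q = 9 := by omega
      subst this
      norm_num at hq
    · have : d * 2 ≤ d * k := Nat.mul_le_mul_left d h
      omega

variable {G Ω : Type*} [Group G] [Finite G] [MulAction G Ω] {p : ℕ}

/-- A group of degree `q` with this order is insoluble. -/
theorem twin_insoluble [Fact p.Prime] (P : Sylow p G)
    (hN : 2 * Nat.card ↥(Subgroup.normalizer ((P : Subgroup G) : Set G)) = p * (p - 1))
    {q : ℕ} [Fact q.Prime] (hq5 : 5 < q) (hpq : p = q + 2) {K R : Type*} [Group K] [Finite K]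
    [MulAction K R] [FaithfulSMul K R] [IsPretransitive K R] (hR : Nat.card R = q)
    (hG : Nat.card G = p * ((q + 1) * Nat.card K)) : ¬ Group.IsSolvable K := by
  classical
  have hpp : p.Prime := Fact.out
  have hq : q.Prime := Fact.out
  haveI : Finite R := Nat.finite_of_card_ne_zero (by omega)
  obtain ⟨Q⟩ := (inferInstance : Nonempty (Sylow q K))
  have hQcard : Nat.card (Q : Subgroup K) = q := card_sylow_of_prime hR Q
  intro hsol
  have hQn := normal_of_isSolvable hR hsol Q
  haveI := hQn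
  haveI : Nonempty R := Finite.card_pos_iff.1 (by rw [hR]; omega)
  obtain ⟨c⟩ := ‹Nonempty R›
  haveI : IsPreprimitive K R := IsPreprimitive.of_prime_card (hR.symm ▸ hq)
  haveI : IsPretransitive (Q : Subgroup K) R := by
    refine IsQuasiPreprimitive.isPretransitive_of_normal fun h => ?_
    have h1 : (Q : Subgroup K) = ⊥ := (Subgroup.eq_bot_iff_forall _).2 fun g hg =>
      eq_of_smul_eq_smul fun z : R => by
        rw [one_smul]
        exact (Set.eq_univ_iff_forall.1 h z) ⟨g, hg⟩
    rw [h1, Subgroup.card_bot] at hQcard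
    omega
  let ψ : stabilizer K c →* MulAut (Q : Subgroup K) := MulAut.conjNormal.comp (stabilizer K c).subtype
  have hψ : Function.Injective ψ := (injective_iff_map_eq_one ψ).2 fun g hg => by
    refine Subtype.ext (eq_of_smul_eq_smul fun z : R => ?_)
    obtain ⟨y, rfl⟩ := exists_smul_eq (Q : Subgroup K) c z
    have h1 := congrArg Subtype.val (DFunLike.congr_fun hg y)
    rw [MonoidHom.comp_apply, MulAut.conjNormal_apply, Subgroup.coe_subtype, MulAut.one_apply] at h1
    show (g : K) • (y : K) • c = ((1 : stabilizer K c) : K) • (y : K) • c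
    rw [OneMemClass.coe_one, one_smul, ← mul_smul, mul_inv_eq_iff_eq_mul.1 h1, mul_smul,
      show (g : K) • c = c from g.2]
  haveI : IsCyclic (Q : Subgroup K) := isCyclic_of_prime_card hQcard
  have hd := Subgroup.card_dvd_of_injective ψ hψ
  rw [Nat.card_congr (IsCyclic.mulAutMulEquiv (Q : Subgroup K)).toEquiv, hQcard,
    Nat.card_eq_fintype_card (α := (ZMod q)ˣ), ZMod.card_units] at hd
  have hcardG : Nat.card G = p * ((q + 1) * (q * Nat.card (stabilizer K c))) := by
    rw [hG, ← Subgroup.card_mul_index (stabilizer K c), index_stabilizer_of_transitive, hR]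
    ring
  have hn : Nat.card (Sylow p G) = 2 * (q * Nat.card (stabilizer K c)) := by
    have h1 := Subgroup.card_mul_index (Subgroup.normalizer ((P : Subgroup G) : Set G))
    rw [show (Subgroup.normalizer ((P : Subgroup G) : Set G)).index = Nat.card (Sylow p G) from
      (Sylow.card_eq_index_normalizer P).symm, hcardG] at h1
    have hq1 : p * (q + 1) = 2 * Nat.card ↥(Subgroup.normalizer ((P : Subgroup G) : Set G)) := by
      rw [hN]
      congr 1
      omega
    have h2 : p * (q + 1) * Nat.card (Sylow p G) =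
        p * (q + 1) * (2 * (q * Nat.card (stabilizer K c))) :=
      calc p * (q + 1) * Nat.card (Sylow p G)
          = 2 * (Nat.card ↥(Subgroup.normalizer ((P : Subgroup G) : Set G)) * Nat.card (Sylow p G)) := by
            rw [hq1]; ring
        _ = _ := by rw [h1]; ring
    exact Nat.eq_of_mul_eq_mul_left (Nat.mul_pos hpp.pos (Nat.succ_pos q)) h2
  have hmod := (ZMod.natCast_eq_natCast_iff _ _ _).2 (card_sylow_modEq_one p G)
  rw [hn] at hmod
  refine twin_arith hpp hq hpq hq5 hd ((ZMod.natCast_eq_zero_iff _ p).1 ?_)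
  have hq2 : (q : ZMod p) + 2 = 0 := by
    have := ZMod.natCast_self p
    rw [show (p : ZMod p) = ((q + 2 : ℕ) : ZMod p) by rw [← hpq]] at this
    exact_mod_cast this
  push_cast at hmod ⊢
  linear_combination (-1 : ZMod p) * hmod + 2 * (Nat.card (stabilizer K c) : ZMod p) * hq2

set_option maxHeartbeats 1000000 in
-- nested point stabilisers make unification slow
/-- Five-fold transitivity. -/
theorem twin_five [Finite Ω] [FaithfulSMul G Ω] [Fact p.Prime] [IsPretransitive G Ω] (hΩ : Nat.card Ω = p)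
    (hns : ¬ Group.IsSolvable G) (P : Sylow p G)
    (hN : 2 * Nat.card ↥(Subgroup.normalizer ((P : Subgroup G) : Set G)) = p * (p - 1))
    {q : ℕ} (hq : q.Prime) (hq5 : 5 < q) (hpq : p = q + 2) :
    IsMultiplyPretransitive G Ω 5 := by
  classical
  haveI := Fintype.ofFinite Ω
  haveI : Fact q.Prime := ⟨hq⟩
  have hpp : p.Prime := Fact.out
  have hqodd : q % 2 = 1 := hq.eq_two_or_odd.resolve_left (by omega)
  have hsign : ∀ g : G, Equiv.Perm.sign (MulAction.toPerm g : Equiv.Perm Ω) = 1 :=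
    sign_eq_one hΩ (by omega) P hN
  obtain ⟨C⟩ := exists_coord hΩ P hN.ge
  obtain ⟨hp3, h2⟩ := setup (G := G) hΩ hns
  haveI := h2
  haveI : Nonempty Ω := Finite.card_pos_iff.1 (by rw [hΩ]; exact hpp.pos)
  obtain ⟨a⟩ := ‹Nonempty Ω›
  -- the stabiliser of a point is doubly transitive
  let G₁ := stabilizer G a
  let R₁ := SubMulAction.ofStabilizer G a
  have hR₁ : Nat.card R₁ = q + 1 := by
    rw [SubMulAction.nat_card_ofStabilizer_eq, hΩ]; omega
  have hne₁ : ∀ z : R₁, (z : Ω) ≠ a := fun z => (SubMulAction.mem_ofStabilizer_iff G a).1 z.2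
  haveI : IsPreprimitive G₁ R₁ := isPreprimitive_stabilizer hns C (by omega) a
  have h12 : IsMultiplyPretransitive G₁ R₁ 2 := by
    refine two_transitive_of_coprime hq hqodd hR₁ fun b x y z hxb hyb hzb => ?_
    obtain ⟨g, ga, gb, hg⟩ := related_three hns C hp3 (hne₁ b).symm (hne₁ x)
      (fun e => hxb (Subtype.ext e)) (hne₁ y) (fun e => hyb (Subtype.ext e)) (hne₁ z)
      (fun e => hzb (Subtype.ext e))
    refine ⟨⟨g, ga⟩, Subtype.ext gb, ?_⟩
    rcases hg with h | h | h
    · exact Or.inl (Subtype.ext h)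
    · exact Or.inr (Or.inl (Subtype.ext h))
    · exact Or.inr (Or.inr (Subtype.ext h))
  haveI : Nonempty R₁ := Finite.card_pos_iff.1 (by rw [hR₁]; omega)
  obtain ⟨b⟩ := ‹Nonempty R₁›
  -- the stabiliser of two points
  let G₂ := stabilizer G₁ b
  let R₂ := SubMulAction.ofStabilizer G₁ b
  have hR₂ : Nat.card R₂ = q := by
    rw [SubMulAction.nat_card_ofStabilizer_eq, hR₁]; omega
  have hne₂ : ∀ z : R₂, ((z : R₁) : Ω) ≠ (b : Ω) := fun z e =>
    (SubMulAction.mem_ofStabilizer_iff G₁ b).1 z.2 (Subtype.ext e)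
  have hfix₂ : ∀ g : G₂, ((g : G₁) : G) • a = a ∧ ((g : G₁) : G) • (b : Ω) = b :=
    fun g => ⟨(g : G₁).2, congrArg Subtype.val g.2⟩
  haveI : IsPretransitive G₂ R₂ :=
    is_one_pretransitive_iff.1 ((SubMulAction.ofStabilizer.isMultiplyPretransitive (n := 1)).1 h12)
  haveI : FaithfulSMul G₂ R₂ := ⟨fun {g k} hgk => by
    refine Subtype.ext (Subtype.ext (eq_of_smul_eq_smul fun z : Ω => ?_))
    by_cases hza : z = a
    · rw [hza, (hfix₂ g).1, (hfix₂ k).1]
    by_cases hzb : z = (b : Ω)
    · rw [hzb, (hfix₂ g).2, (hfix₂ k).2]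
    exact congrArg (fun w : R₂ => ((w : R₁) : Ω)) (hgk
      ⟨⟨z, (SubMulAction.mem_ofStabilizer_iff G a).2 hza⟩,
        (SubMulAction.mem_ofStabilizer_iff G₁ b).2 fun e => hzb (congrArg Subtype.val e)⟩)⟩
  obtain ⟨Q⟩ := (inferInstance : Nonempty (Sylow q G₂))
  have hQcard : Nat.card (Q : Subgroup G₂) = q := card_sylow_of_prime hR₂ Q
  have hns₂ : ¬ Group.IsSolvable G₂ :=
    twin_insoluble P hN hq5 hpq hR₂ (by
      rw [← Subgroup.card_mul_index G₁, index_stabilizer_of_transitive, hΩ,
        ← Subgroup.card_mul_index G₂, index_stabilizer_of_transitive, hR₁]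
      ring)
  haveI : IsMultiplyPretransitive G₂ R₂ 2 := (setup (G := G₂) hR₂ hns₂).2
  -- the stabiliser of the pair
  have hab : a ≠ (b : Ω) := (hne₁ b).symm
  let H := pairStab (X := G) a (b : Ω)
  let R := pairRest (X := G) a (b : Ω)
  let ι : G₂ →* H :=
    { toFun := fun g => ⟨((g : G₁) : G), Or.inl (hfix₂ g)⟩
      map_one' := rfl
      map_mul' := fun _ _ => rfl }
  have hι : Function.Injective ι := fun g k e =>
    Subtype.ext (Subtype.ext (congrArg (fun y : H => (y : G)) e))
  have hnsH : ¬ Group.IsSolvable H := fun h =>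
    hns₂ (by haveI := h; exact Group.isSolvable_of_isSolvable_injective hι)
  let toR₂ : ∀ z : R, R₂ := fun z => ⟨⟨z, (SubMulAction.mem_ofStabilizer_iff G a).2 z.2.1⟩,
    (SubMulAction.mem_ofStabilizer_iff G₁ b).2 fun e => z.2.2 (congrArg Subtype.val e)⟩
  have hR : Nat.card R = q := by
    rw [← hR₂]
    refine Nat.card_eq_of_bijective toR₂ ⟨fun z w e => Subtype.ext ?_, fun z => ⟨⟨_, hne₁ _, hne₂ z⟩, rfl⟩⟩
    exact congrArg (fun w : R₂ => ((w : R₁) : Ω)) e
  have hnoswap : ∀ g : G, g • a = (b : Ω) → g • (b : Ω) = a →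
      (∀ z, z ≠ a → z ≠ (b : Ω) → g • z = z) → False := by
    intro g ga gb hg
    have hswap : (MulAction.toPerm g : Equiv.Perm Ω) = Equiv.swap a (b : Ω) := by
      ext z
      rw [MulAction.toPerm_apply]
      rcases eq_or_ne z a with rfl | hza
      · rw [ga, Equiv.swap_apply_left]
      rcases eq_or_ne z (b : Ω) with rfl | hzb
      · rw [gb, Equiv.swap_apply_right]
      · rw [hg z hza hzb, Equiv.swap_apply_of_ne_of_ne hza hzb]
    have := hsign g
    rw [hswap, Equiv.Perm.sign_swap hab] at this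
    exact absurd this (by decide)
  haveI : FaithfulSMul H R := ⟨fun {g k} hgk => by
    have h1 : ∀ z, z ≠ a → z ≠ (b : Ω) → (((k⁻¹ * g : H)) : G) • z = z := fun z hza hzb => by
      rw [Subgroup.coe_mul, Subgroup.coe_inv, mul_smul, inv_smul_eq_iff]
      exact congrArg Subtype.val (hgk ⟨z, hza, hzb⟩)
    refine (inv_mul_eq_one.1 (Subtype.ext ?_)).symm
    rcases (k⁻¹ * g).2 with ⟨ga, gb⟩ | ⟨ga, gb⟩
    · refine eq_of_smul_eq_smul fun z : Ω => ?_
      rw [Subgroup.coe_one, one_smul]
      by_cases hza : z = a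
      · rw [hza, ga]
      by_cases hzb : z = (b : Ω)
      · rw [hzb, gb]
      exact h1 z hza hzb
    · exact (hnoswap _ ga gb h1).elim⟩
  haveI : Finite R := Finite.of_injective (fun z : R => (z : Ω)) Subtype.val_injective
  haveI : IsPretransitive H R := ⟨fun z w => by
    obtain ⟨g, hg⟩ := exists_smul_eq G₂ (toR₂ z) (toR₂ w)
    exact ⟨ι g, Subtype.ext (congrArg (fun w : R₂ => ((w : R₁) : Ω)) hg)⟩⟩
  -- an element inverting an element of order `q`
  haveI : IsCyclic (Q : Subgroup G₂) := isCyclic_of_prime_card hQcard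
  obtain ⟨u₂, hu₂⟩ := IsCyclic.exists_generator (α := (Q : Subgroup G₂))
  have hu₂o : orderOf (u₂ : G₂) = q := by
    rw [Subgroup.orderOf_coe, orderOf_eq_card_of_forall_mem_zpowers hu₂, hQcard]
  have hQu : (Q : Subgroup G₂) = Subgroup.zpowers (u₂ : G₂) := by
    refine le_antisymm (fun y hy => ?_) (Subgroup.zpowers_le.2 u₂.2)
    obtain ⟨m, hm⟩ := Subgroup.mem_zpowers_iff.1 (hu₂ ⟨y, hy⟩)
    exact ⟨m, congrArg Subtype.val hm⟩
  let u : H := ι (u₂ : G₂)
  have huo : orderOf u = q := (orderOf_injective ι hι _).trans hu₂o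
  obtain ⟨g₀, g₀a, g₀b⟩ := exists_smul_pair (G := G) hab hab.symm
  have hinvg : g₀⁻¹ • a = (b : Ω) ∧ g₀⁻¹ • (b : Ω) = a :=
    ⟨inv_smul_eq_iff.2 g₀b.symm, inv_smul_eq_iff.2 g₀a.symm⟩
  obtain ⟨v₂, hv₂⟩ : ∃ v₂ : G₂, ((v₂ : G₁) : G) = g₀ * (u : G) * g₀⁻¹ := by
    have ha : (g₀ * (u : G) * g₀⁻¹) • a = a := by
      rw [mul_smul, mul_smul, hinvg.1, show (u : G) • (b : Ω) = b from (hfix₂ _).2, g₀b]
    refine ⟨⟨⟨_, ha⟩, Subtype.ext ?_⟩, rfl⟩
    show (g₀ * (u : G) * g₀⁻¹) • (b : Ω) = b
    rw [mul_smul, mul_smul, hinvg.2, show (u : G) • a = a from (hfix₂ _).1, g₀a]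
  have hv₂o : orderOf v₂ = q := by
    rw [← Subgroup.orderOf_coe, ← Subgroup.orderOf_coe, hv₂,
      show g₀ * (u : G) * g₀⁻¹ = (MulAut.conj g₀).toMonoidHom (u : G) from rfl,
      orderOf_injective _ (MulAut.conj g₀).injective, Subgroup.orderOf_coe, huo]
  obtain ⟨Q', hQ'⟩ := (IsPGroup.of_card (n := 1) (by rw [Nat.card_zpowers, hv₂o, pow_one]) :
    IsPGroup q (Subgroup.zpowers v₂)).exists_le_sylow
  obtain ⟨k₂, hk₂⟩ := exists_smul_eq G₂ Q Q'
  obtain ⟨w, hw, hwe⟩ : ∃ w ∈ (Q : Subgroup G₂), k₂ * w * k₂⁻¹ = v₂ := by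
    have h : v₂ ∈ ((k₂ • Q : Sylow q G₂) : Subgroup G₂) := hk₂ ▸ hQ' (Subgroup.mem_zpowers v₂)
    rw [Sylow.coe_subgroup_smul, Subgroup.mem_pointwise_smul_iff_inv_smul_mem] at h
    refine ⟨_, h, ?_⟩
    rw [show (MulAut.conj k₂)⁻¹ • v₂ = k₂⁻¹ * v₂ * k₂ by
      rw [← map_inv, MulAut.smul_def, MulAut.conj_apply, inv_inv]]
    group
  let nn : H := ⟨((k₂ : G₁) : G)⁻¹ * g₀, Or.inr ⟨by
    rw [mul_smul, g₀a]; exact inv_smul_eq_iff.2 (hfix₂ k₂).2.symm, by
    rw [mul_smul, g₀b]; exact inv_smul_eq_iff.2 (hfix₂ k₂).1.symm⟩⟩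
  have hnn : nn * u * nn⁻¹ = ι w := by
    refine Subtype.ext ?_
    show ((k₂ : G₁) : G)⁻¹ * g₀ * (u : G) * (((k₂ : G₁) : G)⁻¹ * g₀)⁻¹ = ((w : G₁) : G)
    have h := congrArg (fun y : G₂ => ((y : G₁) : G)) hwe
    simp only [Subgroup.coe_mul, Subgroup.coe_inv, hv₂] at h
    calc ((k₂ : G₁) : G)⁻¹ * g₀ * (u : G) * (((k₂ : G₁) : G)⁻¹ * g₀)⁻¹
        = ((k₂ : G₁) : G)⁻¹ * (g₀ * (u : G) * g₀⁻¹) * ((k₂ : G₁) : G) := by group
      _ = _ := by rw [← h]; group
  have hwV : ι w ∈ Subgroup.zpowers u := by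
    rw [← MonoidHom.map_zpowers]
    exact ⟨w, hQu ▸ hw, rfl⟩
  have hu1 : u ≠ 1 := fun e => by rw [e, orderOf_one] at huo; omega
  have hnorm : nn ∈ Subgroup.normalizer ((Subgroup.zpowers u : Subgroup H) : Set H) := by
    have hmap : (Subgroup.zpowers u).map (MulAut.conj nn).toMonoidHom = Subgroup.zpowers u := by
      rw [MonoidHom.map_zpowers]
      refine zpowers_eq_of_mem hq huo ?_ fun e =>
        hu1 ((MulAut.conj nn).injective (e.trans (map_one _).symm))
      show nn * u * nn⁻¹ ∈ _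
      exact hnn ▸ hwV
    rw [Subgroup.mem_normalizer_iff]
    intro y
    conv_rhs => rw [← hmap]
    exact ⟨fun hy => ⟨y, hy, rfl⟩, fun ⟨z, hz, e⟩ => (MulAut.conj nn).injective e ▸ hz⟩
  let α : MulAut (Subgroup.zpowers u) := Subgroup.normalizerMonoidHom _ ⟨nn, hnorm⟩
  have hα : ∀ (m : ℕ) (y : Subgroup.zpowers u), ((α ^ m) y : H) = nn ^ m * y * (nn ^ m)⁻¹ := by
    intro m y
    simp only [α]
    rw [← map_pow, Subgroup.normalizerMonoidHom_apply_apply_coe]
    rfl
  obtain ⟨n, hn⟩ : ∃ n : H, n * u * n⁻¹ = u⁻¹ := by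
    rcases Nat.even_or_odd (orderOf α) with ⟨m, hm⟩ | hodd
    · refine ⟨nn ^ m, ?_⟩
      have hne : α ^ m ≠ 1 := pow_ne_one_of_lt_orderOf (by have := orderOf_pos α; omega)
        (by have := orderOf_pos α; omega)
      have h2' : (α ^ m) * (α ^ m) = 1 := by rw [← pow_add, ← hm, pow_orderOf_eq_one]
      let U : Subgroup.zpowers u := ⟨u, Subgroup.mem_zpowers u⟩
      have hgen : ∀ y : Subgroup.zpowers u, ∃ l : ℤ, U ^ l = y := fun y => by
        obtain ⟨l, hl⟩ := Subgroup.mem_zpowers_iff.1 y.2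
        exact ⟨l, Subtype.ext hl⟩
      obtain ⟨i, hi⟩ := hgen ((α ^ m) U)
      have hUo : orderOf U = q := by rw [← Subgroup.orderOf_coe]; exact huo
      have hii : U ^ (i * i - 1) = 1 := by
        have h := DFunLike.congr_fun h2' U
        rw [MulAut.mul_apply, ← hi, map_zpow, ← hi, MulAut.one_apply, ← zpow_mul] at h
        rw [zpow_sub, h, zpow_one, mul_inv_cancel]
      rw [← orderOf_dvd_iff_zpow_eq_one, hUo, show i * i - 1 = (i - 1) * (i + 1) by ring] at hii
      rcases (Nat.prime_iff_prime_int.1 hq).dvd_or_dvd hii with h | h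
      · exfalso
        apply hne
        refine MulEquiv.ext fun y => ?_
        obtain ⟨l, rfl⟩ := hgen y
        rw [← hUo, orderOf_dvd_iff_zpow_eq_one, zpow_sub, zpow_one, mul_inv_eq_one] at h
        rw [map_zpow, ← hi, h, MulAut.one_apply]
      · rw [← hUo, orderOf_dvd_iff_zpow_eq_one, zpow_add, zpow_one] at h
        have := hα m U
        rw [← hi, eq_inv_of_mul_eq_one_left h] at this
        exact this.symm
    · exfalso
      set z := nn ^ orderOf α with hz
      have hzu : z * u * z⁻¹ = u := by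
        have := hα (orderOf α) ⟨u, Subgroup.mem_zpowers u⟩
        rw [pow_orderOf_eq_one] at this
        exact this.symm
      have hcomm : Commute z u := mul_inv_eq_iff_eq_mul.1 hzu
      have hsw : (z : G) • a = (b : Ω) ∧ (z : G) • (b : Ω) = a := by
        have key : ∀ g : G, g • a = (b : Ω) → g • (b : Ω) = a → ∀ m : ℕ,
            g ^ (2 * m + 1) • a = (b : Ω) ∧ g ^ (2 * m + 1) • (b : Ω) = a := by
          intro g ga gb m
          induction m with
          | zero => simp [ga, gb]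
          | succ m ih =>
            rw [show 2 * (m + 1) + 1 = 2 * m + 1 + 1 + 1 by ring]
            simp [pow_succ', mul_smul] at ih ⊢
            simp [ih.1, ih.2, ga, gb]
        obtain ⟨m, hm⟩ := hodd
        rw [hz, hm, SubgroupClass.coe_pow]
        rcases nn.2 with h | h
        · refine absurd ?_ hab
          have h' : ((k₂ : G₁) : G)⁻¹ • g₀ • a = a := (mul_smul _ _ _).symm.trans h.1
          rw [g₀a, inv_smul_eq_iff, (hfix₂ k₂).1] at h'
          exact h'.symm
        · exact key _ h.1 h.2 m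
      haveI : Nonempty R := Finite.card_pos_iff.1 (by rw [hR]; omega)
      obtain ⟨c⟩ := ‹Nonempty R›
      have htr : ∀ y : R, ∃ l : ℤ, u ^ l • c = y := by
        intro y
        have hinj : Function.Injective fun l : Subgroup.zpowers u => (l : H) • c := by
          intro l l' e
          by_contra hne
          have h1 : ((l' : H))⁻¹ * l ≠ 1 := fun h => hne (Subtype.ext (inv_mul_eq_one.1 h).symm)
          have hst : Subgroup.zpowers u ≤ stabilizer H c := by
            rw [← zpowers_eq_of_mem hq huo ((Subgroup.zpowers u).mul_mem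
              ((Subgroup.zpowers u).inv_mem l'.2) l.2) h1, Subgroup.zpowers_le]
            show ((l' : H)⁻¹ * l) • c = c
            rw [mul_smul, inv_smul_eq_iff]
            exact e
          refine hu1 (eq_of_smul_eq_smul fun y : R => ?_)
          rw [one_smul]
          haveI : IsPreprimitive H R := IsPreprimitive.of_prime_card (hR.symm ▸ hq)
          by_contra hy
          obtain ⟨s, hs⟩ := (IsPGroup.of_card (n := 1)
            (by rw [Nat.card_zpowers, huo, pow_one]) : IsPGroup q (Subgroup.zpowers u)).card_orbit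
              (⟨y.1, y.2⟩ : R)
          have hle : Nat.card (orbit (Subgroup.zpowers u) y) + 1 ≤ q := by
            rw [← hR, Nat.card_coe_set_eq, ← Set.ncard_univ, ← Set.ncard_insert_of_notMem (a := c)]
            · exact Set.ncard_le_ncard (Set.subset_univ _)
            · rintro ⟨t, ht⟩
              apply hy
              have hty : y = c := MulAction.injective (t : H) (ht.trans (hst t.2).symm)
              rw [hty]
              exact hst (Subgroup.mem_zpowers u)
          rw [hs] at hle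
          rcases s with _ | s
          · apply hy
            rw [Nat.card_coe_set_eq, pow_zero, Set.ncard_eq_one] at hs
            obtain ⟨y', hy'⟩ := hs
            have h1 : u • y ∈ orbit (Subgroup.zpowers u) y := ⟨⟨u, Subgroup.mem_zpowers u⟩, rfl⟩
            have h2 : y ∈ orbit (Subgroup.zpowers u) y := mem_orbit_self y
            rw [hy', Set.mem_singleton_iff] at h1 h2
            rw [h1, h2]
          · have : q ≤ q ^ (s + 1) := Nat.le_self_pow (by omega) q
            omega
        obtain ⟨⟨l, hl⟩, hl'⟩ := ((Nat.bijective_iff_injective_and_card _).2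
          ⟨hinj, by rw [Nat.card_zpowers, huo, hR]⟩).2 y
        obtain ⟨m, rfl⟩ := Subgroup.mem_zpowers_iff.1 hl
        exact ⟨m, hl'⟩
      obtain ⟨l, hl⟩ := htr (z • c)
      refine hnoswap ((u ^ (-l) * z : H) : G) ?_ ?_ fun y hya hyb => ?_
      · rw [Subgroup.coe_mul, mul_smul, hsw.1]
        exact (stabilizer G (b : Ω)).zpow_mem (show (u : G) ∈ stabilizer G (b : Ω) from (hfix₂ _).2) (-l)
      · rw [Subgroup.coe_mul, mul_smul, hsw.2]
        exact (stabilizer G a).zpow_mem (show (u : G) ∈ stabilizer G a from (hfix₂ _).1) (-l)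
      · obtain ⟨m, hm⟩ := htr (⟨y, hya, hyb⟩ : R)
        have h : (u ^ (-l) * z) • (⟨y, hya, hyb⟩ : R) = ⟨y, hya, hyb⟩ := by
          rw [← hm, ← mul_smul, mul_assoc, (hcomm.zpow_right m).eq, ← mul_assoc, ← zpow_add,
            mul_smul, ← hl, ← mul_smul, ← zpow_add]
          congr 2
          ring
        exact congrArg Subtype.val h
  have h3H : IsMultiplyPretransitive H R 3 :=
    three_of_inverted hR hnsH u n hu1 (huo ▸ pow_orderOf_eq_one u) hn
  -- the stabiliser of two points is triply transitive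
  have h23 : IsMultiplyPretransitive G₂ R₂ 3 := by
    refine three_of_related fun c d x y hcd hxc hxd hyc hyd => ?_
    have hval : ∀ {s t : R₂}, s ≠ t → ((s : R₁) : Ω) ≠ ((t : R₁) : Ω) := fun h e =>
      h (Subtype.ext (Subtype.ext e))
    let c' : R := ⟨_, hne₁ _, hne₂ c⟩
    let d' : R := ⟨_, hne₁ _, hne₂ d⟩
    let H₀ : Subgroup H := stabilizer H c' ⊓ stabilizer H d'
    let K₀ : Subgroup H := H₀ ⊓ (stabilizer G a).comap H.subtype
    let S : Set R := ({c', d'} : Set R)ᶜ
    have hc'd' : c' ≠ d' := fun e => hval hcd (congrArg (fun w : R => (w : Ω)) e)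
    have hS : ∀ g ∈ H₀, ∀ z ∈ S, g • z ∈ S := by
      intro g hg z hz
      simp only [S, Set.mem_compl_iff, Set.mem_insert_iff, Set.mem_singleton_iff, not_or] at hz ⊢
      exact ⟨fun e => hz.1 (MulAction.injective g (e.trans hg.1.symm)),
        fun e => hz.2 (MulAction.injective g (e.trans hg.2.symm))⟩
    have htr : ∀ z ∈ S, ∀ w ∈ S, ∃ g ∈ H₀, g • z = w := by
      intro z hz w hw
      simp only [S, Set.mem_compl_iff, Set.mem_insert_iff, Set.mem_singleton_iff, not_or] at hz hw
      have hinj : ∀ z : R, z ≠ c' → z ≠ d' → Function.Injective ![c', d', z] := by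
        intro z h1 h2 i j h
        fin_cases i <;> fin_cases j <;>
          simp_all [hc'd'.symm, Ne.symm h1, Ne.symm h2]
      obtain ⟨g, hg⟩ := isMultiplyPretransitive_iff.1 h3H
        (⟨_, hinj z hz.1 hz.2⟩ : Fin 3 ↪ R) ⟨_, hinj w hw.1 hw.2⟩
      exact ⟨g, ⟨DFunLike.congr_fun hg 0, DFunLike.congr_fun hg 1⟩, DFunLike.congr_fun hg 2⟩
    have hodd : S.ncard % 2 = 1 := by
      rw [Set.ncard_compl, Set.ncard_pair hc'd', hR]
      omega
    have hprod : ∀ g ∈ H₀, g ∉ K₀ → ∀ k ∈ H₀, k ∉ K₀ → g * k ∈ K₀ := by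
      intro g hg hgK k hk hkK
      refine ⟨H₀.mul_mem hg hk, ?_⟩
      have hgn : ¬ ((g : G) • a = a) := fun h => hgK ⟨hg, h⟩
      have hkn : ¬ ((k : G) • a = a) := fun h => hkK ⟨hk, h⟩
      show ((g * k : H) : G) • a = a
      rw [Subgroup.coe_mul, mul_smul, (k.2.resolve_left fun h => hkn h.1).1,
        (g.2.resolve_left fun h => hgn h.1).2]
    have hmem : ∀ z : R₂, z ≠ c → z ≠ d → (⟨_, hne₁ _, hne₂ z⟩ : R) ∈ S := by
      intro z h1 h2
      simp only [S, Set.mem_compl_iff, Set.mem_insert_iff, Set.mem_singleton_iff, not_or]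
      exact ⟨fun e => hval h1 (congrArg (fun w : R => (w : Ω)) e),
        fun e => hval h2 (congrArg (fun w : R => (w : Ω)) e)⟩
    obtain ⟨g, ⟨⟨hgc, hgd⟩, hga⟩, hgx⟩ := transitive_of_index_two (inf_le_left : K₀ ≤ H₀) hprod S
      (Set.toFinite S) hodd hS htr _ (hmem x hxc hxd) _ (hmem y hyc hyd)
    have hga' : (g : G) • a = a := hga
    have hgb : (g : G) • (b : Ω) = b := by
      rcases g.2 with h | h
      · exact h.2
      · exact absurd (hga'.symm.trans h.1) hab
    exact ⟨⟨⟨(g : G), hga'⟩, Subtype.ext hgb⟩,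
      Subtype.ext (Subtype.ext (congrArg (fun w : R => (w : Ω)) hgc)),
      Subtype.ext (Subtype.ext (congrArg (fun w : R => (w : Ω)) hgd)),
      Subtype.ext (Subtype.ext (congrArg (fun w : R => (w : Ω)) hgx))⟩
  exact (SubMulAction.ofStabilizer.isMultiplyPretransitive (n := 4) (a := a)).2
    ((SubMulAction.ofStabilizer.isMultiplyPretransitive (n := 3) (a := b)).2 h23)

end CfsgLib.HalfPrime
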